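import Cfsg.Agent.Lib.MCEss.Const

/-!
# Subgroups `⟨u⟩ Φ j` and the commutator filtration `K j u = {g | [g, u] ∈ Φ j}`
-/

set_option autoImplicit false
set_option linter.unusedSectionVars false

namespace Cfsg.Agent.Lib.MCEss.Basic

open Subgroup Cfsg.Agent.Lib.FG7.HallPetrescu Cfsg.Agent.Lib.PGroups.UniformShift
open Cfsg.Agent.Lib.PGroups.MaxAbelian Cfsg.Agent.Lib.FGStruct.UnifZ Cfsg.Agent.Lib.FGStruct.MCBlack
open Cfsg.Agent.Lib.MCEss.Graded Cfsg.Agent.Lib.MCEss.Numeric Cfsg.Agent.Lib.MCEss.Const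
open scoped commutatorElement

universe u

variable {G : Type u} [Group G] [Finite G] {p : ℕ} [hp : Fact p.Prime] {n : ℕ}

local notation "Φ" => lcsF G

/-- `⟨u⟩ Φ j`. -/
def Q (u : G) (j : ℕ) : Subgroup G := zpowers u ⊔ lcsF G j

/-- `{g | [g, u] ∈ Φ j}`. -/
def K (j : ℕ) (u : G) : Subgroup G :=
  letI : (lcsF G j).Normal := Phi_normal j
  AN (lcsF G j) u

theorem mem_K {j : ℕ} {u g : G} : g ∈ K j u ↔ ⁅g, u⁆ ∈ Φ j := by
  letI : (lcsF G j).Normal := Phi_normal j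
  exact mem_AN _ _ _

theorem phi_le_Q (u : G) (j : ℕ) : Φ j ≤ Q u j := le_sup_right

theorem u_mem_Q (u : G) (j : ℕ) : u ∈ Q u j := mem_sup_left (mem_zpowers u)

theorem Q_anti (u : G) {i j : ℕ} (h : i ≤ j) : Q u j ≤ Q u i :=
  sup_le_sup_left (Phi_anti h) _

theorem mem_Q_iff {u x : G} {j : ℕ} (hu : u ^ p = 1) : x ∈ Q u j ↔ ∃ k : ℕ, ∃ z ∈ Φ j, x = u ^ k * z := by
  have : (lcsF G j).Normal := Phi_normal j
  constructor
  · intro hx
    obtain ⟨y, hy, z, hz, rfl⟩ := Subgroup.mem_sup_of_normal_right.1 hx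
    rw [← mem_powers_iff_mem_zpowers] at hy
    obtain ⟨k, rfl⟩ := hy
    exact ⟨k, z, hz, rfl⟩
  · rintro ⟨k, z, hz, rfl⟩
    exact (Q u j).mul_mem ((Q u j).pow_mem (u_mem_Q u j) k) (phi_le_Q u j hz)

/-- `p`-th powers of elements of order `p`. -/
theorem pow_eq_one_of_dvd {u : G} (hu : u ^ p = 1) {k : ℕ} (hk : p ∣ k) : u ^ k = 1 := by
  obtain ⟨m, rfl⟩ := hk
  rw [pow_mul, hu, one_pow]

/-- `p ∣ k` when `u ^ k ∈ Φ 2` and `u ∉ Φ 2`, `u` of order `p`. -/
theorem dvd_of_pow_mem {u : G} (hu : u ^ p = 1) (hu2 : u ∉ Φ 2) {k : ℕ} (hk : u ^ k ∈ Φ 2) : p ∣ k := by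
  by_contra hcon
  have hc : IsCoprime (k : ℤ) (p : ℤ) := by
    rw [Nat.isCoprime_iff_coprime]
    exact ((Nat.Prime.coprime_iff_not_dvd hp.out).2 hcon).symm
  obtain ⟨a, b, hab⟩ := hc
  have h1 : u = (u ^ k) ^ a := by
    rw [← zpow_natCast u k, ← zpow_mul, ← zpow_one u]
    have e : (k : ℤ) * a = 1 - b * p := by linarith
    rw [e, sub_eq_add_neg, zpow_add, zpow_one, zpow_neg, mul_comm b, zpow_mul, zpow_natCast, hu]
    simp
  rw [h1] at hu2
  exact hu2 ((Φ 2).zpow_mem hk a)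

/-- `Q u j ∩ Φ 2 = Φ j`. -/
theorem mem_of_mem_Q {u : G} (hu : u ^ p = 1) (hu2 : u ∉ Φ 2) {j : ℕ} (hj : 2 ≤ j) {x : G} (hx : x ∈ Q u j)
    (hx2 : x ∈ Φ 2) : x ∈ Φ j := by
  obtain ⟨k, z, hz, rfl⟩ := (mem_Q_iff hu).1 hx
  have hz2 : z ∈ Φ 2 := Phi_anti hj hz
  have h1 : u ^ k ∈ Φ 2 := by
    have := (Φ 2).mul_mem hx2 ((Φ 2).inv_mem hz2)
    simpa using this
  rw [pow_eq_one_of_dvd hu (dvd_of_pow_mem hu hu2 h1), one_mul]
  exact hz

theorem orderOf_u {u : G} (hu : u ^ p = 1) (hu2 : u ∉ Φ 2) : orderOf u = p := by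
  apply orderOf_eq_prime hu
  rintro rfl
  exact hu2 (one_mem _)

/-- The order of `⟨u⟩ Φ j`. -/
theorem card_Q' {u : G} (hu : u ^ p = 1) {j : ℕ} (hu2 : u ∉ Φ j) :
    Nat.card (Q u j) = p * Nat.card (Φ j) := by
  have : (lcsF G j).Normal := Phi_normal j
  have h1 := relIndex_mul_card (le_sup_right : Φ j ≤ zpowers u ⊔ Φ j)
  rw [Subgroup.relIndex_sup_right] at h1
  have h2 : (Φ j).relIndex (zpowers u) = p := by
    have hc : Nat.card (zpowers u) = p := by
      rw [Nat.card_zpowers]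
      apply orderOf_eq_prime hu
      rintro rfl
      exact hu2 (one_mem _)
    have : Fact (Nat.card (zpowers u)).Prime := ⟨by rw [hc]; exact hp.out⟩
    have hbot : (Φ j).subgroupOf (zpowers u) = ⊥ := by
      rcases Subgroup.eq_bot_or_eq_top_of_prime_card ((Φ j).subgroupOf (zpowers u)) with h3 | h3
      · exact h3
      · exfalso
        rw [Subgroup.subgroupOf_eq_top] at h3
        exact hu2 (h3 (mem_zpowers u))
    unfold Subgroup.relIndex
    rw [hbot, Subgroup.index_bot, hc]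
  rw [h2] at h1
  exact h1.symm

theorem card_Q {u : G} (hu : u ^ p = 1) (hu2 : u ∉ Φ 2) {j : ℕ} (hj : 2 ≤ j) :
    Nat.card (Q u j) = p * Nat.card (Φ j) :=
  card_Q' hu (fun h => hu2 (Phi_anti hj h))

theorem card_Q_eq (h : MC p n G) {u : G} (hu : u ^ p = 1) (hu2 : u ∉ Φ 2) {j : ℕ} (hj : 2 ≤ j) (hjn : j ≤ n) :
    Nat.card (Q u j) = p ^ (n - j + 1) := by
  rw [card_Q hu hu2 hj, h.card_Phi hj hjn, pow_succ, mul_comm]

/-- A frame exists. -/
theorem exists_fr (h : MC p n G) : ∃ F : Fr G p n, True := by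
  have h1 : ∀ j, ∃ y : G, 2 ≤ j → j < n → W j y := by
    intro j
    by_cases hj : 2 ≤ j ∧ j < n
    · obtain ⟨y, hy⟩ := h.exists_W hj.1 hj.2
      exact ⟨y, fun _ _ => hy⟩
    · exact ⟨1, fun h2 h3 => (hj ⟨h2, h3⟩).elim⟩
  choose x hx using h1
  exact ⟨⟨h, x, fun j hj hjn => hx j hj hjn⟩, trivial⟩

/-- The coefficient homomorphism on `K j u`. -/
noncomputable def kHom (F : Fr G p n) (u : G) {j : ℕ} (hj : 2 ≤ j) (hjn : j < n) :
    K j u →* Multiplicative (ZMod p) :=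
  MonoidHom.mk' (fun g => Multiplicative.ofAdd (cf F j ⁅(g : G), u⁆)) (by
    intro a b
    have hb : ⁅(b : G), u⁆ ∈ Φ j := mem_K.1 b.2
    have ha : ⁅(a : G), u⁆ ∈ Φ j := mem_K.1 a.2
    show Multiplicative.ofAdd (cf F j ⁅(a : G) * b, u⁆) = _
    rw [comm_mul_left, cf_mul F hj hjn ((Phi_normal j).conj_mem _ hb _) ha, cf_conj F hj hjn _ hb,
      add_comm, ofAdd_add])

/-- Each step of the filtration `K` has index at most `p`. -/
theorem card_K_step (h : MC p n G) (u : G) {j : ℕ} (hj : 2 ≤ j) (hjn : j < n) :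
    Nat.card (K j u) ≤ p * Nat.card (K (j + 1) u) := by
  obtain ⟨F, -⟩ := exists_fr h
  have hker : ∀ g : K j u, g ∈ (kHom F u hj hjn).ker → (g : G) ∈ K (j + 1) u := by
    intro g hg
    rw [MonoidHom.mem_ker] at hg
    have h1 : cf F j ⁅(g : G), u⁆ = 0 := Multiplicative.ofAdd.injective hg
    rw [mem_K]
    exact mem_of_cf_eq_zero F hj hjn (mem_K.1 g.2) h1
  have c1 := (kHom F u hj hjn).ker.card_mul_index
  rw [Subgroup.index_ker] at c1
  have c2 : Nat.card (kHom F u hj hjn).range ≤ p := by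
    have h1 : Nat.card (kHom F u hj hjn).range ≤ Nat.card (Multiplicative (ZMod p)) := Subgroup.card_le_card_group _
    have h2 : Nat.card (Multiplicative (ZMod p)) = p := by
      rw [Nat.card_congr (Multiplicative.toAdd (α := ZMod p)), Nat.card_zmod]
    omega
  have c3 : Nat.card (kHom F u hj hjn).ker ≤ Nat.card (K (j + 1) u) := by
    have hle : (kHom F u hj hjn).ker.map (K j u).subtype ≤ K (j + 1) u := by
      rintro _ ⟨g, hg, rfl⟩
      exact hker g hg
    rw [← Subgroup.card_map_of_injective (K j u).subtype_injective]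
    exact Nat.card_le_card_of_injective _ (Subgroup.inclusion_injective hle)
  rw [← c1, mul_comm]
  exact Nat.mul_le_mul c2 c3

/-- Iterated form. -/
theorem card_K_iter (h : MC p n G) (u : G) {j : ℕ} (hj : 2 ≤ j) :
    ∀ k, j + k ≤ n → Nat.card (K j u) ≤ p ^ k * Nat.card (K (j + k) u) := by
  intro k
  induction k with
  | zero =>
    intro _
    simp
  | succ k ih =>
    intro hk
    have h1 := ih (by omega)
    have h2 := card_K_step h u (j := j + k) (by omega) (by omega)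
    calc Nat.card (K j u) ≤ p ^ k * Nat.card (K (j + k) u) := h1
      _ ≤ p ^ k * (p * Nat.card (K (j + k + 1) u)) := Nat.mul_le_mul_left _ h2
      _ = p ^ (k + 1) * Nat.card (K (j + (k + 1)) u) := by
        rw [pow_succ, mul_assoc, show j + (k + 1) = j + k + 1 from rfl]

theorem Q_le_K (u : G) {i j : ℕ} (h : j ≤ i + 1) : Q u i ≤ K j u := by
  refine sup_le ?_ ?_
  · rw [zpowers_le, mem_K, commutatorElement_self]
    exact one_mem _
  · intro g hg
    rw [mem_K]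
    exact cm' hg (mem_one u) h

/-- One step down: if `K (j + 1) u = ⟨u⟩ Φ j` then `K j u = ⟨u⟩ Φ (j - 1)`. -/
theorem K_step (h : MC p n G) {u : G} (hu : u ^ p = 1) (hu2 : u ∉ Φ 2) {j : ℕ} (hj : 3 ≤ j) (hjn : j < n)
    (hK : K (j + 1) u = Q u j) : K j u = Q u (j - 1) := by
  symm
  apply Subgroup.eq_of_le_of_card_ge (Q_le_K u (by omega))
  have c1 := card_K_step h u (j := j) (by omega) hjn
  rw [hK, card_Q_eq h hu hu2 (by omega) (by omega)] at c1
  rw [card_Q_eq h hu hu2 (by omega) (by omega)]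
  calc _ ≤ _ := c1
    _ = p ^ (n - (j - 1) + 1) := by
      rw [← pow_succ']
      congr 1
      omega

/-- Going down the filtration. -/
theorem K_down (h : MC p n G) {u : G} (hu : u ^ p = 1) (hu2 : u ∉ Φ 2) {M : ℕ} (hMn : M < n)
    (hK : K (M + 1) u = Q u M) : ∀ j, 3 ≤ j → j ≤ M → K j u = Q u (j - 1) := by
  have key : ∀ d j, 3 ≤ j → j + d = M → K j u = Q u (j - 1) ∧ True := by
    intro d
    induction d with
    | zero =>
      intro j hj hjM
      obtain rfl : j = M := by omega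
      exact ⟨K_step h hu hu2 hj hMn hK, trivial⟩
    | succ d ih =>
      intro j hj hjM
      obtain ⟨h1, -⟩ := ih (j + 1) (by omega) (by omega)
      rw [show j + 1 - 1 = j by omega] at h1
      exact ⟨K_step h hu hu2 hj (by omega) h1, trivial⟩
  intro j hj hjM
  exact (key (M - j) j hj (by omega)).1

/-- `K 3 u` always has index `p`. -/
theorem K_three (h : MC p n G) (h4 : 4 ≤ n) {u : G} (hu2 : u ∉ Φ 2) : K 3 u = Q u 2 := by
  symm
  by_contra hne
  have hlt : zpowers u ⊔ Φ 2 < K 3 u := lt_of_le_of_ne (Q_le_K u (by omega)) hne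
  have htop := eq_top_of_lt_sM h hu2 hlt
  have hq := h.quot (k := 3) (by omega) (by omega)
  refine hq.not_central (s := QuotientGroup.mk' (Φ 3) u) ?_ ?_
  · intro hmem
    exact hu2 ((mem_lcsF_quot (k := 3) (i := 2) (by omega) u).1 hmem)
  · intro g
    obtain ⟨g, rfl⟩ := QuotientGroup.mk'_surjective (Φ 3) g
    have h1 : g ∈ K 3 u := htop ▸ mem_top g
    rw [mem_K] at h1
    have h2 : QuotientGroup.mk' (Φ 3) ⁅g, u⁆ = 1 := by
      rw [QuotientGroup.mk'_apply, QuotientGroup.eq_one_iff]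
      exact h1
    rw [map_commutatorElement, commutatorElement_eq_one_iff_mul_comm] at h2
    exact h2

/-- A conjugation mapping a subgroup into itself normalizes it. -/
theorem mem_normalizer_of_conj_le {E : Subgroup G} {g : G} (h : ∀ x ∈ E, g * x * g⁻¹ ∈ E) :
    g ∈ Subgroup.normalizer (E : Set G) := by
  have hle : E.map (MulAut.conj g).toMonoidHom ≤ E := by
    rintro _ ⟨x, hx, rfl⟩
    exact h x hx
  have hcard : Nat.card E ≤ Nat.card (E.map (MulAut.conj g).toMonoidHom) := by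
    rw [Subgroup.card_map_of_injective (MulAut.conj g).injective]
  have heq := Subgroup.eq_of_le_of_card_ge hle hcard
  rw [Subgroup.mem_normalizer_iff]
  intro x
  constructor
  · exact h x
  · intro hx
    rw [← heq] at hx
    obtain ⟨y, hy, e⟩ := hx
    have e2 : g * y * g⁻¹ = g * x * g⁻¹ := e
    have : y = x := by
      have := mul_left_cancel (mul_right_cancel e2)
      exact this
    rwa [← this]

theorem K_le_normalizer_Q {u : G} (hu : u ^ p = 1) {j : ℕ} : K j u ≤ Subgroup.normalizer (Q u j : Set G) := by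
  have hnorm : (lcsF G j).Normal := Phi_normal j
  intro g hg
  rw [mem_K] at hg
  apply mem_normalizer_of_conj_le
  intro x hx
  obtain ⟨k, z, hz, rfl⟩ := (mem_Q_iff hu).1 hx
  have e : g * (u ^ k * z) * g⁻¹ = (g * u * g⁻¹) ^ k * (g * z * g⁻¹) := by
    rw [conj_pow]
    group
  rw [e]
  refine (Q u j).mul_mem ((Q u j).pow_mem ?_ k) (phi_le_Q u j (hnorm.conj_mem _ hz _))
  have e2 : g * u * g⁻¹ = ⁅g, u⁆ * u := by
    rw [commutatorElement_def]
    group
  rw [e2]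
  exact (Q u j).mul_mem (phi_le_Q u j hg) (u_mem_Q u j)

/-- The normalizer of `⟨u⟩ Φ j`. -/
theorem normalizer_Q {u : G} (hu : u ^ p = 1) (hu2 : u ∉ Φ 2) {j : ℕ} (hj : 2 ≤ j) :
    Subgroup.normalizer (Q u j : Set G) = K j u := by
  apply le_antisymm _ (K_le_normalizer_Q hu)
  intro g hg
  rw [mem_K]
  have h1 : g * u * g⁻¹ ∈ Q u j := (Subgroup.mem_normalizer_iff.1 hg u).1 (u_mem_Q u j)
  have h2 : ⁅g, u⁆ ∈ Q u j := by
    have e : ⁅g, u⁆ = (g * u * g⁻¹) * u⁻¹ := rfl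
    rw [e]
    exact (Q u j).mul_mem h1 ((Q u j).inv_mem (u_mem_Q u j))
  exact mem_of_mem_Q hu hu2 hj h2 (cm (mem_one g) (mem_one u))

theorem K_two (u : G) : K 2 u = ⊤ := by
  rw [eq_top_iff]
  intro g _
  rw [mem_K]
  exact cm' (mem_one g) (mem_one u) (by omega)

end Cfsg.Agent.Lib.MCEss.Basic
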