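import Mathlib

/-!
# The arithmetic of the structure constants of a group of maximal class
-/

set_option autoImplicit false

namespace Cfsg.Agent.Lib.MCEss.Numeric

variable {p : ℕ} [hp : Fact p.Prime]

/-- The hypotheses: graded Jacobi identities between the structure constants. -/
structure Rel (d : ℕ) (a : ℕ → ℕ → ZMod p) (b : ℕ → ZMod p) : Prop where
  V : ∀ i k, 2 ≤ i → 2 ≤ k → i + k + 1 ≤ d → a i k = a (i + 1) k + a i (k + 1)
  W : ∀ i, 2 ≤ i → i + 2 ≤ d → b i + a 2 i - b (i + 1) = 0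
  U : ∀ i k, 2 ≤ i → 2 ≤ k → i + k + 1 ≤ d → a i k * b (i + k) = b k * a i (k + 1) + b i * a (i + 1) k
  skew : ∀ i k, 2 ≤ i → 2 ≤ k → i + k ≤ d → a k i = - a i k

variable {d : ℕ} {a : ℕ → ℕ → ZMod p} {b : ℕ → ZMod p}

theorem Rel.low (R : Rel d a b) {m : ℕ} (hmd : m + 1 ≤ d) (hb0 : ∀ j, 2 ≤ j → j < m → b j = 0) :
    ∀ k, 2 ≤ k → ∀ i, 2 ≤ i → i + k ≤ m → a i k = 0 := by
  intro k hk
  induction k, hk using Nat.le_induction with
  | base =>
    intro i hi him
    have h1 := R.W i hi (by omega)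
    rw [hb0 i hi (by omega), hb0 (i + 1) (by omega) (by omega), zero_add, sub_zero] at h1
    rw [R.skew 2 i le_rfl hi (by omega), h1, neg_zero]
  | succ k hk ih =>
    intro i hi him
    have h1 := R.V i k hi hk (by omega)
    rw [ih i hi (by omega), ih (i + 1) (by omega) (by omega), zero_add] at h1
    exact h1.symm

theorem Rel.top (R : Rel d a b) {m : ℕ} (hmd : m + 1 ≤ d) (hm3 : 3 ≤ m) (hb0 : ∀ j, 2 ≤ j → j < m → b j = 0) :
    ∀ i, 2 ≤ i → i + 1 ≤ m → a i (m + 1 - i) = (-1) ^ i * b m := by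
  intro i hi
  induction i, hi using Nat.le_induction with
  | base =>
    intro _
    have h1 := R.W (m - 1) (by omega) (by omega)
    rw [hb0 (m - 1) (by omega) (by omega), show m - 1 + 1 = m by omega, zero_add] at h1
    rw [show m + 1 - 2 = m - 1 by omega]
    simp only [even_two, Even.neg_pow, one_pow, one_mul]
    exact sub_eq_zero.1 h1
  | succ i hi ih =>
    intro him
    have h0 := ih (by omega)
    have h1 := R.V i (m - i) hi (by omega) (by omega)
    rw [R.low hmd hb0 (m - i) (by omega) i hi (by omega)] at h1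
    rw [show m - i + 1 = m + 1 - i by omega, h0] at h1
    rw [show m + 1 - (i + 1) = m - i by omega, pow_succ]
    have h2 := eq_neg_of_add_eq_zero_left h1.symm
    rw [h2]
    ring

theorem ne_two_cast (hodd : p ≠ 2) {x : ZMod p} (h : x = - x) : x = 0 := by
  have h2 : (2 : ZMod p) ≠ 0 := by
    intro h0
    have h3 : ((2 : ℕ) : ZMod p) = 0 := by exact_mod_cast h0
    rw [ZMod.natCast_eq_zero_iff] at h3
    exact hodd ((Nat.prime_dvd_prime_iff_eq hp.out Nat.prime_two).1 h3)
  have h3 : 2 * x = 0 := by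
    linear_combination h
  exact (mul_eq_zero.1 h3).resolve_left h2

/-- `m` is even. -/
theorem Rel.even (R : Rel d a b) (hodd : p ≠ 2) {m : ℕ} (hmd : m + 1 ≤ d) (hm3 : 3 ≤ m)
    (hb0 : ∀ j, 2 ≤ j → j < m → b j = 0) (hbm : b m ≠ 0) : Even m := by
  by_contra hodd'
  have hm : Odd m := Nat.not_even_iff_odd.1 hodd'
  have h1 := R.top hmd hm3 hb0 (m - 1) (by omega) (by omega)
  rw [show m + 1 - (m - 1) = 2 by omega] at h1
  have h2 := R.top hmd hm3 hb0 2 le_rfl (by omega)
  rw [show m + 1 - 2 = m - 1 by omega] at h2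
  have h3 := R.skew 2 (m - 1) le_rfl (by omega) (by omega)
  have he : Even (m - 1) := by
    obtain ⟨q, rfl⟩ := hm
    exact ⟨q, by omega⟩
  rw [he.neg_pow, one_pow, one_mul] at h1
  simp only [even_two, Even.neg_pow, one_pow, one_mul] at h2
  rw [h1, h2] at h3
  exact hbm (ne_two_cast hodd h3)

/-- The second layer. -/
theorem Rel.second (R : Rel d a b) {m : ℕ} (hmd : m + 2 ≤ d) (hm3 : 3 ≤ m) (hb0 : ∀ j, 2 ≤ j → j < m → b j = 0)
    (hbm : b m ≠ 0) : b (m + 1) = 0 ∧ ∀ i, 2 ≤ i → i ≤ m → a i (m + 2 - i) = (-1) ^ (i + 1) * ((i : ZMod p) - 1) * b m := by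
  have hT := R.top (m := m) (by omega) hm3 hb0
  have h1 : b (m + 1) = 0 := by
    have h2 := R.U 2 (m - 1) le_rfl (by omega) (by omega)
    rw [hb0 (m - 1) (by omega) (by omega), hb0 2 le_rfl (by omega), zero_mul, zero_mul, add_zero,
      show 2 + (m - 1) = m + 1 by omega] at h2
    have h3 := hT 2 le_rfl (by omega)
    rw [show m + 1 - 2 = m - 1 by omega] at h3
    simp only [even_two, Even.neg_pow, one_pow, one_mul] at h3
    rw [h3] at h2
    exact (mul_eq_zero.1 h2).resolve_left hbm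
  refine ⟨h1, ?_⟩
  intro i hi
  induction i, hi using Nat.le_induction with
  | base =>
    intro _
    have h2 := R.W m (by omega) (by omega)
    rw [h1, sub_zero] at h2
    rw [show m + 2 - 2 = m by omega]
    have h3 : a 2 m = - b m := eq_neg_of_add_eq_zero_right h2
    rw [h3]
    norm_num
  | succ i hi ih =>
    intro him
    have h0 := ih (by omega)
    have h2 := R.V i (m + 1 - i) hi (by omega) (by omega)
    rw [hT i hi (by omega), show m + 1 - i + 1 = m + 2 - i by omega, h0] at h2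
    rw [show m + 2 - (i + 1) = m + 1 - i by omega]
    have h3 : a (i + 1) (m + 1 - i) = (-1) ^ i * b m - (-1) ^ (i + 1) * ((i : ZMod p) - 1) * b m := by
      rw [h2]
      ring
    rw [h3]
    push_cast
    ring

/-- **The first jump is at least `2p`.** -/
theorem Rel.jump (R : Rel d a b) (hodd : p ≠ 2) {m : ℕ} (hmd : m + 2 ≤ d) (hm3 : 3 ≤ m)
    (hb0 : ∀ j, 2 ≤ j → j < m → b j = 0) (hbm : b m ≠ 0) : 2 * p ≤ m := by
  obtain ⟨q, hq⟩ := R.even hodd (m := m) (by omega) hm3 hb0 hbm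
  obtain ⟨-, h2⟩ := R.second hmd hm3 hb0 hbm
  have h3 := h2 (q + 1) (by omega) (by omega)
  rw [show m + 2 - (q + 1) = q + 1 by omega] at h3
  have h4 : a (q + 1) (q + 1) = 0 := ne_two_cast hodd (R.skew (q + 1) (q + 1) (by omega) (by omega) (by omega))
  rw [h4] at h3
  have h5 : (-1 : ZMod p) ^ (q + 1 + 1) ≠ 0 := pow_ne_zero _ (neg_ne_zero.2 one_ne_zero)
  have h6 : ((((q + 1 : ℕ) : ZMod p) - 1) * b m) = 0 := by
    have := h3.symm
    rw [mul_assoc] at this
    exact (mul_eq_zero.1 this).resolve_left h5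
  have h7 : ((q : ℕ) : ZMod p) = 0 := by
    have h8 := (mul_eq_zero.1 h6).resolve_right hbm
    push_cast at h8
    simpa using h8
  rw [ZMod.natCast_eq_zero_iff] at h7
  have hq0 : 0 < q := by omega
  have := Nat.le_of_dvd hq0 h7
  omega

end Cfsg.Agent.Lib.MCEss.Numeric
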