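import Cfsg.Agent.Lib.MCEss.Graded
import Cfsg.Agent.Lib.MCEss.Numeric

/-!
# The two-step centralizers of a group of maximal class are all equal

`Mj j = Mj 2` for `2 ≤ j ≤ n - 3`. The last one, `Mj (n - 2) = C_G(Z₂)`, can be different ("exceptional" case) and then
`n` is even and the top pairing on the layers is non-degenerate.
-/

set_option autoImplicit false
set_option linter.unusedSectionVars false

namespace Cfsg.Agent.Lib.MCEss.Const

open Subgroup Cfsg.Agent.Lib.FG7.HallPetrescu Cfsg.Agent.Lib.PGroups.UniformShift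
open Cfsg.Agent.Lib.PGroups.MaxAbelian Cfsg.Agent.Lib.FGStruct.UnifZ Cfsg.Agent.Lib.FGStruct.MCBlack
open Cfsg.Agent.Lib.MCEss.Graded Cfsg.Agent.Lib.MCEss.Numeric
open scoped commutatorElement

universe u

variable {G : Type u} [Group G] [Finite G] {p : ℕ} [hp : Fact p.Prime] {n : ℕ}

local notation "Φ" => lcsF G

/-- The elements of the frame of a pair of generators. -/
def xs (s v : G) : ℕ → G
  | 0 => 1
  | 1 => s
  | (j + 2) => ⁅xs s v (j + 1), v⁆

theorem xs_succ (s v : G) {j : ℕ} (hj : 1 ≤ j) : xs s v (j + 1) = ⁅xs s v j, v⁆ := by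
  obtain ⟨i, rfl⟩ : ∃ i, j = i + 1 := ⟨j - 1, by omega⟩
  rfl

theorem xs_W (h : MC p n G) {v s : G} (hv : Unif p v) (hvs : s ∉ zpowers v ⊔ Φ 2) {j : ℕ} (hj : 2 ≤ j) (hjn : j < n) :
    W j (xs s v j) := by
  induction j, hj using Nat.le_induction with
  | base =>
    have hv2 : v ∉ Φ 2 := by
      have := hv.not_mem
      rwa [← lcs_one] at this
    have h1 := h.D_first hv hv2 hvs
    rw [D_mem_iff] at h1
    exact ⟨cm (mem_one s) (mem_one v), h1⟩
  | succ j hj ih =>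
    have h1 := ih (by omega)
    rw [xs_succ s v (by omega)]
    refine ⟨?_, ?_⟩
    · have := cm h1.1 (mem_one v)
      exact this
    · obtain ⟨i, rfl⟩ : ∃ i, j = i + 1 := ⟨j - 1, by omega⟩
      have hne : Subgroup.lowerCentralSeries (⊤ : Subgroup G) (i + 1) ≠ ⊥ := h.ne_bot (j := i + 2) (by omega)
      have h2 := hv.D_not_mem (k := i) (by omega) hne h1.1 h1.2
      have : (Φ (i + 1 + 1 + 1)).Normal := Phi_normal _
      intro h3
      apply h2
      exact (D_mem_iff (Φ (i + 1 + 1 + 1)) v _).2 h3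

/-- The frame of a pair of generators. -/
def mkFr (h : MC p n G) {v s : G} (hv : Unif p v) (hvs : s ∉ zpowers v ⊔ Φ 2) : Fr G p n where
  mc := h
  x := xs s v
  hW := fun _ hj hjn => xs_W h hv hvs hj hjn

section rel

variable (h : MC p n G) {v s : G} (hv : Unif p v) (hvs : s ∉ zpowers v ⊔ lcsF G 2)

/-- Commutating with `v` shifts the layers. -/
theorem cf_comm_v {j : ℕ} (hj : 2 ≤ j) (hjn : j + 1 < n) {y : G} (hy : y ∈ Φ j) :
    cf (mkFr h hv hvs) (j + 1) ⁅y, v⁆ = cf (mkFr h hv hvs) j y := by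
  set F := mkFr h hv hvs with hF
  rw [cc_basis_left F (by omega) hjn rfl hj hy (mem_one v)]
  have e : ⁅F.x j, v⁆ = F.x (j + 1) := (xs_succ s v (by omega)).symm
  rw [e, cf_self F (by omega) hjn, mul_one]

/-- The structure constants. -/
noncomputable def aa (F : Fr G p n) (i k : ℕ) : ZMod p := cf F (i + k) ⁅F.x i, F.x k⁆

noncomputable def bb (F : Fr G p n) (t : G) (j : ℕ) : ZMod p := cf F (j + 1) ⁅F.x j, t⁆

theorem aa_eq (F : Fr G p n) {i k N : ℕ} (hN : i + k = N) : aa F i k = cf F N ⁅F.x i, F.x k⁆ := by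
  subst hN
  rfl

theorem rel : Rel (n - 1) (aa (mkFr h hv hvs)) (bb (mkFr h hv hvs) s) := by
  set F := mkFr h hv hvs with hF
  have hx : ∀ j, 2 ≤ j → j < n → F.x j ∈ Φ j := fun j hj hjn => (F.hW j hj hjn).1
  have hxs : ∀ j, 1 ≤ j → F.x (j + 1) = ⁅F.x j, v⁆ := fun j hj => xs_succ s v hj
  refine ⟨?_, ?_, ?_, ?_⟩
  · intro i k hi hk hik
    have hN : i + k + 1 < n := by omega
    have hxi := hx i hi (by omega)
    have hxk := hx k hk (by omega)
    have J := jacobi F (N := i + k + 1) (by omega) hN (i := i) (k := k) (l := 1) rfl (by omega) (by omega) le_rfl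
      hxi hxk (mem_one v)
    rw [← hF] at *
    have e1 : cf F (i + k + 1) ⁅⁅F.x i, F.x k⁆, v⁆ = aa F i k := by
      rw [hF]
      exact cf_comm_v h hv hvs (j := i + k) (by omega) hN (cm hxi hxk)
    have e2 : cf F (i + k + 1) ⁅⁅F.x k, v⁆, F.x i⁆ = - aa F i (k + 1) := by
      rw [← hxs k (by omega), aa_eq F (N := i + k + 1) (by omega)]
      exact cc_swap F (by omega) hN (by omega) hxi (hx (k + 1) (by omega) (by omega))
    have e3 : cf F (i + k + 1) ⁅⁅v, F.x i⁆, F.x k⁆ = - aa F (i + 1) k := by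
      have e4 : ⁅v, F.x i⁆ = (F.x (i + 1))⁻¹ := by
        rw [hxs i (by omega), commutatorElement_inv]
      rw [e4, aa_eq F (N := i + k + 1) (by omega)]
      exact cc_inv_left F (by omega) hN (by omega) (hx (i + 1) (by omega) (by omega)) hxk
    rw [e1, e2, e3] at J
    linear_combination J
  · intro i hi hid
    have hN : i + 2 < n := by omega
    have hxi := hx i hi (by omega)
    have J := jacobi F (N := i + 2) (by omega) hN (i := i) (k := 1) (l := 1) rfl (by omega) le_rfl le_rfl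
      hxi (mem_one s) (mem_one v)
    have e1 : cf F (i + 2) ⁅⁅F.x i, s⁆, v⁆ = bb F s i := by
      rw [hF]
      exact cf_comm_v h hv hvs (j := i + 1) (by omega) hN (cm hxi (mem_one s))
    have e2 : cf F (i + 2) ⁅⁅s, v⁆, F.x i⁆ = aa F 2 i := by
      rw [aa_eq F (N := i + 2) (by omega)]
      rfl
    have e3 : cf F (i + 2) ⁅⁅v, F.x i⁆, s⁆ = - bb F s (i + 1) := by
      have e4 : ⁅v, F.x i⁆ = (F.x (i + 1))⁻¹ := by
        rw [hxs i (by omega), commutatorElement_inv]
      rw [e4]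
      exact cc_inv_left F (by omega) hN (l := 1) (by omega) (hx (i + 1) (by omega) (by omega)) (mem_one s)
    rw [e1, e2, e3] at J
    linear_combination J
  · intro i k hi hk hik
    have hN : i + k + 1 < n := by omega
    have hxi := hx i hi (by omega)
    have hxk := hx k hk (by omega)
    have J := jacobi F (N := i + k + 1) (by omega) hN (i := i) (k := k) (l := 1) rfl (by omega) (by omega) le_rfl
      hxi hxk (mem_one s)
    have e1 : cf F (i + k + 1) ⁅⁅F.x i, F.x k⁆, s⁆ = aa F i k * bb F s (i + k) := by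
      rw [cc_basis_left F (by omega) hN rfl (by omega) (cm hxi hxk) (mem_one s)]
      rfl
    have e2 : cf F (i + k + 1) ⁅⁅F.x k, s⁆, F.x i⁆ = - (bb F s k * aa F i (k + 1)) := by
      rw [cc_basis_left F (by omega) hN (j := k + 1) (l := i) (by omega) (by omega) (cm hxk (mem_one s)) hxi]
      have e3 := cc_swap F (N := i + k + 1) (by omega) hN (j := i) (l := k + 1) (by omega) hxi
        (hx (k + 1) (by omega) (by omega))
      rw [e3, aa_eq F (N := i + k + 1) (i := i) (k := k + 1) (by omega)]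
      exact mul_neg _ _
    have e3 : cf F (i + k + 1) ⁅⁅s, F.x i⁆, F.x k⁆ = - (bb F s i * aa F (i + 1) k) := by
      have e4 : ⁅s, F.x i⁆ = ⁅F.x i, s⁆⁻¹ := (commutatorElement_inv _ _).symm
      rw [e4, cc_inv_left F (by omega) hN (j := i + 1) (l := k) (by omega) (cm hxi (mem_one s)) hxk,
        cc_basis_left F (by omega) hN (j := i + 1) (l := k) (by omega) (by omega) (cm hxi (mem_one s)) hxk,
        aa_eq F (N := i + k + 1) (i := i + 1) (k := k) (by omega)]
      rfl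
    rw [e1, e2, e3] at J
    linear_combination J
  · intro i k hi hk hik
    by_cases hcase : i + k < n
    · have hxi := hx i hi (by omega)
      have hxk := hx k hk (by omega)
      rw [aa_eq F (N := i + k) (i := k) (k := i) (by omega)]
      exact cc_swap F (by omega) hcase rfl hxi hxk
    · omega

/-- Membership in `Mj` in terms of the structure constants. -/
theorem mem_Mj_iff_bb (F : Fr G p n) {j : ℕ} (hj : 2 ≤ j) (hjn : j + 1 < n) {t : G} :
    t ∈ Mj j ↔ bb F t j = 0 := by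
  have hW := F.hW j hj (by omega)
  rw [F.mc.mem_Mj_iff hj (by omega) hW]
  have : (Φ (j + 2)).Normal := Phi_normal _
  rw [D_mem_iff]
  unfold bb
  rw [cf_eq_zero_iff F (by omega) hjn (cm hW.1 (mem_one t))]

theorem eq_top_of_lt_sM (h : MC p n G) {s : G} (hs : s ∉ Φ 2) {M : Subgroup G} (hlt : zpowers s ⊔ Φ 2 < M) :
    M = ⊤ := by
  have c1 := mul_card_le_of_lt h.hG hlt
  have c2 := (zpowers s ⊔ Φ 2 : Subgroup G).card_mul_index
  rw [h.index_sM hs] at c2
  apply Subgroup.eq_top_of_le_card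
  rw [← c2, mul_comm]
  exact c1

theorem not_mem_sM (h : MC p n G) (h5 : 5 ≤ n) {v s : G} (hv : Unif p v) (hs : s ∈ Mj 2) (hs2 : s ∉ Φ 2) :
    s ∉ zpowers v ⊔ Φ 2 := by
  intro hmem
  have hv2 : v ∉ Φ 2 := by
    have := hv.not_mem
    rwa [← lcs_one] at this
  have hle : zpowers s ⊔ Φ 2 ≤ zpowers v ⊔ Φ 2 :=
    sup_le ((zpowers_le).2 hmem) le_sup_right
  have heq : zpowers s ⊔ Φ 2 = zpowers v ⊔ Φ 2 := by
    apply Subgroup.eq_of_le_of_card_ge hle
    rw [h.card_sM hs2, h.card_sM hv2]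
  have hvM : v ∈ Mj (G := G) 2 := by
    have h1 : v ∈ zpowers s ⊔ Φ 2 := by
      rw [heq]
      exact mem_sup_left (mem_zpowers v)
    have h2 : zpowers s ⊔ Φ 2 ≤ Mj (G := G) 2 :=
      sup_le ((zpowers_le).2 hs) (Phi2_le_Mj 2)
    exact h2 h1
  obtain ⟨y, hy⟩ := h.exists_W (j := 2) le_rfl (by omega)
  have hD := mem_Mj_D.1 hvM y hy.1
  have hne : Subgroup.lowerCentralSeries (⊤ : Subgroup G) (1 + 1) ≠ ⊥ := h.ne_bot (j := 3) (by omega)
  exact hv.D_not_mem (k := 1) le_rfl hne hy.1 hy.2 hD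

/-- **The two-step centralizers are all equal.** -/
theorem Mj_const (h : MC p n G) (h5 : 5 ≤ n) (hodd : p ≠ 2) {s : G} (hs : s ∈ Mj 2) {j : ℕ} (hj : 2 ≤ j) (hjn : j + 3 ≤ n) :
    s ∈ Mj j := by
  classical
  by_cases hs2 : s ∈ Φ 2
  · exact Phi2_le_Mj j hs2
  obtain ⟨v, hv⟩ := MC.exists_unif n h.three G h
  have hvs := not_mem_sM h h5 hv hs hs2
  set F := mkFr h hv hvs with hF
  by_contra hcon
  have hex : ∃ m, 2 ≤ m ∧ m + 3 ≤ n ∧ bb F s m ≠ 0 :=
    ⟨j, hj, hjn, fun h0 => hcon ((mem_Mj_iff_bb F hj (by omega)).2 h0)⟩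
  obtain ⟨hm2, hmn, hbm⟩ := Nat.find_spec hex
  have hmin := fun i => Nat.find_min hex (m := i)
  set m := Nat.find hex with hm
  have hb0 : ∀ i, 2 ≤ i → i < m → bb F s i = 0 := by
    intro i hi him
    by_contra hne
    exact hmin i him ⟨hi, by omega, hne⟩
  have hb2 : bb F s 2 = 0 := (mem_Mj_iff_bb F le_rfl (by omega)).1 hs
  have hm3 : 3 ≤ m := by
    by_contra hlt
    have : m = 2 := by omega
    rw [this] at hbm
    exact hbm hb2
  have hj2 := (rel h hv hvs).jump hodd (m := m) (by omega) hm3 hb0 hbm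
  have hp2 := hp.out.two_le
  have hper := h.Mj_period hv (j := m - p + 1) (by omega) (by omega)
  rw [show m - p + 1 + p - 1 = m by omega] at hper
  have h1 : s ∈ Mj (G := G) (m - p + 1) :=
    (mem_Mj_iff_bb F (by omega) (by omega)).2 (hb0 _ (by omega) (by omega))
  rw [hper] at h1
  exact hbm ((mem_Mj_iff_bb F hm2 (by omega)).1 h1)

/-- Elements of `Mj 2` outside `G'` exist. -/
theorem exists_Mj2 (h : MC p n G) (h5 : 5 ≤ n) : ∃ s : G, s ∈ Mj 2 ∧ s ∉ Φ 2 := by
  obtain ⟨v, hv⟩ := MC.exists_unif n h.three G h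
  have hv2 : v ∉ Φ 2 := by
    have := hv.not_mem
    rwa [← lcs_one] at this
  have hne := h.sM_ne_top hv2
  obtain ⟨g, hg⟩ : ∃ g, g ∉ zpowers v ⊔ Φ 2 := by
    by_contra hcon
    push Not at hcon
    exact hne (eq_top_iff.2 fun x _ => hcon x)
  set F := mkFr h hv hg with hF
  have hW := F.hW 2 le_rfl (by omega)
  have hvne : bb F v 2 ≠ 0 := by
    intro h0
    have h1 := (mem_Mj_iff_bb F le_rfl (by omega)).2 h0
    have hD := mem_Mj_D.1 h1 _ hW.1
    have hne' : Subgroup.lowerCentralSeries (⊤ : Subgroup G) (1 + 1) ≠ ⊥ := h.ne_bot (j := 3) (by omega)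
    exact hv.D_not_mem (k := 1) le_rfl hne' hW.1 hW.2 hD
  set e : ZMod p := bb F g 2 * (bb F v 2)⁻¹ with he
  refine ⟨g * (v ^ e.val)⁻¹, ?_, ?_⟩
  · rw [mem_Mj_iff_bb F le_rfl (by omega)]
    unfold bb
    have h3 : 2 + 1 = 3 := rfl
    rw [cc_mul_right F (N := 2 + 1) (by omega) (by omega) rfl hW.1 (mem_one g) (mem_one _),
      cc_inv_right F (by omega) (by omega) rfl hW.1 (mem_one _),
      cc_pow_right F (by omega) (by omega) rfl hW.1 (mem_one v), ZMod.natCast_zmod_val]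
    have h4 : e * bb F v 2 = bb F g 2 := by
      rw [he, mul_assoc, inv_mul_cancel₀ hvne, mul_one]
    show bb F g 2 + - (e * bb F v 2) = 0
    rw [h4, add_neg_cancel]
  · intro hmem
    apply hg
    have h1 : g = (g * (v ^ e.val)⁻¹) * v ^ e.val := by group
    have h2 : v ^ e.val ∈ zpowers v ⊔ Φ 2 := mem_sup_left (npow_mem_zpowers v _)
    have h3 := (zpowers v ⊔ Φ 2).mul_mem (mem_sup_right hmem) h2
    rwa [← h1] at h3

/-- If `u ∉ G'` lies in one of the two-step centralizers it lies in `Mj 2`. -/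
theorem mem_Mj2_of (h : MC p n G) (h5 : 5 ≤ n) (hodd : p ≠ 2) {u : G} {m : ℕ} (hm : 2 ≤ m) (hmn : m + 3 ≤ n)
    (hu : u ∈ Mj m) : u ∈ Mj 2 := by
  by_contra hcon
  obtain ⟨s, hs, hs2⟩ := exists_Mj2 h h5
  have hle : zpowers s ⊔ Φ 2 ≤ Mj (G := G) 2 := sup_le ((zpowers_le).2 hs) (Phi2_le_Mj 2)
  have hle2 : zpowers s ⊔ Φ 2 ≤ Mj (G := G) m :=
    sup_le ((zpowers_le).2 (Mj_const h h5 hodd hs hm hmn)) (Phi2_le_Mj m)
  have hlt : zpowers s ⊔ Φ 2 < Mj (G := G) m := by
    refine lt_of_le_of_ne hle2 ?_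
    intro e
    rw [← e] at hu
    exact hcon (hle hu)
  exact h.Mj_ne_top (j := m) hm (by omega) (eq_top_of_lt_sM h hs2 hlt)

/-- **The exceptional case.** -/
theorem exceptional (h : MC p n G) (h5 : 5 ≤ n) (hodd : p ≠ 2) {s : G} (hs : s ∈ Mj 2) (hsd : s ∉ Mj (n - 2)) :
    ∃ F : Fr G p n, Even (n - 2) ∧ ∀ i, 2 ≤ i → i + 1 ≤ n - 2 → aa F i (n - 1 - i) ≠ 0 := by
  have hs2 : s ∉ Φ 2 := fun h2 => hsd (Phi2_le_Mj _ h2)
  obtain ⟨v, hv⟩ := MC.exists_unif n h.three G h
  have hvs := not_mem_sM h h5 hv hs hs2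
  refine ⟨mkFr h hv hvs, ?_⟩
  set F := mkFr h hv hvs with hF
  have hb0 : ∀ j, 2 ≤ j → j < n - 2 → bb F s j = 0 := fun j hj hjn =>
    (mem_Mj_iff_bb F hj (by omega)).1 (Mj_const h h5 hodd hs hj (by omega))
  have hbm : bb F s (n - 2) ≠ 0 := fun h0 => hsd ((mem_Mj_iff_bb F (by omega) (by omega)).2 h0)
  have R := rel h hv hvs
  refine ⟨R.even hodd (by omega) (by omega) hb0 hbm, ?_⟩
  intro i hi him
  have h1 := R.top (m := n - 2) (by omega) (by omega) hb0 i hi him
  rw [show n - 2 + 1 - i = n - 1 - i by omega] at h1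
  rw [h1]
  exact mul_ne_zero (pow_ne_zero _ (neg_ne_zero.2 one_ne_zero)) hbm

end rel

end Cfsg.Agent.Lib.MCEss.Const
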