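import Cfsg.Agent.Lib.MCEss.Tower4
import Cfsg.Agent.Lib.Fusion.Saturation

/-!
# A saturated fusion system as an instance of the interface `Sys`
-/

set_option autoImplicit false
set_option linter.unusedSectionVars false

namespace Cfsg.Agent.Lib.MCEss.Ext

open Cfsg Cfsg.FusionSystem Cfsg.Agent.Lib.Fusion.Basic Cfsg.Agent.Lib.Fusion.Saturation
open Cfsg.Agent.Lib.FusionTheory.Chain Cfsg.Agent.Lib.FusionTheory.CoprimeAut
open Cfsg.Agent.Lib.MCEss.Tower Cfsg.Agent.Lib.MCEss.Struct2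
open Subgroup
open scoped commutatorElement

variable {Ω : Type*} [Group Ω] {S : Subgroup Ω}

/-- A subgroup of `S` as a subgroup of the ambient group. -/
abbrev up (A : Subgroup S) : Subgroup Ω := A.map S.subtype

theorem mem_up {A : Subgroup S} {x : S} : (x : Ω) ∈ up A ↔ x ∈ A := by
  constructor
  · rintro ⟨y, hy, e⟩
    have : y = x := Subtype.ext e
    exact this ▸ hy
  · exact fun h => ⟨x, h, rfl⟩

theorem up_le (A : Subgroup S) : up A ≤ S := by
  rintro _ ⟨x, -, rfl⟩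
  exact x.2

theorem up_mono {A B : Subgroup S} (h : A ≤ B) : up A ≤ up B := Subgroup.map_mono h

/-- The normalizer in `S`, seen in the ambient group. -/
theorem up_normalizer (A : Subgroup S) : up (normalizer (A : Set S)) = normalizerIn S (up A) := by
  ext x
  constructor
  · rintro ⟨g, hg, rfl⟩
    rw [SetLike.mem_coe] at hg
    refine ⟨g.2, (?_ : (g : Ω) ∈ normalizer ((up A : Subgroup Ω) : Set Ω))⟩
    rw [mem_normalizer_iff]
    intro y
    constructor
    · rintro ⟨a, ha, rfl⟩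
      exact ⟨g * a * g⁻¹, (mem_normalizer_iff.1 hg a).1 ha, rfl⟩
    · rintro ⟨b, hb, e⟩
      have hy' : ((g⁻¹ * b * g : S) : Ω) = y := by
        have e' : (b : Ω) = (g : Ω) * y * (g : Ω)⁻¹ := e
        simp only [Subgroup.coe_mul, Subgroup.coe_inv]
        rw [e']
        group
      refine ⟨g⁻¹ * b * g, ?_, hy'⟩
      have := (mem_normalizer_iff.1 (inv_mem hg) b).1 hb
      simpa using this
  · rintro ⟨hxS, hxN⟩
    refine ⟨⟨x, hxS⟩, ?_, rfl⟩
    rw [SetLike.mem_coe, mem_normalizer_iff]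
    intro a
    have h1 := mem_normalizer_iff.1 hxN (a : Ω)
    exact (mem_up (A := A)).symm.trans (h1.trans (mem_up (A := A) (x := (⟨x, hxS⟩ : S) * a * (⟨x, hxS⟩ : S)⁻¹)))

theorem card_normalizer_up (A : Subgroup S) :
    Nat.card (normalizerIn S (up A)) = Nat.card (normalizer (A : Set S)) := by
  rw [← up_normalizer]
  exact Subgroup.card_map_of_injective (Subgroup.subtype_injective S)

open Classical in
/-- A map with source `up A`, as a total function. -/
noncomputable def tot (A : Subgroup S) (φ : up A →* Ω) (h : ∀ x, φ x ∈ S) : S → S :=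
  fun g => if hg : (g : Ω) ∈ up A then ⟨φ ⟨g, hg⟩, h _⟩ else g

theorem tot_val {A : Subgroup S} {φ : up A →* Ω} {h : ∀ x, φ x ∈ S} (g : S) (hg : (g : Ω) ∈ up A) :
    ((tot A φ h g : S) : Ω) = φ ⟨g, hg⟩ := by
  unfold tot
  rw [dif_pos hg]

variable (F : FusionSystem S)

/-- The maps of the system as partial functions on `S`. -/
def Mp (A : Subgroup S) (f : S → S) : Prop :=
  ∃ φ ∈ F.Hom (up A), ∀ (x : S) (hx : (x : Ω) ∈ up A), φ ⟨x, hx⟩ = (f x : Ω)

variable {F}

theorem mp_tot {A : Subgroup S} {φ : up A →* Ω} (hφ : φ ∈ F.Hom (up A)) :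
    Mp F A (tot A φ (val_mem F hφ)) :=
  ⟨φ, hφ, fun x hx => (tot_val x hx).symm⟩

theorem mp_ph {A : Subgroup S} {f : S → S} (h : Mp F A f) : PH A f := by
  obtain ⟨φ, hφ, hv⟩ := h
  constructor
  · intro x hx y hy
    apply Subtype.ext
    have h1 := hv x (mem_up.2 hx)
    have h2 := hv y (mem_up.2 hy)
    have h3 := hv (x * y) (mem_up.2 (A.mul_mem hx hy))
    rw [Subgroup.coe_mul, ← h1, ← h2, ← h3, ← map_mul]
    rfl
  · intro x hx y hy e
    have h1 := hv x (mem_up.2 hx)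
    have h2 := hv y (mem_up.2 hy)
    have h3 : φ ⟨x, mem_up.2 hx⟩ = φ ⟨y, mem_up.2 hy⟩ := by
      rw [h1, h2, e]
    have h4 := F.injective_of_mem hφ h3
    have h5 : (x : Ω) = (y : Ω) := congrArg (fun z : up A => (z : Ω)) h4
    exact Subtype.ext h5

theorem mp_conj (A : Subgroup S) (g : S) : Mp F A (fun x => g * x * g⁻¹) :=
  ⟨conjHom (up A) g, F.conj_mem (up_le A) g.2, fun _ _ => rfl⟩

theorem mp_comp {A B : Subgroup S} {f f' : S → S} (h : Mp F A f) (hAB : ∀ x ∈ A, f x ∈ B) (h' : Mp F B f') :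
    Mp F A (f' ∘ f) := by
  obtain ⟨φ, hφ, hv⟩ := h
  obtain ⟨ψ, hψ, hv'⟩ := h'
  have hm : ∀ x : up A, φ x ∈ up B := by
    rintro ⟨_, y, hy, rfl⟩
    have h1 := hv y (mem_up.2 hy)
    show φ ⟨(y : Ω), _⟩ ∈ up B
    rw [h1]
    exact mem_up.2 (hAB y hy)
  refine ⟨ψ.comp (φ.codRestrict (up B) hm), F.comp_mem hφ hψ hm, fun x hx => ?_⟩
  have hxA : x ∈ A := mem_up.1 hx
  show ψ ⟨φ ⟨x, hx⟩, hm _⟩ = ((f' (f x) : S) : Ω)
  have e : (⟨φ ⟨x, hx⟩, hm _⟩ : up B) = ⟨(f x : Ω), mem_up.2 (hAB x hxA)⟩ := Subtype.ext (hv x hx)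
  rw [e, hv' (f x)]

theorem mp_res {A B : Subgroup S} {f : S → S} (hBA : B ≤ A) (h : Mp F A f) : Mp F B f := by
  obtain ⟨φ, hφ, hv⟩ := h
  refine ⟨φ.comp (Subgroup.inclusion (up_mono hBA)), restrict_mem F _ hφ, fun x hx => ?_⟩
  exact hv x (up_mono hBA hx)

theorem range_of_isImg {A B : Subgroup S} {f : S → S} {φ : up A →* Ω}
    (hv : ∀ (x : S) (hx : (x : Ω) ∈ up A), φ ⟨x, hx⟩ = (f x : Ω)) (hI : IsImg A f B) : φ.range = up B := by
  apply le_antisymm
  · rintro _ ⟨⟨_, y, hy, rfl⟩, rfl⟩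
    have h1 := hv y (mem_up.2 hy)
    show φ ⟨(y : Ω), _⟩ ∈ up B
    rw [h1]
    exact mem_up.2 (hI.1 y hy)
  · rintro _ ⟨y, hy, rfl⟩
    obtain ⟨x, hx, e⟩ := hI.2 y hy
    refine ⟨⟨x, mem_up.2 hx⟩, ?_⟩
    rw [hv x (mem_up.2 hx), e]
    rfl

theorem mp_symm {A B : Subgroup S} {f : S → S} (h : Mp F A f) (hI : IsImg A f B) :
    ∃ f', Mp F B f' ∧ IsImg B f' A := by
  obtain ⟨φ, hφ, hv⟩ := h
  have hr := range_of_isImg hv hI
  obtain ⟨ψ, hψ, h1, h2, h3, -⟩ := exists_inv F hφ hr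
  refine ⟨tot B ψ (val_mem F hψ), mp_tot hψ, ?_, ?_⟩
  · intro y hy
    have h4 := tot_val (A := B) (φ := ψ) (h := val_mem F hψ) y (mem_up.2 hy)
    have h5 := h1 ⟨y, mem_up.2 hy⟩
    rw [← h4] at h5
    exact mem_up.1 h5
  · intro x hx
    refine ⟨f x, hI.1 x hx, ?_⟩
    apply Subtype.ext
    have hfx : ((f x : S) : Ω) ∈ up B := mem_up.2 (hI.1 x hx)
    rw [tot_val (f x) hfx]
    have h4 := h2 ⟨x, mem_up.2 hx⟩ (by rw [hv x]; exact hfx)
    have e : (⟨φ ⟨x, mem_up.2 hx⟩, by rw [hv x]; exact hfx⟩ : up B) = ⟨(f x : Ω), hfx⟩ := Subtype.ext (hv x _)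
    rw [e] at h4
    exact h4

theorem mp_congr {A : Subgroup S} {f f' : S → S} (h : Mp F A f) (he : ∀ x ∈ A, f' x = f x) : Mp F A f' := by
  obtain ⟨φ, hφ, hv⟩ := h
  refine ⟨φ, hφ, fun x hx => ?_⟩
  rw [he x (mem_up.1 hx)]
  exact hv x hx

/-- The stabilizer of a chain from the whole group to `1` is a `p`-group. -/
theorem isPGroup_stabChain {V : Type*} [Group V] [Finite V] {p : ℕ} [Fact p.Prime] (hV : IsPGroup p V)
    (W : ℕ → Subgroup V) (hW : Antitone W) (m : ℕ) (hm : W m = ⊥) (h0 : W 0 = ⊤) :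
    IsPGroup p (stabChain W hW) := by
  have : Finite (MulAut V) := Finite.of_injective (fun e : MulAut V => (e : V → V)) DFunLike.coe_injective
  apply isPGroup_of_coprime_trivial
  rintro ⟨τ, hτ⟩ hord
  have hord' : (orderOf τ).Coprime p := by rwa [Subgroup.orderOf_mk] at hord
  have hfix : ∀ x ∈ W 0, τ x = x :=
    fixed_of_chain hV τ hord' W m hm (fun j x hx => mem_stabChain hτ j hx) m 0 (by omega)
  apply Subtype.ext
  ext x
  exact hfix x (h0 ▸ mem_top x)

section ext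

variable {p : ℕ} [hp : Fact p.Prime] [Finite S]

/-- The key extension statement. -/
theorem mp_ext (hS : IsPGroup p S) (hF : F.IsSaturated p) {A : Subgroup S} {f : S → S}
    (hFN : ∀ f' B, Mp F A f' → IsImg A f' B → Nat.card (normalizer (B : Set S)) ≤ Nat.card (normalizer (A : Set S)))
    (hf : Mp F A f) (hfA : ∀ x ∈ A, f x ∈ A) (L : ℕ → Subgroup S) (m : ℕ) (hL0 : L 0 = A) (hLm : L m = ⊥)
    (hLa : Antitone L) (hfL : ∀ j, ∀ x ∈ L j, f x ∈ L j)
    (hc : ∀ g ∈ normalizer (A : Set S), ∀ j, ∀ x ∈ L j, ⁅g, x⁆ ∈ L (j + 1)) :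
    ∃ f', Mp F (normalizer (A : Set S)) f' ∧ ∀ x ∈ A, f' x = f x := by
  have hPS : up A ≤ S := up_le A
  have hfP : Finite (up A) := finite_of_le hPS
  have hp' : IsPGroup p (up A) := hS.to_le hPS
  -- fully normalized
  have hP : F.IsFullyNormalized (up A) := by
    refine ⟨hPS, ?_⟩
    rintro Q ⟨φ, hφ, rfl⟩
    have hQS : φ.range ≤ S := range_le F hφ
    have e : up (φ.range.subgroupOf S) = φ.range := Subgroup.map_subgroupOf_eq_of_le hQS
    have hI : IsImg A (tot A φ (val_mem F hφ)) (φ.range.subgroupOf S) := by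
      constructor
      · intro x hx
        rw [Subgroup.mem_subgroupOf, tot_val x (mem_up.2 hx)]
        exact ⟨_, rfl⟩
      · intro y hy
        rw [Subgroup.mem_subgroupOf] at hy
        obtain ⟨⟨_, x, hx, rfl⟩, hxy⟩ := hy
        refine ⟨x, hx, Subtype.ext ?_⟩
        rw [tot_val x (mem_up.2 hx)]
        exact hxy
    have h1 := hFN _ _ (mp_tot hφ) hI
    rw [← card_normalizer_up, ← card_normalizer_up, e] at h1
    exact h1
  have hA := isFullyAutomized_of_isFullyNormalized F hS hF hP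
  have hR := isReceptive_of_isFullyNormalized F hS hF hP
  obtain ⟨φ, hφ, hv⟩ := hf
  -- values of `φ`
  have hval : ∀ a : up A, ((f ⟨a, hPS a.2⟩ : S) : Ω) = φ a := fun a => (hv ⟨a, hPS a.2⟩ a.2).symm
  have hr : φ.range = up A := by
    apply range_eq_of_card_le φ (F.injective_of_mem hφ) _ le_rfl
    intro a
    rw [← hval]
    refine mem_up.2 (hfA _ ?_)
    exact mem_up.1 a.2
  obtain ⟨α, hα, hαv⟩ := exists_aut_of_range F hφ hr
  -- the chain on `up A`
  let W : ℕ → Subgroup (up A) := fun j => (up (L j)).subgroupOf (up A)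
  have hmemW : ∀ {j : ℕ} {a : up A}, a ∈ W j ↔ (⟨a, hPS a.2⟩ : S) ∈ L j := by
    intro j a
    show (a : Ω) ∈ up (L j) ↔ _
    exact mem_up (x := (⟨a, hPS a.2⟩ : S))
  have hW : Antitone W := by
    intro i j hij a ha
    exact hmemW.2 (hLa hij (hmemW.1 ha))
  have hWm : W m = ⊥ := by
    rw [eq_bot_iff]
    intro a ha
    have h1 := hmemW.1 ha
    rw [hLm, mem_bot] at h1
    have h2 : (a : Ω) = 1 := congrArg Subtype.val h1
    exact Subtype.ext h2
  have hW0 : W 0 = ⊤ := by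
    rw [eq_top_iff]
    intro a _
    apply hmemW.2
    rw [hL0]
    exact mem_up.1 a.2
  have hαW : ∀ j, ∀ a ∈ W j, α a ∈ W j := by
    intro j a ha
    apply hmemW.2
    have h1 := hfL j _ (hmemW.1 ha)
    have h2 : (⟨((α a : up A) : Ω), hPS (α a).2⟩ : S) = f ⟨a, hPS a.2⟩ := by
      apply Subtype.ext
      rw [hval a]
      exact hαv a
    rw [h2]
    exact h1
  have hαiW : ∀ j, ∀ a ∈ W j, α⁻¹ a ∈ W j := by
    intro j a ha
    let g : W j → W j := fun x => ⟨α x, hαW j x x.2⟩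
    have hg : Function.Injective g := by
      intro x y hxy
      exact Subtype.ext (α.injective (congrArg Subtype.val hxy))
    obtain ⟨x, hx⟩ := (Finite.injective_iff_surjective.1 hg) ⟨a, ha⟩
    have h1 : α x = a := congrArg Subtype.val hx
    have h2 : α⁻¹ a = x := by
      rw [← h1]
      simp
    rw [h2]
    exact x.2
  -- the stabilizer is `Aut_S(P)`
  have hstep : ∀ τ ∈ autInducedBy S (up A), ∀ j, ∀ x ∈ W j, x⁻¹ * τ x ∈ W (j + 1) := by
    intro τ hτ j x hx
    obtain ⟨g, hg, hgτ⟩ := (mem_autInducedBy_iff S (up A) τ).1 hτ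
    have hgn := mem_normalizer_of_conj (up A) τ g hgτ
    have hgN : (⟨g, hg⟩ : S) ∈ normalizer (A : Set S) := by
      have h1 : g ∈ normalizerIn S (up A) := ⟨hg, hgn⟩
      rw [← up_normalizer] at h1
      exact mem_up.1 h1
    have h1 := hc _ hgN j _ (inv_mem (hmemW.1 hx))
    apply hmemW.2
    have h2 := inv_mem h1
    convert h2 using 1
    apply Subtype.ext
    have h3 := hgτ x
    simp only [Subgroup.coe_mul, Subgroup.coe_inv, commutatorElement_def]
    rw [h3]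
    group
  have hTle : autInducedBy S (up A) ≤ stabChain W hW ⊓ F.autGroup (up A) := by
    intro τ hτ
    refine ⟨fun j x hx => ⟨hstep τ hτ j x hx, hstep τ⁻¹ (inv_mem hτ) j x hx⟩, autInducedBy_le_autGroup F hPS hτ⟩
  have hTp : IsPGroup p (stabChain W hW ⊓ F.autGroup (up A) : Subgroup (MulAut (up A))) :=
    (isPGroup_stabChain hp' W hW m hWm hW0).to_le inf_le_left
  have hTeq := (isFullyAutomized_iff F hS hPS).1 hA _ hTp inf_le_right hTle
  -- extendability
  have hαm : autHom α ∈ F.Hom (up A) := autHom_mem F hPS hα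
  have hT : normalizerIn S (up A) ≤ extender S (up A) (autHom α) := by
    intro g hg
    have h1 : normAct (up A) hg.2 ∈ stabChain W hW ⊓ F.autGroup (up A) :=
      hTle (normAct_mem_autInducedBy S (up A) hg.2 hg.1)
    have h2 : α * normAct (up A) hg.2 * α⁻¹ ∈ stabChain W hW ⊓ F.autGroup (up A) := by
      refine ⟨conj_mem_stabChain h1.1 hαW hαiW, ?_⟩
      exact (F.autGroup (up A)).mul_mem ((F.autGroup (up A)).mul_mem hα h1.2) (inv_mem hα)
    rw [hTeq] at h2
    obtain ⟨h, hh, hhc⟩ := (mem_autInducedBy_iff S (up A) _).1 h2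
    refine mem_extender_of _ hg.1 hg.2 hh (fun x => ?_)
    have h3 := hhc (α x)
    have key : ((α * normAct (up A) hg.2 * α⁻¹) (α x) : up A) = α (normAct (up A) hg.2 x) := by
      simp [MulAut.mul_apply]
    rw [key] at h3
    exact h3
  obtain ⟨ψ, hψ, hext⟩ := IsReceptive.exists_extension F hR hαm (autHom_range α) hT (le_normalizerIn hPS)
  have hle : up (normalizer (A : Set S)) ≤ normalizerIn S (up A) := (up_normalizer A).le
  have hψ' := restrict_mem F hle hψ
  refine ⟨tot _ _ (val_mem F hψ'), mp_tot hψ', fun x hx => ?_⟩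
  apply Subtype.ext
  have hx' : (x : Ω) ∈ up A := mem_up.2 hx
  have hxN : (x : Ω) ∈ up (normalizer (A : Set S)) := mem_up.2 (Subgroup.le_normalizer hx)
  rw [tot_val x hxN]
  have h1 := hext ⟨x, hx'⟩
  have h2 : ((f x : S) : Ω) = φ ⟨x, hx'⟩ := (hv x hx').symm
  rw [h2, ← hαv]
  exact h1

/-- The interface, for a saturated fusion system. -/
noncomputable def sys (hS : IsPGroup p S) (hF : F.IsSaturated p) : Sys S where
  Mp := Mp F
  ph := mp_ph
  conj := mp_conj
  comp := mp_comp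
  res := mp_res
  symm := mp_symm
  congr := mp_congr
  ext := fun hFN hf hfA L m hL0 hLm hLa hfL hc => mp_ext hS hF hFN hf hfA L m hL0 hLm hLa hfL hc

end ext

end Cfsg.Agent.Lib.MCEss.Ext
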