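import Cfsg.Agent.Lib.MCEss.Struct

/-!
# A flag in a subgroup of order `p³` of a group of maximal class, stabilized by the normalizer
-/

set_option autoImplicit false
set_option linter.unusedSectionVars false

namespace Cfsg.Agent.Lib.MCEss.Flag

open Subgroup Cfsg.Agent.Lib.FG7.HallPetrescu Cfsg.Agent.Lib.PGroups.UniformShift
open Cfsg.Agent.Lib.PGroups.MaxAbelian Cfsg.Agent.Lib.FGStruct.UnifZ Cfsg.Agent.Lib.FGStruct.MCBlack
open Cfsg.Agent.Lib.MCEss.Graded Cfsg.Agent.Lib.MCEss.Numeric Cfsg.Agent.Lib.MCEss.Const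
open Cfsg.Agent.Lib.MCEss.Basic Cfsg.Agent.Lib.MCEss.Struct
open scoped commutatorElement

universe u

variable {G : Type u} [Group G] [Finite G] {p : ℕ} [hp : Fact p.Prime] {n : ℕ}

local notation "Φ" => lcsF G

theorem exists_jump (h : MC p n G) {A : Subgroup G} (hA : A ≠ ⊥) : ∃ j, 1 ≤ j ∧ A ≤ Φ j ∧ ¬ A ≤ Φ (j + 1) := by
  by_contra hcon
  push_neg at hcon
  have key : ∀ d, A ≤ Φ (1 + d) := by
    intro d
    induction d with
    | zero => exact fun x _ => mem_one x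
    | succ d ih => exact hcon (1 + d) (by omega) ih
  apply hA
  have h1 := key (n - 1)
  have := h.three
  rw [show 1 + (n - 1) = n by omega, h.bot] at h1
  exact le_bot_iff.1 h1

/-- A jump is a step of index `p`. -/
theorem card_step (h : MC p n G) {A : Subgroup G} (hne : A ≠ ⊤) {j : ℕ} (hj : 1 ≤ j) (hA : A ≤ Φ j)
    (hn : ¬ A ≤ Φ (j + 1)) : Nat.card A = p * Nat.card (A ⊓ Φ (j + 1) : Subgroup G) := by
  have hp0 := hp.out
  have h1 := relIndex_mul_card (inf_le_left : (A ⊓ Φ (j + 1) : Subgroup G) ≤ A)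
  have h2 : (A ⊓ Φ (j + 1) : Subgroup G).relIndex A = (Φ (j + 1)).relIndex A := by
    rw [inf_comm, Subgroup.inf_relIndex_right]
  rw [h2] at h1
  have h3 : (Φ (j + 1)).relIndex A = p := by
    have hi1 : (Φ (j + 1)).relIndex A ≠ 1 := by
      intro e
      exact hn (Subgroup.relIndex_eq_one.1 e)
    have hdvd : (Φ (j + 1)).relIndex A ∣ Nat.card A := by
      rw [← h1]
      exact Dvd.intro _ rfl
    obtain ⟨b, hb⟩ := IsPGroup.iff_card.1 (h.hG.to_subgroup A)
    rw [hb] at hdvd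
    obtain ⟨a, -, ha⟩ := (Nat.dvd_prime_pow hp0).1 hdvd
    have ha0 : a ≠ 0 := by
      rintro rfl
      exact hi1 (by simpa using ha)
    have hle : (Φ (j + 1)).relIndex A ≤ p := by
      have hN : (Φ (j + 1)).Normal := Phi_normal _
      by_cases hj2 : 2 ≤ j
      · have hjn : j < n := by
          by_contra hc
          apply hn
          have h4 : Φ j ≤ Φ n := Phi_anti (by omega)
          rw [h.bot] at h4
          exact (hA.trans h4).trans bot_le
        rw [← h.relIndex hj2 hjn, ← card_map_mk_eq_relIndex, ← card_map_mk_eq_relIndex]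
        exact Subgroup.card_le_of_le (Subgroup.map_mono hA)
      · obtain rfl : j = 1 := by omega
        by_contra hgt
        push_neg at hgt
        have ha2 : 2 ≤ a := by
          by_contra hc
          obtain rfl : a = 1 := by omega
          rw [ha, pow_one] at hgt
          exact lt_irrefl _ hgt
        have h5 := relIndex_mul_card (le_sup_right : Φ 2 ≤ A ⊔ Φ 2)
        rw [Subgroup.relIndex_sup_right, ha, h.card_Phi le_rfl (by have := h.three; omega)] at h5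
        have h6 : p ^ n ≤ Nat.card (A ⊔ Φ 2 : Subgroup G) := by
          rw [← h5]
          calc p ^ n = p ^ 2 * p ^ (n - 2) := by
                rw [← pow_add]
                congr 1
                have := h.three
                omega
            _ ≤ p ^ a * p ^ (n - 2) := Nat.mul_le_mul_right _ (Nat.pow_le_pow_right hp0.pos ha2)
        have h7 : A ⊔ Φ 2 = ⊤ := by
          apply Subgroup.eq_top_of_card_eq
          apply le_antisymm (Subgroup.card_le_card_group _)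
          rw [h.card]
          exact h6
        exact hne (eq_top_of_sup h.hG h7)
    rw [ha] at hle ⊢
    have : a = 1 := by
      by_contra hc
      have : p ^ 2 ≤ p ^ a := Nat.pow_le_pow_right hp0.pos (by omega)
      nlinarith [hp0.two_le]
    rw [this, pow_one]
  rw [h3] at h1
  exact h1.symm

theorem comm_mem_of_normalizes {E₀ : Subgroup G} {g x : G} (hg : g ∈ normalizer (E₀ : Set G)) (hx : x ∈ E₀) :
    ⁅g, x⁆ ∈ E₀ := by
  have h1 : g * x * g⁻¹ ∈ E₀ := (mem_normalizer_iff.1 hg x).1 hx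
  have e : ⁅g, x⁆ = (g * x * g⁻¹) * x⁻¹ := rfl
  rw [e]
  exact E₀.mul_mem h1 (E₀.inv_mem hx)

/-- **The flag.** -/
theorem exists_flag (h : MC p n G) {E₀ : Subgroup G} (hc : Nat.card E₀ = p ^ 3) (hne : E₀ ≠ ⊤) :
    ∃ L L₁ : Subgroup G, L ≤ E₀ ∧ L₁ ≤ L ∧ Nat.card L = p ^ 2 ∧ Nat.card L₁ = p ∧
      (∀ g ∈ normalizer (E₀ : Set G), ∀ x ∈ E₀, ⁅g, x⁆ ∈ L) ∧
      (∀ g ∈ normalizer (E₀ : Set G), ∀ x ∈ L, ⁅g, x⁆ ∈ L₁) ∧
      (∀ g ∈ normalizer (E₀ : Set G), ∀ x ∈ L₁, ⁅g, x⁆ = 1) := by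
  have hp0 := hp.out
  have hbot : ∀ {A : Subgroup G} {k : ℕ}, Nat.card A = p ^ (k + 1) → A ≠ ⊥ := by
    intro A k hA e
    rw [e, Subgroup.card_bot] at hA
    have := Nat.one_lt_pow (n := k + 1) (by omega) hp0.one_lt
    omega
  have htop : ∀ {A : Subgroup G}, A ≤ E₀ → A ≠ ⊤ := by
    intro A hA e
    apply hne
    rw [eq_top_iff, ← e]
    exact hA
  obtain ⟨j₁, hj₁, hE1, hE2⟩ := exists_jump h (hbot (k := 2) hc)
  have hL := card_step h hne hj₁ hE1 hE2
  set L : Subgroup G := E₀ ⊓ Φ (j₁ + 1) with hLdef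
  have hLc : Nat.card L = p ^ 2 := by
    rw [hc] at hL
    apply Nat.eq_of_mul_eq_mul_left hp0.pos
    rw [← hL]
    ring
  have hLE : L ≤ E₀ := inf_le_left
  obtain ⟨j₂, hj₂, hL1, hL2⟩ := exists_jump h (hbot (k := 1) hLc)
  have hj12 : j₁ + 1 ≤ j₂ := by
    by_contra hcon
    apply hL2
    exact (inf_le_right : L ≤ Φ (j₁ + 1)).trans (Phi_anti (by omega))
  have hL₁ := card_step h (htop hLE) hj₂ hL1 hL2
  set L₁ : Subgroup G := L ⊓ Φ (j₂ + 1) with hL₁def
  have hL₁c : Nat.card L₁ = p ^ 1 := by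
    rw [hLc] at hL₁
    apply Nat.eq_of_mul_eq_mul_left hp0.pos
    rw [← hL₁]
    ring
  have hL₁L : L₁ ≤ L := inf_le_left
  obtain ⟨j₃, hj₃, hM1, hM2⟩ := exists_jump h (hbot (k := 0) hL₁c)
  have hj23 : j₂ + 1 ≤ j₃ := by
    by_contra hcon
    apply hM2
    exact (inf_le_right : L₁ ≤ Φ (j₂ + 1)).trans (Phi_anti (by omega))
  have hM := card_step h (htop (hL₁L.trans hLE)) hj₃ hM1 hM2
  have hMb : (L₁ ⊓ Φ (j₃ + 1) : Subgroup G) = ⊥ := by
    rw [hL₁c, pow_one] at hM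
    have h1 : Nat.card (L₁ ⊓ Φ (j₃ + 1) : Subgroup G) = 1 := by
      apply Nat.eq_of_mul_eq_mul_left hp0.pos
      rw [← hM, mul_one]
    exact Subgroup.card_eq_one.1 h1
  refine ⟨L, L₁, hLE, hL₁L, hLc, by rwa [pow_one] at hL₁c, ?_, ?_, ?_⟩
  · intro g hg x hx
    exact ⟨comm_mem_of_normalizes hg hx, comm_succ g (hE1 hx)⟩
  · intro g hg x hx
    have h1 := comm_succ g (hL1 hx)
    exact ⟨⟨comm_mem_of_normalizes hg (hLE hx), Phi_anti (by omega) h1⟩, h1⟩
  · intro g hg x hx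
    have h1 := comm_succ g (hM1 hx)
    have h2 : ⁅g, x⁆ ∈ (L₁ ⊓ Φ (j₃ + 1) : Subgroup G) :=
      ⟨⟨⟨comm_mem_of_normalizes hg (hLE (hL₁L hx)), Phi_anti (by omega) h1⟩, Phi_anti (by omega) h1⟩, h1⟩
    rw [hMb] at h2
    exact h2

end Cfsg.Agent.Lib.MCEss.Flag
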