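import Cfsg.Agent.Lib.MCEss.GL3

/-!
# Two transvections and an involution

`V` is elementary abelian of order `p³`, `X ≤ Aut V` has no nontrivial normal `p`-subgroup and all its `p`-subgroups
have order at most `p`. A transvection `τ ∈ X` with axis `W₁` has a conjugate `τ'` such that `⟨τ, τ'⟩` acts as `SL₂(p)`
on a plane and `X` contains the element `-1 ⊕ 1`.
-/

set_option autoImplicit false
set_option linter.unusedSectionVars false

namespace Cfsg.Agent.Lib.MCEss.LemmaT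

open Subgroup Cfsg.Agent.Lib.FusionTheory.Chain Cfsg.Agent.Lib.FusionTheory.CoprimeAut
open Cfsg.Agent.Lib.Fusion.SmallEssential Cfsg.Agent.Lib.MCEss.GL3

variable {V : Type*} [CommGroup V] [Finite V] {p : ℕ} [hp : Fact p.Prime]

/-- A transvection has a cyclic centre. -/
theorem center_mem {N : Subgroup V} (hi : N.relIndex ⊤ = p) {τ : MulAut V} (hN : ∀ x ∈ N, τ x = x) {v₀ : V}
    (hv₀ : v₀ ∉ N) (v : V) : τ v * v⁻¹ ∈ zpowers (τ v₀ * v₀⁻¹) := by
  obtain ⟨m, hm⟩ := exists_pow_of_relIndex (N := N) (C := ⊤) (normal_of_isMulCommutative N) (mem_top v₀) hv₀ hi v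
    (mem_top v)
  have h1 := hN _ hm
  rw [map_mul, map_inv, map_pow] at h1
  have h2 : τ v * v⁻¹ = (τ v₀ * v₀⁻¹) ^ m := by
    rw [mul_pow, inv_pow]
    rw [← div_eq_mul_inv, ← div_eq_mul_inv, div_eq_div_iff_mul_eq_mul] at h1 ⊢
    rw [h1, mul_comm]
  rw [h2]
  exact pow_mem (mem_zpowers _) m

theorem pow_eq_one_of_dvd (hexp : ∀ a : V, a ^ p = 1) (a : V) {n : ℕ} (h : p ∣ n) : a ^ n = 1 := by
  obtain ⟨m, rfl⟩ := h
  rw [pow_mul, hexp, one_pow]

/-- Pairs in a common chain stabilizer are impossible. -/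
theorem pair_false (hV : IsPGroup p V) {X : Subgroup (MulAut V)}
    (hsmall : ∀ D : Subgroup (MulAut V), D ≤ X → IsPGroup p D → Nat.card D ≤ p)
    {W₁ W₂ : Subgroup V} (h : W₂ ≤ W₁) {τ τ' : MulAut V} (hτX : τ ∈ X) (hτ'X : τ' ∈ X) (hτ1 : τ ≠ 1)
    (hτ' : τ' ∉ zpowers τ) (h1 : τ ∈ stabChain (chain4 W₁ W₂) (chain4_anti h))
    (h2 : τ' ∈ stabChain (chain4 W₁ W₂) (chain4_anti h)) : False := by
  have : Finite (MulAut V) := Finite.of_injective (fun e : MulAut V => (e : V → V)) DFunLike.coe_injective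
  have hp0 := hp.out
  have hD : IsPGroup p (stabChain (chain4 W₁ W₂) (chain4_anti h) ⊓ X : Subgroup (MulAut V)) :=
    (isPGroup_stab hV h).to_le inf_le_left
  have hc := hsmall _ inf_le_right hD
  have hle : zpowers τ ≤ stabChain (chain4 W₁ W₂) (chain4_anti h) ⊓ X := (zpowers_le).2 ⟨h1, hτX⟩
  have hcc : Nat.card (zpowers τ) = orderOf τ := Nat.card_zpowers τ
  have hzp : IsPGroup p (zpowers τ) := hD.to_le hle
  obtain ⟨k, hk⟩ := IsPGroup.iff_card.1 hzp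
  have hk0 : k ≠ 0 := by
    rintro rfl
    rw [hcc, pow_zero, orderOf_eq_one_iff] at hk
    exact hτ1 hk
  have hge : p ≤ Nat.card (zpowers τ) := by
    rw [hk]
    calc p = p ^ 1 := (pow_one p).symm
      _ ≤ p ^ k := Nat.pow_le_pow_right hp0.pos (by omega)
  have heq : zpowers τ = stabChain (chain4 W₁ W₂) (chain4_anti h) ⊓ X :=
    Subgroup.eq_of_le_of_card_ge hle (hc.trans hge)
  apply hτ'
  rw [heq]
  exact ⟨h2, hτ'X⟩

/-- Powers of a transvection. -/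
theorem pow_apply {τ : MulAut V} {c u : V} (hc : τ c = c) (hu : τ u = c * u) (i : ℕ) : (τ ^ i) u = c ^ i * u := by
  induction i with
  | zero => simp
  | succ i ih =>
    rw [pow_succ', MulAut.mul_apply, ih, map_mul, map_pow, hc, hu, pow_succ]
    ac_rfl

theorem pow_fix {τ : MulAut V} {c : V} (hc : τ c = c) (i : ℕ) : (τ ^ i) c = c := by
  induction i with
  | zero => simp
  | succ i ih => rw [pow_succ', MulAut.mul_apply, ih, hc]

/-- The computation in `SL₂(p)`. -/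
theorem sl2_comp (hexp : ∀ a : V, a ^ p = 1) {τ τ' : MulAut V} {u c w : V} {b i : ℕ} (hc : τ c = c) (hu : τ u = c * u)
    (hw : τ w = w) (hu' : τ' u = u) (hc' : τ' c = u ^ b * c) (hw' : τ' w = w) (hbi : p ∣ b * i + 1) :
    let Z := τ ^ i * τ' * τ ^ i
    (Z * Z) u = u⁻¹ ∧ (Z * Z) c = c⁻¹ ∧ (Z * Z) w = w := by
  intro Z
  have hbi' : p ∣ i * b + 1 := by rwa [mul_comm]
  have e1 : u ^ (b * i) = u⁻¹ := by
    have := pow_eq_one_of_dvd hexp u hbi
    rw [pow_succ] at this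
    exact eq_inv_of_mul_eq_one_left this
  have e2 : c ^ (i * b) = c⁻¹ := by
    have := pow_eq_one_of_dvd hexp c hbi'
    rw [pow_succ] at this
    exact eq_inv_of_mul_eq_one_left this
  have hZu : Z u = c ^ i := by
    show (τ ^ i) (τ' ((τ ^ i) u)) = c ^ i
    have h1 : τ' ((τ ^ i) u) = c ^ i := by
      rw [pow_apply hc hu, map_mul, map_pow, hc', hu', mul_pow, ← pow_mul, e1]
      simp [mul_comm, mul_left_comm]
    rw [h1, map_pow, pow_fix hc]
  have hZc : Z c = u ^ b := by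
    show (τ ^ i) (τ' ((τ ^ i) c)) = u ^ b
    rw [pow_fix hc, hc', map_mul, map_pow, pow_apply hc hu, pow_fix hc, mul_pow, ← pow_mul, e2]
    simp [mul_comm, mul_left_comm]
  have hZw : Z w = w := by
    show (τ ^ i) (τ' ((τ ^ i) w)) = w
    rw [pow_fix hw, hw', pow_fix hw]
  refine ⟨?_, ?_, ?_⟩
  · rw [MulAut.mul_apply, hZu, map_pow, hZc, ← pow_mul, e1]
  · rw [MulAut.mul_apply, hZc, map_pow, hZu, ← pow_mul, e2]
  · rw [MulAut.mul_apply, hZw, hZw]

/-- **Lemma T.** -/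
theorem lemmaT (hexp : ∀ a : V, a ^ p = 1) (hcard : Nat.card V = p ^ 3) {X : Subgroup (MulAut V)}
    (hX : EssAut p X) (hsmall : ∀ D : Subgroup (MulAut V), D ≤ X → IsPGroup p D → Nat.card D ≤ p)
    {W₁ : Subgroup V} (hW₁ : Nat.card W₁ = p ^ 2) {τ : MulAut V} (hτX : τ ∈ X) (hτ1 : τ ≠ 1)
    (hτW : ∀ x ∈ W₁, τ x = x) (hτc : ∀ v, τ v * v⁻¹ ∈ W₁) :
    ∃ u c w t, u ∉ W₁ ∧ c ∈ W₁ ∧ w ∈ W₁ ∧ t ∈ X ∧ t u = u⁻¹ ∧ t c = c⁻¹ ∧ t w = w ∧ τ u = c * u ∧
      ∀ x ∈ W₁, ∃ i j : ℕ, x = c ^ i * w ^ j := by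
  have hp0 := hp.out
  have : Finite (MulAut V) := Finite.of_injective (fun e : MulAut V => (e : V → V)) DFunLike.coe_injective
  have hV : IsPGroup p V := IsPGroup.of_card hcard
  have hiW : W₁.relIndex ⊤ = p := relIndex_eq_of_card (k := 2) le_top hW₁ (by rw [Subgroup.card_top]; exact hcard)
  obtain ⟨v₀, hv₀⟩ : ∃ v₀, v₀ ∉ W₁ := by
    by_contra hc
    push_neg at hc
    have : Nat.card V ≤ Nat.card W₁ := by
      have := Subgroup.card_le_of_le (show (⊤ : Subgroup V) ≤ W₁ from fun x _ => hc x)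
      rwa [Subgroup.card_top] at this
    rw [hcard, hW₁] at this
    exact absurd this (not_le.2 (Nat.pow_lt_pow_right hp0.one_lt (by omega)))
  set c₀ : V := τ v₀ * v₀⁻¹ with hc₀
  have hc₀W : c₀ ∈ W₁ := hτc v₀
  have hc₀1 : c₀ ≠ 1 := by
    intro e
    apply hτ1
    have hfix : τ v₀ = v₀ := mul_inv_eq_one.1 e
    ext y
    exact fixed_of_fixed hτW (mem_top v₀) hv₀ hiW hfix (mem_top y)
  have hτv : ∀ v, τ v * v⁻¹ ∈ zpowers c₀ := center_mem hiW hτW hv₀
  have hτst : τ ∈ stabChain (chain4 W₁ W₁) (chain4_anti le_rfl) := by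
    apply mem_stab_chain4 le_rfl hτc
    · intro v hv
      rw [hτW v hv, mul_inv_cancel]
      exact one_mem _
    · exact hτW
  have hzp : IsPGroup p (zpowers τ) := (isPGroup_stab hV (le_refl W₁)).to_le ((zpowers_le).2 hτst)
  -- a conjugate outside `⟨τ⟩`
  obtain ⟨x, hxX, hx⟩ : ∃ x ∈ X, x * τ * x⁻¹ ∉ zpowers τ := by
    by_contra hc
    push_neg at hc
    have h1 := hX.normal_le (zpowers τ) ((zpowers_le).2 hτX) (fun g hg t ht => by
      obtain ⟨k, rfl⟩ := Subgroup.mem_zpowers_iff.1 ht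
      have e : g * τ ^ k * g⁻¹ = (g * τ * g⁻¹) ^ k := (conj_zpow).symm
      rw [e]
      exact zpow_mem (hc g hg) k) hzp
    have h2 : τ ∈ Inn V := h1 (mem_zpowers τ)
    obtain ⟨g, hg⟩ := h2
    apply hτ1
    rw [← hg]
    ext y
    show g * y * g⁻¹ = y
    rw [mul_comm g y, mul_assoc, mul_inv_cancel, mul_one]
  set τ' : MulAut V := x * τ * x⁻¹ with hτ'
  set c₁ : V := x c₀ with hc₁
  set W₁' : Subgroup V := W₁.map x.toMonoidHom with hW₁'
  have hτ'X : τ' ∈ X := X.mul_mem (X.mul_mem hxX hτX) (X.inv_mem hxX)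
  have hc₁W' : c₁ ∈ W₁' := ⟨c₀, hc₀W, rfl⟩
  have hτ'W : ∀ y ∈ W₁', τ' y = y := by
    rintro _ ⟨y, hy, rfl⟩
    show τ' (x y) = x y
    rw [hτ', MulAut.mul_apply, MulAut.mul_apply]
    have e : x⁻¹ (x y) = y := by simp
    rw [e, hτW y hy]
  have hτ'v : ∀ v, τ' v * v⁻¹ ∈ zpowers c₁ := by
    intro v
    have h1 := hτv (x⁻¹ v)
    obtain ⟨k, hk⟩ := Subgroup.mem_zpowers_iff.1 h1
    have h3 := congrArg x hk
    rw [map_mul, map_inv, MulAut.apply_inv_self, map_zpow] at h3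
    have h2 : τ' v * v⁻¹ = c₁ ^ k := by
      rw [hτ', MulAut.mul_apply, MulAut.mul_apply, hc₁, h3]
    rw [h2]
    exact zpow_mem (mem_zpowers c₁) k
  -- `c₁ ∉ W₁`
  have hc₁W : c₁ ∉ W₁ := by
    intro hc₁W
    have hW : zpowers c₁ ≤ zpowers c₀ ⊔ zpowers c₁ := le_sup_right
    have hWL : zpowers c₀ ⊔ zpowers c₁ ≤ W₁ := sup_le ((zpowers_le).2 hc₀W) ((zpowers_le).2 hc₁W)
    refine pair_false hV hsmall hW hτX hτ'X hτ1 hx ?_ ?_
    · apply mem_stab_chain4 hW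
      · exact fun v => le_sup_left (a := zpowers c₀) (hτv v)
      · intro v hv
        rw [hτW v (hWL hv), mul_inv_cancel]
        exact one_mem _
      · intro v hv
        exact hτW v (hWL (hW hv))
    · apply mem_stab_chain4 hW
      · exact fun v => hW (hτ'v v)
      · exact fun v _ => hτ'v v
      · intro v hv
        apply hτ'W
        exact ((zpowers_le).2 hc₁W') hv
  -- `c₀ ∉ W₁'`
  have hc₀W' : c₀ ∉ W₁' := by
    intro hc₀W'
    have hW : zpowers c₀ ≤ zpowers c₀ ⊔ zpowers c₁ := le_sup_left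
    have hWL : zpowers c₀ ⊔ zpowers c₁ ≤ W₁' := sup_le ((zpowers_le).2 hc₀W') ((zpowers_le).2 hc₁W')
    refine pair_false hV hsmall hW hτX hτ'X hτ1 hx ?_ ?_
    · apply mem_stab_chain4 hW
      · exact fun v => hW (hτv v)
      · exact fun v _ => hτv v
      · intro v hv
        apply hτW
        exact ((zpowers_le).2 hc₀W) hv
    · apply mem_stab_chain4 hW
      · exact fun v => le_sup_right (b := zpowers c₁) (hτ'v v)
      · intro v hv
        rw [hτ'W v (hWL hv), mul_inv_cancel]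
        exact one_mem _
      · intro v hv
        exact hτ'W v (hWL (hW hv))
  -- `w`
  have hcW' : Nat.card W₁' = p ^ 2 := by
    rw [hW₁', Subgroup.card_map_of_injective (show Function.Injective x.toMonoidHom from x.injective), hW₁]
  have hiW' : W₁'.relIndex ⊤ = p := relIndex_eq_of_card (k := 2) le_top hcW' (by rw [Subgroup.card_top]; exact hcard)
  obtain ⟨w, hwW, hwW', hw1⟩ : ∃ w, w ∈ W₁ ∧ w ∈ W₁' ∧ w ≠ 1 := by
    by_contra hc
    push_neg at hc
    have hbot : W₁ ⊓ W₁' = ⊥ := by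
      rw [eq_bot_iff]
      intro y hy
      exact hc y hy.1 hy.2
    have h1 := Subgroup.index_inf_le (H := W₁) (K := W₁')
    have e1 : W₁.index = p := by rw [← hiW, Subgroup.relIndex_top_right]
    have e2 : W₁'.index = p := by rw [← hiW', Subgroup.relIndex_top_right]
    rw [hbot, Subgroup.index_bot, hcard, e1, e2] at h1
    have h2 : p ^ 3 = p ^ 2 * p := pow_succ p 2
    nlinarith [hp0.two_le, pow_pos hp0.pos 2]
  -- normalization
  have hne : ∀ a : V, a ≠ 1 → orderOf a = p := fun a ha => orderOf_eq_prime (hexp a) ha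
  obtain ⟨a, ha⟩ : ∃ a : ℕ, τ c₁ * c₁⁻¹ = c₀ ^ a := by
    have := hτv c₁
    rw [← mem_powers_iff_mem_zpowers] at this
    obtain ⟨a, ha⟩ := this
    exact ⟨a, ha.symm⟩
  have hτc₀ : τ c₀ = c₀ := hτW c₀ hc₀W
  have hτ'c₁ : τ' c₁ = c₁ := hτ'W c₁ hc₁W'
  have hτ'w : τ' w = w := hτ'W w hwW'
  have hτw : τ w = w := hτW w hwW
  have ha0 : ¬ p ∣ a := by
    intro hd
    rw [pow_eq_one_of_dvd hexp c₀ hd] at ha
    have hfix : τ c₁ = c₁ := mul_inv_eq_one.1 ha
    apply hτ1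
    ext y
    exact fixed_of_fixed hτW (mem_top c₁) hc₁W hiW hfix (mem_top y)
  obtain ⟨k, -, hk⟩ := Nat.exists_mul_mod_eq_one_of_coprime ((Nat.Prime.coprime_iff_not_dvd hp0).2 ha0).symm hp0.one_lt
  have hak : p ∣ a * k + (p - 1) := by
    have h1 : (a * k + (p - 1)) % p = 0 := by
      rw [Nat.add_mod, hk, Nat.mod_eq_of_lt (show p - 1 < p by have := hp0.pos; omega)]
      rw [show 1 + (p - 1) = p by have := hp0.pos; omega, Nat.mod_self]
    exact Nat.dvd_of_mod_eq_zero h1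
  have hpow1 : ∀ g : V, g ^ (a * k) = g := by
    intro g
    have h1 := pow_eq_one_of_dvd hexp g hak
    rw [pow_add] at h1
    have h2 : g ^ (p - 1) * g = 1 := by
      rw [← pow_succ, show p - 1 + 1 = p by have := hp0.pos; omega, hexp]
    have h3 : g ^ (p - 1) = g⁻¹ := eq_inv_of_mul_eq_one_left h2
    rw [h3] at h1
    exact (mul_inv_eq_one.1 h1)
  set u : V := c₁ ^ k with hu
  have hc₁u : u ^ a = c₁ := by
    rw [hu, ← pow_mul, mul_comm, hpow1]
  have huW : u ∉ W₁ := by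
    intro h
    exact hc₁W (hc₁u ▸ W₁.pow_mem h a)
  have hτu : τ u = c₀ * u := by
    have h1 : τ c₁ = c₀ ^ a * c₁ := mul_inv_eq_iff_eq_mul.1 ha
    rw [hu, map_pow, h1, mul_pow, ← pow_mul, hpow1]
  have hτ'u : τ' u = u := by
    rw [hu, map_pow, hτ'c₁]
  obtain ⟨d, hd⟩ : ∃ d : ℕ, τ' c₀ * c₀⁻¹ = c₁ ^ d := by
    have := hτ'v c₀
    rw [← mem_powers_iff_mem_zpowers] at this
    obtain ⟨d, hd⟩ := this
    exact ⟨d, hd.symm⟩
  have hd0 : ¬ p ∣ d := by
    intro hdv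
    rw [pow_eq_one_of_dvd hexp c₁ hdv] at hd
    have hfix : τ' c₀ = c₀ := mul_inv_eq_one.1 hd
    have h1 : τ' = 1 := by
      ext y
      exact fixed_of_fixed hτ'W (mem_top c₀) hc₀W' hiW' hfix (mem_top y)
    apply hτ1
    have h2 : x * τ * x⁻¹ = 1 := h1
    rw [mul_inv_eq_one] at h2
    exact mul_eq_left.1 h2
  have hτ'c₀ : τ' c₀ = u ^ (a * d) * c₀ := by
    rw [pow_mul, hc₁u]
    exact mul_inv_eq_iff_eq_mul.1 hd
  have hb0 : ¬ p ∣ a * d := by
    intro h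
    rcases (Nat.Prime.dvd_mul hp0).1 h with h | h
    · exact ha0 h
    · exact hd0 h
  obtain ⟨m, -, hm⟩ := Nat.exists_mul_mod_eq_one_of_coprime ((Nat.Prime.coprime_iff_not_dvd hp0).2 hb0).symm hp0.one_lt
  have hbi : p ∣ (a * d) * ((p - 1) * m) + 1 := by
    have h1 : (a * d) * ((p - 1) * m) + 1 = (p - 1) * ((a * d) * m) + 1 := by ring
    rw [h1]
    have h2 : ((p - 1) * ((a * d) * m) + 1) % p = 0 := by
      rw [Nat.add_mod, Nat.mul_mod, hm, Nat.mod_eq_of_lt (show 1 < p from hp0.one_lt)]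
      rw [mul_one, Nat.mod_mod, Nat.mod_eq_of_lt (show p - 1 < p by have := hp0.pos; omega),
        show p - 1 + 1 = p by have := hp0.pos; omega, Nat.mod_self]
    exact Nat.dvd_of_mod_eq_zero h2
  obtain ⟨e1, e2, e3⟩ := sl2_comp hexp hτc₀ hτu hτw hτ'u hτ'c₀ hτ'w hbi
  refine ⟨u, c₀, w, _, huW, hc₀W, hwW, ?_, e1, e2, e3, hτu, ?_⟩
  · have hZ : τ ^ ((p - 1) * m) * τ' * τ ^ ((p - 1) * m) ∈ X :=
      X.mul_mem (X.mul_mem (X.pow_mem hτX _) hτ'X) (X.pow_mem hτX _)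
    exact X.mul_mem hZ hZ
  · intro y hy
    have hzw : Nat.card (zpowers w) = p := by
      rw [Nat.card_zpowers, hne w hw1]
    have hzwW : zpowers w ≤ W₁ := (zpowers_le).2 hwW
    have hi : (zpowers w).relIndex W₁ = p := relIndex_eq_of_card (k := 1) hzwW (by rwa [pow_one]) hW₁
    have hc₀w : c₀ ∉ zpowers w := fun h => hc₀W' (((zpowers_le).2 hwW') h)
    obtain ⟨i, hi'⟩ := exists_pow_of_relIndex (N := zpowers w) (C := W₁) (normal_of_isMulCommutative _) hc₀W hc₀w hi y hy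
    rw [← mem_powers_iff_mem_zpowers] at hi'
    obtain ⟨j, hj⟩ := hi'
    refine ⟨i, j, ?_⟩
    have h1 : w ^ j = y * (c₀ ^ i)⁻¹ := hj
    rw [h1]
    simp

end Cfsg.Agent.Lib.MCEss.LemmaT
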