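import Cfsg.Agent.Lib.MCEss.Ext
import Cfsg.Agent.Lib.MCEss.Flag
import Cfsg.Agent.Lib.MCEss.LemmaT
import Cfsg.Agent.Lib.FusionTheory.Transvect
import Cfsg.Agent.Lib.Fusion.SmallEssentialCube
import Cfsg.Agent.S0662
import Cfsg.Agent.S5185

/-!
# Essential subgroups of groups of maximal class: the assembly
-/

set_option autoImplicit false
set_option linter.unusedSectionVars false

namespace Cfsg.Agent.Lib.MCEss.Final

open Cfsg Cfsg.FusionSystem Cfsg.Agent.Lib.Fusion.Basic Cfsg.Agent.Lib.Fusion.Saturation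
open Cfsg.Agent.Lib.Fusion.Alperin Cfsg.Agent.Lib.Fusion.SmallEssential
open Cfsg.Agent.Lib.FusionTheory.Transvect
open Cfsg.Agent.Lib.FG7.HallPetrescu Cfsg.Agent.Lib.FGStruct.MCBlack Cfsg.Agent.Lib.FGStruct.UnifZ
open Cfsg.Agent.Lib.MCEss.Graded Cfsg.Agent.Lib.MCEss.Basic Cfsg.Agent.Lib.MCEss.Struct Cfsg.Agent.Lib.MCEss.Struct2
open Cfsg.Agent.Lib.MCEss.Tower Cfsg.Agent.Lib.MCEss.Tower4 Cfsg.Agent.Lib.MCEss.Ext Cfsg.Agent.Lib.MCEss.Flag
open Subgroup
open scoped commutatorElement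

variable {Ω : Type*} [Group Ω] {S : Subgroup Ω} {F : FusionSystem S} {p n : ℕ} [hp : Fact p.Prime] [Finite S]

omit F in
theorem mc_of (hS : IsPGroup p S) (hn : Nat.card S = p ^ n) (h5 : 5 ≤ n) (hmax : S.lowerCentralSeries (n - 2) ≠ ⊥) :
    MC p n S := by
  refine ⟨hn, by omega, ?_, ?_⟩
  · obtain ⟨k, rfl⟩ : ∃ k, n = k + 1 := ⟨n - 1, by omega⟩
    exact Cfsg.Agent.S0662.lcs_eq_bot hS (r := k + 1) (by omega) hn
  · obtain ⟨k, rfl⟩ : ∃ k, n = k + 2 := ⟨n - 2, by omega⟩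
    intro hb
    apply hmax
    have hb' : (⊤ : Subgroup S).lowerCentralSeries k = ⊥ := hb
    rw [show k + 2 - 2 = k by omega, ← Subgroup.top_subtype_lowerCentralSeries, hb', Subgroup.map_bot]

variable {E₀ : Subgroup S}

/-- An element of `up E₀` as an element of `S`. -/
def pr (a : up E₀) : S := ⟨a, up_le E₀ a.2⟩

theorem pr_val (a : up E₀) : ((pr a : S) : Ω) = a := rfl

theorem pr_mem (a : up E₀) : pr a ∈ E₀ := mem_up.1 a.2

theorem pr_inj {a b : up E₀} (h : pr a = pr b) : a = b :=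
  Subtype.ext (congrArg (fun z : S => (z : Ω)) h)

/-- An element of `E₀` as an element of `up E₀`. -/
def inj (x : S) (hx : x ∈ E₀) : up E₀ := ⟨x, mem_up.2 hx⟩

@[simp] theorem pr_inj_eq (x : S) (hx : x ∈ E₀) : pr (inj x hx) = x := rfl

@[simp] theorem pr_mul (a b : up E₀) : pr (a * b) = pr a * pr b := rfl
@[simp] theorem pr_inv (a : up E₀) : pr a⁻¹ = (pr a)⁻¹ := rfl
@[simp] theorem pr_one : pr (1 : up E₀) = 1 := rfl
@[simp] theorem pr_pow (a : up E₀) (k : ℕ) : pr (a ^ k) = pr a ^ k := rfl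

/-- A subgroup of `S` as a subgroup of `up E₀`. -/
def lift (E₀ A : Subgroup S) : Subgroup (up E₀) := (up A).subgroupOf (up E₀)

theorem mem_lift {A : Subgroup S} {a : up E₀} : a ∈ lift E₀ A ↔ pr a ∈ A := mem_up (x := pr a)

theorem card_lift {A : Subgroup S} (hA : A ≤ E₀) : Nat.card (lift E₀ A) = Nat.card A := by
  have e := Subgroup.subgroupOfEquivOfLe (up_mono hA)
  rw [lift, Nat.card_congr e.toEquiv]
  exact Subgroup.card_map_of_injective (Subgroup.subtype_injective S)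

omit hp [Finite S] in
theorem card_up (A : Subgroup S) : Nat.card (up A) = Nat.card A :=
  Subgroup.card_map_of_injective (Subgroup.subtype_injective S)

/-- An element of `Aut_S(E)` is induced by an element of the normalizer. -/
theorem exists_norm {τ : MulAut (up E₀)} (hτ : τ ∈ autInducedBy S (up E₀)) :
    ∃ g ∈ normalizer (E₀ : Set S), ∀ x : up E₀, pr (τ x) = g * pr x * g⁻¹ := by
  obtain ⟨g, hg, hgτ⟩ := (mem_autInducedBy_iff S (up E₀) τ).1 hτ
  have hgn := mem_normalizer_of_conj (up E₀) τ g hgτ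
  refine ⟨⟨g, hg⟩, ?_, fun x => Subtype.ext (hgτ x)⟩
  have h1 : g ∈ normalizerIn S (up E₀) := ⟨hg, hgn⟩
  rw [← up_normalizer] at h1
  exact mem_up.1 h1

omit [Finite S] in
theorem inn_of_comm (habel : ∀ a b : up E₀, a * b = b * a) {d : MulAut (up E₀)} (hd : d ∈ Inn (up E₀)) : d = 1 := by
  obtain ⟨y, rfl⟩ := hd
  ext x
  show ((y * x * y⁻¹ : up E₀) : Ω) = x
  rw [habel y x, mul_inv_cancel_right]

/-- **`|Aut_S(E)| ≤ p`.** -/
theorem card_T_le (hS : IsPGroup p S) (hF : F.IsSaturated p) (h : MC p n S) (hE : F.IsEssential p (up E₀))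
    (habel : ∀ a b : up E₀, a * b = b * a) (hexp : ∀ a : up E₀, a ^ p = 1) (hcard : Nat.card (up E₀) = p ^ 3) :
    Nat.card (autInducedBy S (up E₀)) ≤ p := by
  have hlt := Cfsg.Agent.Lib.FusionTheory.Essential.IsEssential.lt F hS hF hE
  have hfE : Finite (up E₀) := finite_of_le hlt.le
  have hne : E₀ ≠ ⊤ := by
    rintro rfl
    apply hlt.ne
    apply le_antisymm hlt.le
    intro x hx
    exact mem_up.2 (mem_top (⟨x, hx⟩ : S))
  have hc : Nat.card E₀ = p ^ 3 := by rw [← card_up, hcard]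
  obtain ⟨L, L₁, hLE, hLL, hLc, hL₁c, h1, h2, h3⟩ := exists_flag h hc hne
  have hinn : ∀ d ∈ Inn (up E₀), d = 1 := fun d hd => inn_of_comm habel hd
  letI cg : CommGroup (up E₀) := { (inferInstance : Group (up E₀)) with mul_comm := habel }
  obtain ⟨g, hg, hgn⟩ := Cfsg.Agent.Lib.FusionTheory.Essential.IsEssential.exists_not_extendable F hS hF hE
  have hAext : autInducedBy S (up E₀) ≤ extendable F (up E₀) := autInducedBy_le_extendable F hlt hS
  refine Cfsg.Agent.Lib.MCEss.GL3.gl3 (L := lift E₀ L) (L₁ := lift E₀ L₁)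
    (X := F.autGroup (up E₀)) (Y := extendable F (up E₀)) hexp hcard ?_ ?_ ?_ ?_ ?_ ?_ (isPGroup_autInducedBy _ hS)
    hAext (extendable_le_autGroup F) ⟨g, hg, hgn⟩ ?_ ?_
  · rw [card_lift hLE, hLc]
  · rw [card_lift (hLL.trans hLE), hL₁c]
  · intro x hx
    exact mem_lift.2 (hLL (mem_lift.1 hx))
  · intro τ hτ v
    obtain ⟨g, hg, hgτ⟩ := exists_norm hτ
    apply mem_lift.2
    have e : pr (τ v * v⁻¹) = ⁅g, pr v⁆ := by
      rw [pr_mul, pr_inv, hgτ]
      rfl
    rw [e]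
    exact h1 g hg _ (pr_mem v)
  · intro τ hτ v hv
    obtain ⟨g, hg, hgτ⟩ := exists_norm hτ
    apply mem_lift.2
    have e : pr (τ v * v⁻¹) = ⁅g, pr v⁆ := by
      rw [pr_mul, pr_inv, hgτ]
      rfl
    rw [e]
    exact h2 g hg _ (mem_lift.1 hv)
  · intro τ hτ v hv
    obtain ⟨g, hg, hgτ⟩ := exists_norm hτ
    apply pr_inj
    have e := h3 g hg _ (mem_lift.1 hv)
    rw [hgτ]
    exact mul_inv_eq_one.1 e
  · intro D hD hDp d₀ hd₀ hd₀Y hd₀1
    exact le_extendable_of_meet F hS hF hE hD hDp hd₀ hd₀Y (fun hi => hd₀1 (hinn _ hi))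
  · intro D hD hDp hDne g hg hgD
    refine mem_extendable_of_conj F hS hF hE hD hDp (fun hle => hDne ?_) hg hgD
    rw [eq_bot_iff]
    intro d hd
    exact hinn d (hle hd)

/-- **The standing hypotheses.** -/
theorem ee_of (hS : IsPGroup p S) (hF : F.IsSaturated p) (h : MC p n S) (hE : F.IsEssential p (up E₀))
    (habel : ∀ a b : up E₀, a * b = b * a) (hexp : ∀ a : up E₀, a ^ p = 1) (hcard : Nat.card (up E₀) = p ^ 3) :
    EE p E₀ := by
  have hlt := Cfsg.Agent.Lib.FusionTheory.Essential.IsEssential.lt F hS hF hE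
  have hPS := hlt.le
  have hfE : Finite (up E₀) := finite_of_le hPS
  have hc : Nat.card E₀ = p ^ 3 := by rw [← card_up, hcard]
  have hcent : ∀ g : S, (∀ a ∈ E₀, g * a = a * g) → g ∈ E₀ := by
    intro g hg
    have h1 : (g : Ω) ∈ centralizerIn S (up E₀) := by
      refine ⟨g.2, Subgroup.mem_centralizer_iff.2 ?_⟩
      rintro _ ⟨a, ha, rfl⟩
      exact (congrArg Subtype.val (hg a ha)).symm
    exact mem_up.1 (hE.1.2 (up E₀) (isConj_refl F hE.1.1) h1)
  refine ⟨fun a ha b hb => congrArg pr (habel (inj a ha) (inj b hb)), fun a ha => congrArg pr (hexp (inj a ha)), hc,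
    hcent, ?_⟩
  have hp0 := hp.out
  have hG := h.hG
  have hnil : Group.IsNilpotent S := hG.isNilpotent
  have hltN : E₀ < normalizer (E₀ : Set S) := by
    apply normalizerCondition_of_isNilpotent
    refine lt_top_iff_ne_top.2 ?_
    rintro rfl
    apply hlt.ne
    apply le_antisymm hlt.le
    intro x hx
    exact mem_up.2 (mem_top (⟨x, hx⟩ : S))
  have hlow := mul_card_le_of_lt hG hltN
  have hup : Nat.card (normalizer (E₀ : Set S)) ≤ p ^ 4 := by
    rw [← card_normalizer_up]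
    let f := normToAut F hPS
    have h1 := Subgroup.card_mul_index f.ker
    rw [Subgroup.index_ker, range_normToAut] at h1
    have e1 : Nat.card ((autInducedBy S (up E₀)).subgroupOf (F.autGroup (up E₀))) =
        Nat.card (autInducedBy S (up E₀)) :=
      Nat.card_congr (Subgroup.subgroupOfEquivOfLe (autInducedBy_le_autGroup F hPS)).toEquiv
    rw [e1] at h1
    have hT := card_T_le hS hF h hE habel hexp hcard
    have hker : Nat.card f.ker ≤ Nat.card (up E₀) := by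
      apply Nat.card_le_card_of_injective (fun g : f.ker => (⟨g.1, ?_⟩ : up E₀))
      · intro a b hab
        have h5 := congrArg (fun z : up E₀ => (z : Ω)) hab
        exact Subtype.ext (Subtype.ext h5)
      · have hg : f g.1 = 1 := g.2
        have h2 : (g.1 : Ω) ∈ centralizerIn S (up E₀) := by
          refine ⟨g.1.2.1, Subgroup.mem_centralizer_iff.2 ?_⟩
          intro x hx
          have h3 : ((f g.1 : MulAut (up E₀)) ⟨x, hx⟩ : up E₀) = ⟨x, hx⟩ := by
            rw [hg]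
            rfl
          have h4 : (g.1 : Ω) * x * (g.1 : Ω)⁻¹ = x := congrArg Subtype.val h3
          exact (mul_inv_eq_iff_eq_mul.1 h4).symm
        exact hE.1.2 (up E₀) (isConj_refl F hE.1.1) h2
    rw [← h1, hcard] at *
    calc _ ≤ p ^ 3 * p := Nat.mul_le_mul hker hT
      _ = p ^ 4 := by ring
  apply le_antisymm hup
  rw [hc] at hlow
  calc p ^ 4 = p * p ^ 3 := by ring
    _ ≤ _ := hlow

/-- All `p`-subgroups of the automizer are small. -/
theorem small_of (hS : IsPGroup p S) (hF : F.IsSaturated p) (hE : F.IsEssential p (up E₀))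
    (hT : Nat.card (autInducedBy S (up E₀)) ≤ p) (D : Subgroup (MulAut (up E₀))) (hD : D ≤ F.autGroup (up E₀))
    (hDp : IsPGroup p D) : Nat.card D ≤ p := by
  have hA := isFullyAutomized_of_isFullyNormalized F hS hF hE.2.1
  obtain ⟨χ, -, hχ⟩ := IsFullyAutomized.exists_conj F hA hDp hD
  have hfE : Finite (up E₀) := finite_of_le hE.1.1
  refine le_trans (Nat.card_le_card_of_injective (fun d : D => (⟨χ * d * χ⁻¹, hχ d d.2⟩ : autInducedBy S (up E₀))) ?_) hT
  intro a b hab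
  have h1 : χ * (a : MulAut (up E₀)) * χ⁻¹ = χ * b * χ⁻¹ := congrArg Subtype.val hab
  apply Subtype.ext
  exact mul_left_cancel (mul_right_cancel h1)

/-- **The abelian case is impossible.** -/
theorem false_of_ab (hodd : p ≠ 2) (hS : IsPGroup p S) (hF : F.IsSaturated p) (h : MC p n S) (h5 : 5 ≤ n)
    (hE : F.IsEssential p (up E₀)) (habel : ∀ a b : up E₀, a * b = b * a) (hexp : ∀ a : up E₀, a ^ p = 1)
    (hcard : Nat.card (up E₀) = p ^ 3) : False := by
  have hEE := ee_of hS hF h hE habel hexp hcard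
  have hfE : Finite (up E₀) := finite_of_le hE.1.1
  have hT := card_T_le hS hF h hE habel hexp hcard
  let Y : Sys S := sys (F := F) hS hF
  have hFN : FN Y E₀ := by
    intro f' B hf' hI
    obtain ⟨φ, hφ, hv⟩ := hf'
    have hr := range_of_isImg hv hI
    have h1 := hE.2.1.2 (up B) ⟨φ, hφ, hr⟩
    rwa [card_normalizer_up, card_normalizer_up] at h1
  have hcent : ∀ f B, Y.Mp E₀ f → IsImg E₀ f B → ∀ g : S, (∀ a ∈ B, g * a = a * g) → g ∈ B := by
    intro f B hf hI g hg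
    obtain ⟨φ, hφ, hv⟩ := hf
    have hr := range_of_isImg hv hI
    have h1 : (g : Ω) ∈ centralizerIn S (up B) := by
      refine ⟨g.2, Subgroup.mem_centralizer_iff.2 ?_⟩
      rintro _ ⟨a, ha, rfl⟩
      exact (congrArg Subtype.val (hg a ha)).symm
    exact mem_up.1 (hE.1.2 (up B) ⟨φ, hφ, hr⟩ h1)
  obtain ⟨u₀, hu₀, hu₀2⟩ := exists_u h h5 hEE
  obtain ⟨hG, -⟩ := main_struct h h5 hEE hodd hu₀ hu₀2
  obtain ⟨y, hy, hyE, hy2⟩ : ∃ y ∈ lcsF S (n - 3), y ∉ E₀ ∧ (¬ lcsF S (n - 2) ≤ E₀ → y ∈ lcsF S (n - 2)) := by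
    by_cases hb : lcsF S (n - 2) ≤ E₀
    · have hnot : ¬ lcsF S (n - 3) ≤ E₀ := by
        intro hc
        have hEq : lcsF S (n - 3) = E₀ := Subgroup.eq_of_le_of_card_ge hc (by
          rw [hEE.card, h.card_Phi (by omega) (by omega), show n - (n - 3) = 3 by omega])
        apply hu₀2
        rw [← hEq] at hu₀
        exact Phi_anti (by omega) hu₀
      obtain ⟨y, hy, hyE⟩ := Set.not_subset.1 hnot
      exact ⟨y, hy, hyE, fun hc => absurd hb hc⟩
    · obtain ⟨y, hy, hyE⟩ := Set.not_subset.1 hb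
      exact ⟨y, Phi_anti (by omega) hy, hyE, fun _ => hy⟩
  have hyQ : y ∈ Q u₀ (n - 3) := phi_le_Q u₀ _ hy
  have hyN : y ∈ normalizer (E₀ : Set S) := by
    rw [hG.norm]
    exact hyQ
  have hyn' : (y : Ω) ∈ normalizer ((up E₀ : Subgroup Ω) : Set Ω) := by
    have h1 : (y : Ω) ∈ up (normalizer (E₀ : Set S)) := mem_up.2 hyN
    rw [up_normalizer] at h1
    exact h1.2
  set τ := normAct (up E₀) hyn' with hτ
  have hτpr : ∀ x, pr (τ x) = y * pr x * y⁻¹ := fun x => rfl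
  have hτX : τ ∈ F.autGroup (up E₀) :=
    autInducedBy_le_autGroup F hE.1.1 (normAct_mem_autInducedBy S (up E₀) hyn' y.2)
  have hτ1 : τ ≠ 1 := by
    intro e
    apply hyE
    apply hEE.cent
    intro a ha
    have h1 := hτpr (inj a ha)
    rw [e] at h1
    have h2 : a = y * a * y⁻¹ := h1
    exact (mul_inv_eq_iff_eq_mul.1 h2.symm)
  have hW₁ : Nat.card (lift E₀ (E₀ ⊓ lcsF S 2)) = p ^ 2 := by
    rw [card_lift inf_le_left]
    exact card_inf h h5 hEE hu₀ hu₀2
  have hτW : ∀ x ∈ lift E₀ (E₀ ⊓ lcsF S 2), τ x = x := by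
    intro x hx
    apply pr_inj
    rw [hτpr, W_central h h5 hEE hG (mem_lift.1 hx) hyQ]
    simp
  have hτc : ∀ v, τ v * v⁻¹ ∈ lift E₀ (E₀ ⊓ lcsF S 2) := by
    intro v
    apply mem_lift.2
    have e : pr (τ v * v⁻¹) = ⁅y, pr v⁆ := by
      rw [pr_mul, pr_inv, hτpr]
      rfl
    rw [e]
    exact ⟨comm_mem_of_normalizes hyN (pr_mem v), cm' (mem_one y) (mem_one _) (by omega)⟩
  have hX := essAut_of_isEssential hS F hE
  have hsmall := small_of hS hF hE hT
  letI cg : CommGroup (up E₀) := { (inferInstance : Group (up E₀)) with mul_comm := habel }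
  obtain ⟨u, c, w, t, hu, hc, hw, ht, htu, htc, htw, hτu, hgen⟩ :=
    Cfsg.Agent.Lib.MCEss.LemmaT.lemmaT hexp hcard hX hsmall hW₁ hτX hτ1 hτW hτc
  have htm : autHom t ∈ F.Hom (up E₀) := autHom_mem F hE.1.1 ht
  have hf₀ : Y.Mp E₀ (tot E₀ (autHom t) (val_mem F htm)) := mp_tot htm
  have hf₀val : ∀ a : up E₀, tot E₀ (autHom t) (val_mem F htm) (pr a) = pr (t a) := by
    intro a
    apply Subtype.ext
    rw [tot_val (pr a) a.2]
    rfl
  refine tower_false Y h h5 hodd hEE hFN hcent hf₀ (pr_mem u) ?_ (mem_lift.1 hc) (mem_lift.1 hw) ?_ ?_ ?_ hy hyE ?_ ?_ hy2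
  · intro hu2
    exact hu (mem_lift.2 ⟨pr_mem u, hu2⟩)
  · rw [hf₀val, htu]
    rfl
  · rw [hf₀val, htc]
    rfl
  · rw [hf₀val, htw]
  · have e := congrArg pr hτu
    rw [hτpr, pr_mul] at e
    show y * pr u * y⁻¹ * (pr u)⁻¹ = pr c
    rw [e, mul_inv_cancel_right]
  · intro x hx
    obtain ⟨i, j, hij⟩ := hgen (inj x hx.1) (mem_lift.2 hx)
    exact ⟨i, j, congrArg pr hij⟩

/-- **The main theorem.** -/
theorem main (hp5 : 5 ≤ p) (hS : IsPGroup p S) (hn : Nat.card S = p ^ n) (h5 : 5 ≤ n)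
    (hmax : S.lowerCentralSeries (n - 2) ≠ ⊥) (F : FusionSystem S) (hF : F.IsSaturated p) (E : Subgroup Ω)
    (hE : F.IsEssential p E)
    (hnp : ¬ ((Nat.card E = p ^ 2 ∧ IsElementaryAbelian p E) ∨
      (Nat.card E = p ^ 3 ∧ IsExtraspecial p E ∧ Monoid.exponent E = p))) :
    p ^ 4 ≤ Nat.card E := by
  by_contra hlt
  push_neg at hlt
  have hES : E ≤ S := hE.1.1
  obtain ⟨E₀, rfl⟩ : ∃ E₀ : Subgroup S, E = up E₀ :=
    ⟨E.subgroupOf S, (Subgroup.map_subgroupOf_eq_of_le hES).symm⟩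
  have hfE : Finite (up E₀) := finite_of_le hES
  have hV : IsPGroup p (up E₀) := hS.to_le hES
  have hX := essAut_of_isEssential hS F hE
  have h := mc_of hS hn h5 hmax
  obtain ⟨k, hk⟩ := IsPGroup.iff_card.1 hV
  have hk3 : k ≤ 3 := by
    by_contra hc
    rw [hk] at hlt
    exact absurd hlt (not_lt.2 (Nat.pow_le_pow_right hp.out.pos (by omega)))
  have hodd : p ≠ 2 := by omega
  interval_cases k
  · rw [pow_zero] at hk
    haveI : Subsingleton (up E₀) := (Nat.card_eq_one_iff_unique.1 hk).1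
    haveI : IsCyclic (up E₀) := isCyclic_of_subsingleton
    exact false_of_isCyclic hV hX
  · rw [pow_one] at hk
    haveI : Fact (Nat.card (up E₀)).Prime := ⟨by rw [hk]; exact hp.out⟩
    haveI : IsCyclic (up E₀) := isCyclic_of_prime_card rfl
    exact false_of_isCyclic hV hX
  · exact hnp (Or.inl ⟨hk, (Cfsg.Agent.S5185.result p hS F hF _ hE hk).1⟩)
  · rcases Cfsg.Agent.Lib.Fusion.SmallEssentialCube.cube_main hV hX hk with ⟨ha, he⟩ | ⟨-, hs, he⟩ | ⟨h2, -⟩
    · exact false_of_ab hodd hS hF h h5 hE ha he hk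
    · haveI : Nontrivial (up E₀) := Finite.one_lt_card_iff_nontrivial.1 (by
        rw [hk]
        exact Nat.one_lt_pow (by norm_num) hp.out.one_lt)
      exact hnp (Or.inr ⟨hk, hs, (Monoid.exponent_eq_prime_iff hp.out).2 fun g hg => orderOf_eq_prime (he g) hg⟩)
    · exact hodd h2

end Cfsg.Agent.Lib.MCEss.Final
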