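import Cfsg.Agent.Lib.FusionTheory.Chain
import Cfsg.Agent.Lib.Fusion.SmallEssential

/-!
# `p`-subgroups of `GL₃(p)` inside a strongly embedded subgroup have order at most `p`

`V` is elementary abelian of order `p³`, `X ≤ Aut V`, `Y < X` is strongly `p`-embedded (in the explicit form
`Y3`, `Y4` below) and `T ≤ Y` is a `p`-subgroup stabilizing a flag. Then `|T| ≤ p`.
-/

set_option autoImplicit false
set_option linter.unusedSectionVars false

namespace Cfsg.Agent.Lib.MCEss.GL3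

open Subgroup Cfsg.Agent.Lib.FusionTheory.Chain Cfsg.Agent.Lib.FusionTheory.CoprimeAut
open Cfsg.Agent.Lib.Fusion.SmallEssential

universe u

variable {V : Type*} [CommGroup V] {p : ℕ}

/-- The chain `⊤ ≥ W₁ ≥ W₂ ≥ ⊥`. -/
def chain4 (W₁ W₂ : Subgroup V) : ℕ → Subgroup V
  | 0 => ⊤
  | 1 => W₁
  | 2 => W₂
  | _ => ⊥

theorem chain4_anti {W₁ W₂ : Subgroup V} (h : W₂ ≤ W₁) : Antitone (chain4 W₁ W₂) := by
  apply antitone_nat_of_succ_le
  intro j
  match j with
  | 0 => exact le_top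
  | 1 => exact h
  | 2 => exact bot_le
  | (j + 3) => exact bot_le

variable [Finite V]

/-- Step conditions put an automorphism in the stabilizer of the chain. -/
theorem mem_stab_chain4 {W₁ W₂ : Subgroup V} (h : W₂ ≤ W₁) {τ : MulAut V} (h₀ : ∀ v, τ v * v⁻¹ ∈ W₁)
    (h₁ : ∀ v ∈ W₁, τ v * v⁻¹ ∈ W₂) (h₂ : ∀ v ∈ W₂, τ v = v) : τ ∈ stabChain (chain4 W₁ W₂) (chain4_anti h) := by
  have hsurj : ∀ v ∈ W₁, ∃ w ∈ W₁, τ w = v := by
    intro v hv
    let f : W₁ → W₁ := fun x => ⟨τ x, by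
      have := W₁.mul_mem (h (h₁ x x.2)) x.2
      simpa using this⟩
    have hf : Function.Injective f := by
      intro a b hab
      apply Subtype.ext
      have := congrArg Subtype.val hab
      exact τ.injective this
    obtain ⟨w, hw⟩ := (Finite.injective_iff_surjective.1 hf) ⟨v, hv⟩
    exact ⟨w, w.2, congrArg Subtype.val hw⟩
  have hinv : ∀ v, τ⁻¹ v * v⁻¹ = (τ (τ⁻¹ v) * (τ⁻¹ v)⁻¹)⁻¹ := by
    intro v
    rw [MulAut.apply_inv_self, mul_inv_rev, inv_inv]
  intro j x hx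
  match j with
  | 0 =>
    constructor
    · have := W₁.inv_mem (W₁.mul_mem (h₀ x) (W₁.one_mem))
      show x⁻¹ * τ x ∈ W₁
      have e : x⁻¹ * τ x = τ x * x⁻¹ := mul_comm _ _
      rw [e]
      exact h₀ x
    · show x⁻¹ * τ⁻¹ x ∈ W₁
      have e : x⁻¹ * τ⁻¹ x = τ⁻¹ x * x⁻¹ := mul_comm _ _
      rw [e, hinv]
      exact W₁.inv_mem (h₀ _)
  | 1 =>
    have hx' : x ∈ W₁ := hx
    constructor
    · show x⁻¹ * τ x ∈ W₂
      have e : x⁻¹ * τ x = τ x * x⁻¹ := mul_comm _ _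
      rw [e]
      exact h₁ x hx'
    · show x⁻¹ * τ⁻¹ x ∈ W₂
      have e : x⁻¹ * τ⁻¹ x = τ⁻¹ x * x⁻¹ := mul_comm _ _
      rw [e, hinv]
      obtain ⟨w, hw, rfl⟩ := hsurj x hx'
      have e2 : τ⁻¹ (τ w) = w := by simp
      rw [e2]
      exact W₂.inv_mem (h₁ w hw)
  | 2 =>
    have hx' : x ∈ W₂ := hx
    have h3 : τ x = x := h₂ x hx'
    have h4 : τ⁻¹ x = x := by
      conv_lhs => rw [← h3]
      simp
    rw [h3, h4]
    simp [Subgroup.one_mem]
  | (j + 3) =>
    have hx' : x ∈ (⊥ : Subgroup V) := hx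
    rw [mem_bot] at hx'
    subst hx'
    simp [Subgroup.one_mem]

/-- The stabilizer of a chain is a `p`-group. -/
theorem isPGroup_stab [hp : Fact p.Prime] (hV : IsPGroup p V) {W₁ W₂ : Subgroup V} (h : W₂ ≤ W₁) :
    IsPGroup p (stabChain (chain4 W₁ W₂) (chain4_anti h)) := by
  have : Finite (MulAut V) := Finite.of_injective (fun e : MulAut V => (e : V → V)) DFunLike.coe_injective
  apply isPGroup_of_coprime_trivial
  rintro ⟨τ, hτ⟩ hord
  have hord' : (orderOf τ).Coprime p := by rwa [Subgroup.orderOf_mk] at hord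
  have hfix : ∀ x ∈ chain4 W₁ W₂ 0, τ x = x :=
    fixed_of_chain hV τ hord' (chain4 W₁ W₂) 3 rfl (fun j x hx => mem_stabChain hτ j hx) 3 0 (by omega)
  apply Subtype.ext
  ext x
  exact hfix x (mem_top x)

section main

variable [hp : Fact p.Prime]

omit [Finite V] in
/-- Relative index from orders. -/
theorem relIndex_eq_of_card {A B : Subgroup V} (hAB : A ≤ B) {k : ℕ} (hA : Nat.card A = p ^ k)
    (hB : Nat.card B = p ^ (k + 1)) : A.relIndex B = p := by
  have h1 := Cfsg.Agent.Lib.PGroups.MaxAbelian.relIndex_mul_card hAB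
  rw [hA, hB, pow_succ] at h1
  exact Nat.eq_of_mul_eq_mul_left (pow_pos hp.out.pos k) (by rw [← h1]; ring)

/-- An endomorphism fixing a subgroup of index `p` and an element outside it is trivial on the section. -/
theorem fixed_of_fixed {N C : Subgroup V} {τ : MulAut V} (hN : ∀ x ∈ N, τ x = x) {u : V} (hu : u ∈ C) (huN : u ∉ N)
    (hi : N.relIndex C = p) (hfix : τ u = u) {y : V} (hy : y ∈ C) : τ y = y := by
  obtain ⟨m, hm⟩ := exists_pow_of_relIndex (N := N) (C := C) (normal_of_isMulCommutative N) hu huN hi y hy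
  have h1 := hN _ hm
  rw [map_mul, map_inv, map_pow, hfix] at h1
  exact mul_right_cancel h1

/-- **The criterion.** -/
theorem gl3 (hexp : ∀ a : V, a ^ p = 1) (hcard : Nat.card V = p ^ 3)
    {X Y T : Subgroup (MulAut V)} {L L₁ : Subgroup V}
    (hL : Nat.card L = p ^ 2) (hL₁ : Nat.card L₁ = p) (hLL : L₁ ≤ L)
    (hT1 : ∀ τ ∈ T, ∀ v, τ v * v⁻¹ ∈ L) (hT2 : ∀ τ ∈ T, ∀ v ∈ L, τ v * v⁻¹ ∈ L₁)
    (hT3 : ∀ τ ∈ T, ∀ v ∈ L₁, τ v = v)
    (hTp : IsPGroup p T) (hTY : T ≤ Y) (hYX : Y ≤ X) (hg : ∃ g ∈ X, g ∉ Y)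
    (Y3 : ∀ D : Subgroup (MulAut V), D ≤ X → IsPGroup p D → ∀ d₀ ∈ D, d₀ ∈ Y → d₀ ≠ 1 → D ≤ Y)
    (Y4 : ∀ D : Subgroup (MulAut V), D ≤ Y → IsPGroup p D → D ≠ ⊥ → ∀ g ∈ X, (∀ d ∈ D, g * d * g⁻¹ ∈ Y) → g ∈ Y) :
    Nat.card T ≤ p := by
  by_contra hcon
  push_neg at hcon
  have hp0 := hp.out
  have : Finite (MulAut V) := Finite.of_injective (fun e : MulAut V => (e : V → V)) DFunLike.coe_injective
  have hV : IsPGroup p V := IsPGroup.of_card hcard
  -- the transvection `z`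
  obtain ⟨l, hlL, hl1⟩ : ∃ l ∈ L, l ∉ L₁ := by
    by_contra hc
    push_neg at hc
    have := Subgroup.card_le_of_le (show L ≤ L₁ from hc)
    rw [hL, hL₁] at this
    exact absurd this (not_le.2 (by nlinarith [hp0.two_le]))
  have hiL₁ : L₁.relIndex L = p := relIndex_eq_of_card (k := 1) hLL (by rwa [pow_one]) hL
  have hiL : L.relIndex ⊤ = p := relIndex_eq_of_card (k := 2) le_top hL (by rw [Subgroup.card_top]; exact hcard)
  obtain ⟨z, hzT, hz1, hzL⟩ : ∃ z ∈ T, z ≠ 1 ∧ ∀ x ∈ L, z x = x := by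
    let f : T → L₁ := fun τ => ⟨τ.1 l * l⁻¹, hT2 τ.1 τ.2 l hlL⟩
    have hc : Nat.card L₁ < Nat.card T := by rwa [hL₁]
    have hninj : ¬ Function.Injective f := fun hf => absurd (Nat.card_le_card_of_injective f hf) (not_le.2 hc)
    obtain ⟨a, b, hfab, hab⟩ := Function.not_injective_iff.1 hninj
    have h1 : a.1 l = b.1 l := by
      have := congrArg Subtype.val hfab
      exact mul_right_cancel this
    refine ⟨b.1⁻¹ * a.1, T.mul_mem (T.inv_mem b.2) a.2, ?_, ?_⟩
    · intro e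
      apply hab
      apply Subtype.ext
      exact (inv_mul_eq_one.1 e).symm
    · have hzfix : (b.1⁻¹ * a.1) l = l := by
        rw [MulAut.mul_apply, h1]
        simp
      intro x hx
      exact fixed_of_fixed (fun y hy => hT3 _ (T.mul_mem (T.inv_mem b.2) a.2) y hy) hlL hl1 hiL₁ hzfix hx
  -- the centre of `z`
  obtain ⟨v₀, hv₀⟩ : ∃ v₀, v₀ ∉ L := by
    by_contra hc
    push_neg at hc
    have : Nat.card V ≤ Nat.card L := by
      have := Subgroup.card_le_of_le (show (⊤ : Subgroup V) ≤ L from fun x _ => hc x)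
      rwa [Subgroup.card_top] at this
    rw [hcard, hL] at this
    exact absurd this (not_le.2 (Nat.pow_lt_pow_right hp0.one_lt (by omega)))
  set l₀ : V := z v₀ * v₀⁻¹ with hl₀
  have hl₀L : l₀ ∈ L := hT1 z hzT v₀
  have hl₀1 : l₀ ≠ 1 := by
    intro e
    apply hz1
    have hfix : z v₀ = v₀ := mul_inv_eq_one.1 e
    ext y
    exact fixed_of_fixed hzL (mem_top v₀) hv₀ hiL hfix (mem_top y)
  have hzv : ∀ v, z v * v⁻¹ ∈ zpowers l₀ := by
    intro v
    obtain ⟨m, hm⟩ := exists_pow_of_relIndex (N := L) (C := ⊤) (normal_of_isMulCommutative L) (mem_top v₀) hv₀ hiL v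
      (mem_top v)
    have h1 := hzL _ hm
    rw [map_mul, map_inv, map_pow] at h1
    have h2 : z v * v⁻¹ = (z v₀ * v₀⁻¹) ^ m := by
      rw [mul_pow, inv_pow]
      rw [← div_eq_mul_inv, ← div_eq_mul_inv, div_eq_div_iff_mul_eq_mul] at h1 ⊢
      rw [h1, mul_comm]
    rw [h2]
    exact pow_mem (mem_zpowers _) m
  -- the criterion `C`
  have hzY : z ∈ Y := hTY hzT
  have hzX : z ∈ X := hYX hzY
  have hzpY : zpowers z ≤ Y := (zpowers_le).2 hzY
  have hzpp : IsPGroup p (zpowers z) := hTp.to_le ((zpowers_le).2 hzT)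
  have hzpne : zpowers z ≠ ⊥ := by
    intro e
    exact hz1 (zpowers_eq_bot.1 e)
  have hC : ∀ g ∈ X, g l₀ ∈ L → g ∈ Y := by
    intro g hgX hgl
    set a : V := g l₀ with ha
    have hW : zpowers a ≤ zpowers l₀ ⊔ zpowers a := le_sup_right
    have hWL : zpowers l₀ ⊔ zpowers a ≤ L := sup_le ((zpowers_le).2 hl₀L) ((zpowers_le).2 hgl)
    have hzst : z ∈ stabChain (chain4 (zpowers l₀ ⊔ zpowers a) (zpowers a)) (chain4_anti hW) := by
      apply mem_stab_chain4 hW
      · exact fun v => le_sup_left (a := zpowers l₀) (hzv v)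
      · intro v hv
        rw [hzL v (hWL hv), mul_inv_cancel]
        exact one_mem _
      · intro v hv
        exact hzL v (hWL (hW hv))
    have hz'step : ∀ v, (g * z * g⁻¹) v * v⁻¹ ∈ zpowers a := by
      intro v
      have h1 := hzv (g⁻¹ v)
      obtain ⟨k, hk⟩ := Subgroup.mem_zpowers_iff.1 h1
      have h2 : (g * z * g⁻¹) v * v⁻¹ = a ^ k := by
        have h3 := congrArg g hk
        rw [map_mul, map_inv, MulAut.apply_inv_self, map_zpow] at h3
        rw [MulAut.mul_apply, MulAut.mul_apply, ha, h3]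
      rw [h2]
      exact zpow_mem (mem_zpowers a) k
    have hz'fix : ∀ v ∈ zpowers a, (g * z * g⁻¹) v = v := by
      intro v hv
      obtain ⟨k, rfl⟩ := Subgroup.mem_zpowers_iff.1 hv
      rw [map_zpow]
      congr 1
      rw [MulAut.mul_apply, MulAut.mul_apply, ha]
      have e : g⁻¹ (g l₀) = l₀ := by simp
      rw [e, hzL l₀ hl₀L]
    have hz'st : g * z * g⁻¹ ∈ stabChain (chain4 (zpowers l₀ ⊔ zpowers a) (zpowers a)) (chain4_anti hW) := by
      apply mem_stab_chain4 hW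
      · exact fun v => hW (hz'step v)
      · exact fun v _ => hz'step v
      · exact hz'fix
    have hDle : stabChain (chain4 (zpowers l₀ ⊔ zpowers a) (zpowers a)) (chain4_anti hW) ⊓ X ≤ Y := by
      refine Y3 _ inf_le_right ?_ z ⟨hzst, hzX⟩ hzY hz1
      exact (isPGroup_stab hV hW).to_le inf_le_left
    have hz'Y : g * z * g⁻¹ ∈ Y :=
      hDle ⟨hz'st, X.mul_mem (X.mul_mem hgX hzX) (X.inv_mem hgX)⟩
    refine Y4 _ hzpY hzpp hzpne g hgX ?_
    intro d hd
    obtain ⟨k, rfl⟩ := Subgroup.mem_zpowers_iff.1 hd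
    have e : g * z ^ k * g⁻¹ = (g * z * g⁻¹) ^ k := (conj_zpow).symm
    rw [e]
    exact zpow_mem hz'Y k
  -- an element outside `Y`
  obtain ⟨g, hgX, hgY⟩ := hg
  set c₁ : V := g l₀ with hc₁
  have hginvX : g⁻¹ ∈ X := X.inv_mem hgX
  -- key: an element of `T` moving `c₁` inside `g L` is trivial
  have hkey : ∀ τ ∈ T, τ c₁ ∈ L.map g.toMonoidHom → τ = 1 := by
    intro τ hτ hτc
    by_contra hτ1
    obtain ⟨x, hx, hxe⟩ := hτc
    have hτX : τ ∈ X := hYX (hTY hτ)
    have h1 : g⁻¹ * τ * g ∈ Y := by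
      apply hC _ (X.mul_mem (X.mul_mem hginvX hτX) hgX)
      have e : (g⁻¹ * τ * g) l₀ = x := by
        rw [MulAut.mul_apply, MulAut.mul_apply]
        show g⁻¹ (τ c₁) = x
        have hxe' : g x = τ c₁ := hxe
        rw [← hxe']
        simp
      rw [e]
      exact hx
    have h2 : g⁻¹ ∈ Y := by
      refine Y4 (zpowers τ) ((zpowers_le).2 (hTY hτ)) (hTp.to_le ((zpowers_le).2 hτ)) ?_ _ hginvX ?_
      · intro e
        exact hτ1 (zpowers_eq_bot.1 e)
      · intro d hd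
        obtain ⟨k, rfl⟩ := Subgroup.mem_zpowers_iff.1 hd
        have e : g⁻¹ * τ ^ k * g⁻¹⁻¹ = (g⁻¹ * τ * g) ^ k := by
          have e2 := conj_zpow (a := g⁻¹) (b := τ) (i := k)
          rw [inv_inv] at e2
          rw [inv_inv]
          exact e2.symm
        rw [e]
        exact zpow_mem h1 k
    apply hgY
    have := Y.inv_mem h2
    rwa [inv_inv] at this
  have hc₁m : c₁ ∈ L.map g.toMonoidHom := ⟨l₀, hl₀L, rfl⟩
  -- the map `τ ↦ τ c₁ c₁⁻¹` is injective
  let φ : T → L := fun τ => ⟨τ.1 c₁ * c₁⁻¹, hT1 τ.1 τ.2 c₁⟩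
  have hφ : Function.Injective φ := by
    intro a b hab
    have h1 : a.1 c₁ = b.1 c₁ := mul_right_cancel (congrArg Subtype.val hab)
    have h2 : b.1⁻¹ * a.1 = 1 := by
      apply hkey _ (T.mul_mem (T.inv_mem b.2) a.2)
      rw [MulAut.mul_apply, h1]
      have e : b.1⁻¹ (b.1 c₁) = c₁ := by simp
      rw [e]
      exact hc₁m
    exact Subtype.ext (inv_mul_eq_one.1 h2).symm
  have hle : Nat.card T ≤ p ^ 2 := by
    have := Nat.card_le_card_of_injective φ hφ
    rwa [hL] at this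
  obtain ⟨k, hk⟩ := IsPGroup.iff_card.1 hTp
  have hk2 : k = 2 := by
    rw [hk] at hle hcon
    have h1 := (Nat.pow_le_pow_iff_right hp0.one_lt).1 hle
    have h2 : 1 < k := by
      by_contra hc
      have : k ≤ 1 := by omega
      have h3 := Nat.pow_le_pow_right hp0.pos this
      rw [pow_one] at h3
      omega
    omega
  subst hk2
  have hφs : Function.Surjective φ := by
    have hcc : Nat.card L ≤ Nat.card T := by rw [hL, hk]
    exact ((Function.Injective.bijective_of_nat_card_le hφ hcc)).2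
  -- the intersection
  have hcgL : (L.map g.toMonoidHom).index = p := by
    have h1 := Subgroup.card_mul_index (L.map g.toMonoidHom)
    rw [Subgroup.card_map_of_injective (show Function.Injective g.toMonoidHom from g.injective), hL, hcard,
      pow_succ] at h1
    exact Nat.eq_of_mul_eq_mul_left (pow_pos hp0.pos 2) h1
  have hiLL : L.index = p := by
    have h1 := Subgroup.card_mul_index L
    rw [hL, hcard, pow_succ] at h1
    exact Nat.eq_of_mul_eq_mul_left (pow_pos hp0.pos 2) h1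
  obtain ⟨y, hyL, hyg, hy1⟩ : ∃ y, y ∈ L ∧ y ∈ L.map g.toMonoidHom ∧ y ≠ 1 := by
    by_contra hc
    push_neg at hc
    have hbot : L ⊓ L.map g.toMonoidHom = ⊥ := by
      rw [eq_bot_iff]
      intro x hx
      exact hc x hx.1 hx.2
    have h1 := Subgroup.index_inf_le (H := L) (K := L.map g.toMonoidHom)
    rw [hbot, Subgroup.index_bot, hcard, hiLL, hcgL] at h1
    have h2 : p ^ 3 = p ^ 2 * p := pow_succ p 2
    nlinarith [hp0.two_le, pow_pos hp0.pos 2]
  obtain ⟨τ, hτ⟩ := hφs ⟨y, hyL⟩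
  have hτe : τ.1 c₁ * c₁⁻¹ = y := congrArg Subtype.val hτ
  have hτ1 : τ.1 = 1 := by
    apply hkey _ τ.2
    have e : τ.1 c₁ = y * c₁ := by
      rw [← hτe]
      group
    rw [e]
    exact (L.map g.toMonoidHom).mul_mem hyg hc₁m
  apply hy1
  rw [← hτe, hτ1]
  simp

end main

end Cfsg.Agent.Lib.MCEss.GL3
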