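import Cfsg.Agent.Lib.FGStruct.MCEngel

/-!
# The graded commutator calculus of a `p`-group of maximal class

A frame is a choice of a generator of each layer `Φ j / Φ (j + 1)`; `cf F j y` is the coordinate of
`y ∈ Φ j` on that layer. Commutators are bilinear on layers, and the Hall-Witt identity gives a graded
Jacobi identity.
-/

set_option autoImplicit false
set_option linter.unusedSectionVars false

namespace Cfsg.Agent.Lib.MCEss.Graded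

open Subgroup Cfsg.Agent.Lib.FG7.HallPetrescu Cfsg.Agent.Lib.PGroups.UniformShift
open Cfsg.Agent.Lib.PGroups.MaxAbelian Cfsg.Agent.Lib.FGStruct.UnifZ Cfsg.Agent.Lib.FGStruct.MCBlack
open scoped commutatorElement

universe u

variable {G : Type u} [Group G] [Finite G] {p : ℕ} [hp : Fact p.Prime] {n : ℕ}

local notation "Φ" => lcsF G

/-- A frame of a group of maximal class. -/
structure Fr (G : Type u) [Group G] (p n : ℕ) where
  mc : MC p n G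
  x : ℕ → G
  hW : ∀ j, 2 ≤ j → j < n → W j (x j)

theorem cm {x y : G} {i j : ℕ} (hx : x ∈ Φ i) (hy : y ∈ Φ j) : ⁅x, y⁆ ∈ Φ (i + j) :=
  lcsF_comm i j (commutator_mem_commutator hx hy)

theorem cm' {x y : G} {i j N : ℕ} (hx : x ∈ Φ i) (hy : y ∈ Φ j) (hN : N ≤ i + j) : ⁅x, y⁆ ∈ Φ N :=
  Phi_anti hN (cm hx hy)

theorem mem_one (x : G) : x ∈ Φ 1 := mem_top x

theorem comm_succ {x : G} {j : ℕ} (g : G) (hx : x ∈ Φ j) : ⁅g, x⁆ ∈ Φ (j + 1) := by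
  have := cm (mem_one g) hx
  rwa [add_comm] at this

theorem comm_mul_left (a b c : G) : ⁅a * b, c⁆ = a * ⁅b, c⁆ * a⁻¹ * ⁅a, c⁆ := by
  simp only [commutatorElement_def]
  group

theorem comm_mul_right (a b c : G) : ⁅a, b * c⁆ = ⁅a, b⁆ * (b * ⁅a, c⁆ * b⁻¹) := by
  simp only [commutatorElement_def]
  group

theorem hall_witt (a b c : G) :
    ⁅⁅a, b⁆, b * c * b⁻¹⁆ * ⁅⁅b, c⁆, c * a * c⁻¹⁆ * ⁅⁅c, a⁆, a * b * a⁻¹⁆ = 1 := by
  simp only [commutatorElement_def]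
  group

section coord

variable (F : Fr G p n)

theorem pow_p_mem {j : ℕ} (hj : 2 ≤ j) (hjn : j < n) : (F.x j) ^ p ∈ Φ (j + 1) := by
  have hi := F.mc.relIndex hj hjn
  have hW := F.hW j hj hjn
  have : (Φ (j + 1)).Normal := Phi_normal _
  let N' : Subgroup (Φ j) := (Φ (j + 1)).subgroupOf (Φ j)
  have hc : Nat.card ((Φ j) ⧸ N') = p := by
    rw [← Subgroup.index_eq_card]
    exact hi
  have h1 : ((⟨F.x j, hW.1⟩ : Φ j) : (Φ j) ⧸ N') ^ p = 1 := by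
    have h0 := pow_card_eq_one' (x := ((⟨F.x j, hW.1⟩ : Φ j) : (Φ j) ⧸ N'))
    rwa [hc] at h0
  rw [← QuotientGroup.mk_pow, QuotientGroup.eq_one_iff] at h1
  exact h1

/-- The uniqueness of the coordinate. -/
theorem cast_eq_of {j : ℕ} (hj : 2 ≤ j) (hjn : j < n) {e f : ℕ}
    (h : (F.x j) ^ e * ((F.x j) ^ f)⁻¹ ∈ Φ (j + 1)) : (e : ZMod p) = f := by
  have : (Φ (j + 1)).Normal := Phi_normal _
  have hW := F.hW j hj hjn
  let q : G ⧸ Φ (j + 1) := ((F.x j : G) : G ⧸ Φ (j + 1))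
  have hq1 : q ≠ 1 := fun h1 => hW.2 ((QuotientGroup.eq_one_iff _).1 h1)
  have hqp : q ^ p = 1 := by
    show ((F.x j : G) : G ⧸ Φ (j + 1)) ^ p = 1
    rw [← QuotientGroup.mk_pow, QuotientGroup.eq_one_iff]
    exact pow_p_mem F hj hjn
  have hord : orderOf q = p := orderOf_eq_prime hqp hq1
  have h2 : q ^ e = q ^ f := by
    have h3 : (((F.x j) ^ e * ((F.x j) ^ f)⁻¹ : G) : G ⧸ Φ (j + 1)) = 1 := (QuotientGroup.eq_one_iff _).2 h
    rw [QuotientGroup.mk_mul, QuotientGroup.mk_inv, QuotientGroup.mk_pow, QuotientGroup.mk_pow] at h3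
    exact mul_inv_eq_one.1 h3
  rw [pow_eq_pow_iff_modEq, hord] at h2
  exact (ZMod.natCast_eq_natCast_iff _ _ _).2 h2

open Classical in
/-- The coordinate of an element of a layer. -/
noncomputable def cf (j : ℕ) (y : G) : ZMod p :=
  if h : ∃ e : ℕ, y * ((F.x j) ^ e)⁻¹ ∈ Φ (j + 1) then ((Classical.choose h : ℕ) : ZMod p) else 0

theorem cf_exists {j : ℕ} (hj : 2 ≤ j) (hjn : j < n) {y : G} (hy : y ∈ Φ j) :
    ∃ e : ℕ, y * ((F.x j) ^ e)⁻¹ ∈ Φ (j + 1) :=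
  F.mc.exists_pow hj hjn (F.hW j hj hjn) hy

theorem cf_eq {j : ℕ} (hj : 2 ≤ j) (hjn : j < n) {y : G} {e : ℕ} (h : y * ((F.x j) ^ e)⁻¹ ∈ Φ (j + 1)) :
    cf F j y = (e : ZMod p) := by
  have hex : ∃ e : ℕ, y * ((F.x j) ^ e)⁻¹ ∈ Φ (j + 1) := ⟨e, h⟩
  unfold cf
  rw [dif_pos hex]
  apply cast_eq_of F hj hjn
  have h1 := Classical.choose_spec hex
  have h2 := (Φ (j + 1)).mul_mem ((Φ (j + 1)).inv_mem h1) h
  have h3 : (y * ((F.x j) ^ (Classical.choose hex))⁻¹)⁻¹ * (y * ((F.x j) ^ e)⁻¹) =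
      (F.x j) ^ (Classical.choose hex) * ((F.x j) ^ e)⁻¹ := by group
  rwa [h3] at h2

/-- The defining property of the coordinate. -/
theorem cf_spec {j : ℕ} (hj : 2 ≤ j) (hjn : j < n) {y : G} (hy : y ∈ Φ j) :
    y * ((F.x j) ^ (cf F j y).val)⁻¹ ∈ Φ (j + 1) := by
  obtain ⟨e, he⟩ := cf_exists F hj hjn hy
  rw [cf_eq F hj hjn he]
  have : (Φ (j + 1)).Normal := Phi_normal _
  have hord := pow_p_mem F hj hjn
  rw [ZMod.val_natCast]
  have h1 : (F.x j) ^ e = (F.x j) ^ (e % p) * ((F.x j) ^ p) ^ (e / p) := by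
    rw [← pow_mul, ← pow_add, Nat.mod_add_div]
  have h2 : ((F.x j) ^ (e % p))⁻¹ = ((F.x j) ^ e)⁻¹ * ((F.x j) ^ p) ^ (e / p) := by
    rw [h1]
    group
  rw [h2, ← mul_assoc]
  exact (Φ (j + 1)).mul_mem he ((Φ (j + 1)).pow_mem hord _)

theorem cf_eq_zero {j : ℕ} (hj : 2 ≤ j) (hjn : j < n) {y : G} (hy : y ∈ Φ (j + 1)) : cf F j y = 0 := by
  have h1 : y * ((F.x j) ^ 0)⁻¹ ∈ Φ (j + 1) := by simpa using hy
  rw [cf_eq F hj hjn h1]
  simp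

theorem mem_of_cf_eq_zero {j : ℕ} (hj : 2 ≤ j) (hjn : j < n) {y : G} (hy : y ∈ Φ j) (h0 : cf F j y = 0) :
    y ∈ Φ (j + 1) := by
  have h1 := cf_spec F hj hjn hy
  rw [h0] at h1
  simpa using h1

theorem cf_eq_zero_iff {j : ℕ} (hj : 2 ≤ j) (hjn : j < n) {y : G} (hy : y ∈ Φ j) :
    cf F j y = 0 ↔ y ∈ Φ (j + 1) :=
  ⟨mem_of_cf_eq_zero F hj hjn hy, cf_eq_zero F hj hjn⟩

theorem cf_self {j : ℕ} (hj : 2 ≤ j) (hjn : j < n) : cf F j (F.x j) = 1 := by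
  have h1 : F.x j * ((F.x j) ^ 1)⁻¹ ∈ Φ (j + 1) := by simp [one_mem]
  rw [cf_eq F hj hjn h1]
  simp

theorem cf_mul {j : ℕ} (hj : 2 ≤ j) (hjn : j < n) {y z : G} (hy : y ∈ Φ j) (hz : z ∈ Φ j) :
    cf F j (y * z) = cf F j y + cf F j z := by
  have : (Φ (j + 1)).Normal := Phi_normal _
  have h1 := cf_spec F hj hjn hy
  have h2 := cf_spec F hj hjn hz
  set a := (cf F j y).val with ha
  set b := (cf F j z).val with hb
  have h3 : y * z * ((F.x j) ^ (a + b))⁻¹ ∈ Φ (j + 1) := by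
    have h4 : y * z * ((F.x j) ^ (a + b))⁻¹ =
        (y * ((F.x j) ^ a)⁻¹) * ((F.x j) ^ a * (z * ((F.x j) ^ b)⁻¹) * ((F.x j) ^ a)⁻¹) := by
      rw [pow_add]
      group
    rw [h4]
    exact (Φ (j + 1)).mul_mem h1 (‹(Φ (j + 1)).Normal›.conj_mem _ h2 _)
  rw [cf_eq F hj hjn h3, Nat.cast_add, ha, hb, ZMod.natCast_zmod_val, ZMod.natCast_zmod_val]

/-- `cf` is unchanged modulo the next term. -/
theorem cf_congr {j : ℕ} (hj : 2 ≤ j) (hjn : j < n) {y z : G} (hy : y ∈ Φ j) (hz : z * y⁻¹ ∈ Φ (j + 1)) :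
    cf F j z = cf F j y := by
  have hzj : z ∈ Φ j := by
    have h1 : z = (z * y⁻¹) * y := by group
    rw [h1]
    exact (Φ j).mul_mem (Phi_anti (Nat.le_succ j) hz) hy
  have h1 : z = (z * y⁻¹) * y := by group
  rw [h1, cf_mul F hj hjn (Phi_anti (Nat.le_succ j) hz) hy, cf_eq_zero F hj hjn hz, zero_add]

theorem cf_inv {j : ℕ} (hj : 2 ≤ j) (hjn : j < n) {y : G} (hy : y ∈ Φ j) :
    cf F j y⁻¹ = - cf F j y := by
  have h1 := cf_mul F hj hjn hy ((Φ j).inv_mem hy)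
  rw [mul_inv_cancel] at h1
  have h2 : cf F j 1 = 0 := cf_eq_zero F hj hjn (one_mem _)
  rw [h2] at h1
  exact (eq_neg_of_add_eq_zero_right h1.symm)

theorem cf_pow {j : ℕ} (hj : 2 ≤ j) (hjn : j < n) {y : G} (hy : y ∈ Φ j) (e : ℕ) :
    cf F j (y ^ e) = e * cf F j y := by
  induction e with
  | zero =>
    simp [cf_eq_zero F hj hjn (one_mem _)]
  | succ e ih =>
    rw [pow_succ, cf_mul F hj hjn ((Φ j).pow_mem hy e) hy, ih]
    push_cast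
    ring

theorem cf_conj {j : ℕ} (hj : 2 ≤ j) (hjn : j < n) (g : G) {y : G} (hy : y ∈ Φ j) :
    cf F j (g * y * g⁻¹) = cf F j y := by
  apply cf_congr F hj hjn hy
  have h1 : g * y * g⁻¹ * y⁻¹ = ⁅g, y⁆ := rfl
  rw [h1]
  exact comm_succ g hy

/-- Two elements with the same coordinate agree modulo the next term. -/
theorem mem_of_cf_eq {j : ℕ} (hj : 2 ≤ j) (hjn : j < n) {y z : G} (hy : y ∈ Φ j) (hz : z ∈ Φ j)
    (h : cf F j y = cf F j z) : y * z⁻¹ ∈ Φ (j + 1) := by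
  apply mem_of_cf_eq_zero F hj hjn ((Φ j).mul_mem hy ((Φ j).inv_mem hz))
  rw [cf_mul F hj hjn hy ((Φ j).inv_mem hz), cf_inv F hj hjn hz, h, add_neg_cancel]

/-! ### Bilinearity of commutators -/

variable {N i j l : ℕ}

theorem cc_mul_left (hN2 : 2 ≤ N) (hNn : N < n) (hN : j + l = N) {a b c : G} (ha : a ∈ Φ j) (hb : b ∈ Φ j)
    (hc : c ∈ Φ l) : cf F N ⁅a * b, c⁆ = cf F N ⁅a, c⁆ + cf F N ⁅b, c⁆ := by
  subst hN
  rw [comm_mul_left, cf_mul F hN2 hNn ?_ (cm ha hc), cf_conj F hN2 hNn _ (cm hb hc), add_comm]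
  exact (Phi_normal (G := G) _).conj_mem _ (cm hb hc) _

theorem cc_mul_right (hN2 : 2 ≤ N) (hNn : N < n) (hN : j + l = N) {a b c : G} (ha : a ∈ Φ j) (hb : b ∈ Φ l)
    (hc : c ∈ Φ l) : cf F N ⁅a, b * c⁆ = cf F N ⁅a, b⁆ + cf F N ⁅a, c⁆ := by
  subst hN
  rw [comm_mul_right, cf_mul F hN2 hNn (cm ha hb) ?_, cf_conj F hN2 hNn _ (cm ha hc)]
  exact (Phi_normal (G := G) _).conj_mem _ (cm ha hc) _

theorem cc_zero_left (hN2 : 2 ≤ N) (hNn : N < n) (hN : j + l = N) {a c : G} (ha : a ∈ Φ (j + 1))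
    (hc : c ∈ Φ l) : cf F N ⁅a, c⁆ = 0 := by
  apply cf_eq_zero F hN2 hNn
  exact cm' ha hc (by omega)

theorem cc_zero_right (hN2 : 2 ≤ N) (hNn : N < n) (hN : j + l = N) {a c : G} (ha : a ∈ Φ j)
    (hc : c ∈ Φ (l + 1)) : cf F N ⁅a, c⁆ = 0 := by
  apply cf_eq_zero F hN2 hNn
  exact cm' ha hc (by omega)

theorem cc_inv_left (hN2 : 2 ≤ N) (hNn : N < n) (hN : j + l = N) {a c : G} (ha : a ∈ Φ j)
    (hc : c ∈ Φ l) : cf F N ⁅a⁻¹, c⁆ = - cf F N ⁅a, c⁆ := by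
  have h1 := cc_mul_left F hN2 hNn hN ha ((Φ j).inv_mem ha) hc
  rw [mul_inv_cancel, commutatorElement_one_left, cf_eq_zero F hN2 hNn (one_mem _)] at h1
  exact eq_neg_of_add_eq_zero_right h1.symm

theorem cc_inv_right (hN2 : 2 ≤ N) (hNn : N < n) (hN : j + l = N) {a c : G} (ha : a ∈ Φ j)
    (hc : c ∈ Φ l) : cf F N ⁅a, c⁻¹⁆ = - cf F N ⁅a, c⁆ := by
  have h1 := cc_mul_right F hN2 hNn hN ha hc ((Φ l).inv_mem hc)
  rw [mul_inv_cancel, commutatorElement_one_right, cf_eq_zero F hN2 hNn (one_mem _)] at h1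
  exact eq_neg_of_add_eq_zero_right h1.symm

theorem cc_pow_left (hN2 : 2 ≤ N) (hNn : N < n) (hN : j + l = N) {a c : G} (ha : a ∈ Φ j)
    (hc : c ∈ Φ l) (e : ℕ) : cf F N ⁅a ^ e, c⁆ = e * cf F N ⁅a, c⁆ := by
  induction e with
  | zero =>
    simp [cf_eq_zero F hN2 hNn (one_mem _)]
  | succ e ih =>
    rw [pow_succ, cc_mul_left F hN2 hNn hN ((Φ j).pow_mem ha e) ha hc, ih]
    push_cast
    ring

theorem cc_pow_right (hN2 : 2 ≤ N) (hNn : N < n) (hN : j + l = N) {a c : G} (ha : a ∈ Φ j)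
    (hc : c ∈ Φ l) (e : ℕ) : cf F N ⁅a, c ^ e⁆ = e * cf F N ⁅a, c⁆ := by
  induction e with
  | zero =>
    simp [cf_eq_zero F hN2 hNn (one_mem _)]
  | succ e ih =>
    rw [pow_succ, cc_mul_right F hN2 hNn hN ha ((Φ l).pow_mem hc e) hc, ih]
    push_cast
    ring

/-- Skew symmetry. -/
theorem cc_swap (hN2 : 2 ≤ N) (hNn : N < n) (hN : j + l = N) {a c : G} (ha : a ∈ Φ j)
    (hc : c ∈ Φ l) : cf F N ⁅c, a⁆ = - cf F N ⁅a, c⁆ := by
  rw [← commutatorElement_inv, cf_inv F hN2 hNn (by subst hN; exact cm ha hc)]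

/-- Congruence in the left argument. -/
theorem cc_congr_left (hN2 : 2 ≤ N) (hNn : N < n) (hN : j + l = N) {a a' c : G} (ha : a ∈ Φ j)
    (haa : a' * a⁻¹ ∈ Φ (j + 1)) (hc : c ∈ Φ l) : cf F N ⁅a', c⁆ = cf F N ⁅a, c⁆ := by
  have h1 : a' = (a' * a⁻¹) * a := by group
  rw [h1, cc_mul_left F hN2 hNn hN (Phi_anti (Nat.le_succ j) haa) ha hc,
    cc_zero_left F hN2 hNn hN haa hc, zero_add]

/-- Congruence in the right argument. -/
theorem cc_congr_right (hN2 : 2 ≤ N) (hNn : N < n) (hN : j + l = N) {a c c' : G} (ha : a ∈ Φ j)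
    (hc : c ∈ Φ l) (hcc : c' * c⁻¹ ∈ Φ (l + 1)) : cf F N ⁅a, c'⁆ = cf F N ⁅a, c⁆ := by
  have h1 : c' = (c' * c⁻¹) * c := by group
  rw [h1, cc_mul_right F hN2 hNn hN ha (Phi_anti (Nat.le_succ l) hcc) hc,
    cc_zero_right F hN2 hNn hN ha hcc, zero_add]

/-- Expansion in the left argument. -/
theorem cc_basis_left (hN2 : 2 ≤ N) (hNn : N < n) (hN : j + l = N) (hj : 2 ≤ j) {a c : G} (ha : a ∈ Φ j)
    (hc : c ∈ Φ l) : cf F N ⁅a, c⁆ = cf F j a * cf F N ⁅F.x j, c⁆ := by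
  by_cases hjn : j < n
  · have hW := F.hW j hj hjn
    have h1 := cf_spec F hj hjn ha
    rw [cc_congr_left F hN2 hNn hN ((Φ j).pow_mem hW.1 _) h1 hc,
      cc_pow_left F hN2 hNn hN hW.1 hc, ZMod.natCast_zmod_val]
  · omega

/-- Expansion in the right argument. -/
theorem cc_basis_right (hN2 : 2 ≤ N) (hNn : N < n) (hN : j + l = N) (hl : 2 ≤ l) {a c : G} (ha : a ∈ Φ j)
    (hc : c ∈ Φ l) : cf F N ⁅a, c⁆ = cf F l c * cf F N ⁅a, F.x l⁆ := by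
  by_cases hln : l < n
  · have hW := F.hW l hl hln
    have h1 := cf_spec F hl hln hc
    rw [cc_congr_right F hN2 hNn hN ha ((Φ l).pow_mem hW.1 _) h1,
      cc_pow_right F hN2 hNn hN ha hW.1, ZMod.natCast_zmod_val]
  · omega

/-- **Graded Jacobi identity.** -/
theorem jacobi (hN2 : 2 ≤ N) (hNn : N < n) {i k l : ℕ} (hN : i + k + l = N) (hi : 1 ≤ i) (hk : 1 ≤ k) (hl : 1 ≤ l)
    {a b c : G} (ha : a ∈ Φ i) (hb : b ∈ Φ k) (hc : c ∈ Φ l) :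
    cf F N ⁅⁅a, b⁆, c⁆ + cf F N ⁅⁅b, c⁆, a⁆ + cf F N ⁅⁅c, a⁆, b⁆ = 0 := by
  have hw := hall_witt a b c
  have hab := cm ha hb
  have hbc := cm hb hc
  have hca := cm hc ha
  have e1 : cf F N ⁅⁅a, b⁆, b * c * b⁻¹⁆ = cf F N ⁅⁅a, b⁆, c⁆ := by
    refine cc_congr_right F hN2 hNn hN hab hc ?_
    exact comm_succ b hc
  have e2 : cf F N ⁅⁅b, c⁆, c * a * c⁻¹⁆ = cf F N ⁅⁅b, c⁆, a⁆ := by
    refine cc_congr_right F hN2 hNn (by omega) hbc ha ?_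
    exact comm_succ c ha
  have e3 : cf F N ⁅⁅c, a⁆, a * b * a⁻¹⁆ = cf F N ⁅⁅c, a⁆, b⁆ := by
    refine cc_congr_right F hN2 hNn (by omega) hca hb ?_
    exact comm_succ a hb
  have m1 : ⁅⁅a, b⁆, b * c * b⁻¹⁆ ∈ Φ N :=
    cm' hab ((Phi_normal _).conj_mem _ hc _) (by omega)
  have m2 : ⁅⁅b, c⁆, c * a * c⁻¹⁆ ∈ Φ N :=
    cm' hbc ((Phi_normal _).conj_mem _ ha _) (by omega)
  have m3 : ⁅⁅c, a⁆, a * b * a⁻¹⁆ ∈ Φ N :=
    cm' hca ((Phi_normal _).conj_mem _ hb _) (by omega)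
  have h1 := congrArg (cf F N) hw
  rw [cf_mul F hN2 hNn ((Φ N).mul_mem m1 m2) m3, cf_mul F hN2 hNn m1 m2, e1, e2, e3,
    cf_eq_zero F hN2 hNn (one_mem _)] at h1
  exact h1

end coord

end Cfsg.Agent.Lib.MCEss.Graded
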