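import Cfsg.Agent.Lib.MCEss.Struct2

/-!
# Scalars of partial automorphisms on the layers of the filtration
-/

set_option autoImplicit false
set_option linter.unusedSectionVars false

namespace Cfsg.Agent.Lib.MCEss.Signs

open Subgroup Cfsg.Agent.Lib.FG7.HallPetrescu Cfsg.Agent.Lib.PGroups.UniformShift
open Cfsg.Agent.Lib.PGroups.MaxAbelian Cfsg.Agent.Lib.FGStruct.UnifZ Cfsg.Agent.Lib.FGStruct.MCBlack
open Cfsg.Agent.Lib.MCEss.Graded Cfsg.Agent.Lib.MCEss.Numeric Cfsg.Agent.Lib.MCEss.Const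
open Cfsg.Agent.Lib.MCEss.Basic Cfsg.Agent.Lib.MCEss.Struct Cfsg.Agent.Lib.MCEss.Struct2
open scoped commutatorElement

universe u

variable {G : Type u} [Group G] [Finite G] {p : ℕ} [hp : Fact p.Prime] {n : ℕ}

local notation "Φ" => lcsF G

section scalar

variable (F : Fr G p n) {f : G → G} {A : Subgroup G}

/-- A partial homomorphism preserving two consecutive terms acts on the layer by a scalar. -/
theorem cf_map {j : ℕ} (hj : 2 ≤ j) (hjn : j < n) (hA : Φ j ≤ A) (hf : PH A f) (hj0 : ∀ x ∈ Φ j, f x ∈ Φ j)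
    (hj1 : ∀ x ∈ Φ (j + 1), f x ∈ Φ (j + 1)) {x : G} (hx : x ∈ Φ j) :
    cf F j (f x) = cf F j x * cf F j (f (F.x j)) := by
  have hW := F.hW j hj hjn
  have h1 := cf_spec F hj hjn hx
  set c := (cf F j x).val with hc
  set z := x * ((F.x j) ^ c)⁻¹ with hz
  have e1 : x = z * (F.x j) ^ c := by
    rw [hz]
    group
  have hxc : (F.x j) ^ c ∈ Φ j := (Φ j).pow_mem hW.1 c
  have hz1 : z ∈ Φ j := Phi_anti (Nat.le_succ j) h1
  have e2 : f x = f z * (f (F.x j)) ^ c := by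
    rw [e1, hf.mul _ (hA hz1) _ (hA hxc), hf.pow (hA hW.1)]
  have h2 := hj0 _ hW.1
  rw [e2, cf_mul F hj hjn (Phi_anti (Nat.le_succ j) (hj1 z h1)) ((Φ j).pow_mem h2 c), cf_eq_zero F hj hjn (hj1 z h1),
    zero_add, cf_pow F hj hjn h2, hc, ZMod.natCast_zmod_val]

/-- The sign relation for the element `u` inverted by `f`. -/
theorem scalar_step {u : G} {j : ℕ} (hj : 2 ≤ j) (hjn : j + 1 < n) (hA : Φ j ≤ A) (huA : u ∈ A) (hf : PH A f)
    (hfu : f u = u⁻¹) (hj0 : ∀ x ∈ Φ j, f x ∈ Φ j) (hj1 : ∀ x ∈ Φ (j + 1), f x ∈ Φ (j + 1))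
    (hj2 : ∀ x ∈ Φ (j + 2), f x ∈ Φ (j + 2)) (hu : u ∉ Mj j) :
    cf F (j + 1) (f (F.x (j + 1))) = - cf F j (f (F.x j)) := by
  have hW := F.hW j hj (by omega)
  have hv : ⁅F.x j, u⁆ ∈ Φ (j + 1) := cm' hW.1 (mem_one u) (by omega)
  have hv0 : cf F (j + 1) ⁅F.x j, u⁆ ≠ 0 := by
    intro h0
    apply hu
    rw [F.mc.mem_Mj_iff hj (by omega) hW, D_mem_iff]
    exact mem_of_cf_eq_zero F (by omega) hjn hv h0
  have h1 := cf_map F (j := j + 1) (by omega) hjn ((Phi_anti (Nat.le_succ j)).trans hA) hf hj1 hj2 hv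
  rw [hf.comm (hA hW.1) huA, hfu, cc_inv_right F (N := j + 1) (by omega) hjn rfl (hj0 _ hW.1) (mem_one u),
    cc_basis_left F (by omega) hjn rfl hj (hj0 _ hW.1) (mem_one u)] at h1
  have h2 : cf F (j + 1) ⁅F.x j, u⁆ * (cf F (j + 1) (f (F.x (j + 1))) + cf F j (f (F.x j))) = 0 := by
    rw [mul_add, ← h1]
    ring
  have h3 := (mul_eq_zero.1 h2).resolve_left hv0
  exact eq_neg_of_add_eq_zero_left h3

/-- The scalar when an element is inverted. -/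
theorem scalar_of_inv {j : ℕ} (hj : 2 ≤ j) (hjn : j < n) (hA : Φ j ≤ A) (hf : PH A f) (hj0 : ∀ x ∈ Φ j, f x ∈ Φ j)
    (hj1 : ∀ x ∈ Φ (j + 1), f x ∈ Φ (j + 1)) {c : G} (hc : c ∈ Φ j) (hc1 : c ∉ Φ (j + 1)) (hfc : f c = c⁻¹) :
    cf F j (f (F.x j)) = -1 := by
  have h1 := cf_map F hj hjn hA hf hj0 hj1 hc
  rw [hfc, cf_inv F hj hjn hc] at h1
  have hc0 : cf F j c ≠ 0 := fun h0 => hc1 (mem_of_cf_eq_zero F hj hjn hc h0)
  have h2 : cf F j c * (cf F j (f (F.x j)) + 1) = 0 := by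
    rw [mul_add, ← h1]
    ring
  have h3 := (mul_eq_zero.1 h2).resolve_left hc0
  exact eq_neg_of_add_eq_zero_left h3

/-- The scalar when an element is fixed modulo the next term. -/
theorem scalar_of_fix {j : ℕ} (hj : 2 ≤ j) (hjn : j < n) (hA : Φ j ≤ A) (hf : PH A f) (hj0 : ∀ x ∈ Φ j, f x ∈ Φ j)
    (hj1 : ∀ x ∈ Φ (j + 1), f x ∈ Φ (j + 1)) {c : G} (hc : c ∈ Φ j) (hc1 : c ∉ Φ (j + 1))
    (hfc : f c * c⁻¹ ∈ Φ (j + 1)) : cf F j (f (F.x j)) = 1 := by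
  have h1 := cf_map F hj hjn hA hf hj0 hj1 hc
  rw [cf_congr F hj hjn hc hfc] at h1
  have hc0 : cf F j c ≠ 0 := fun h0 => hc1 (mem_of_cf_eq_zero F hj hjn hc h0)
  have h2 : cf F j c * (cf F j (f (F.x j)) - 1) = 0 := by
    rw [mul_sub, ← h1]
    ring
  have h3 := (mul_eq_zero.1 h2).resolve_left hc0
  exact sub_eq_zero.1 h3

end scalar

section SB

variable (F : Fr G p n) {f : G → G} {u : G} {r : ℕ}

/-- **The exceptional case**: the middle commutator is inverted. -/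
theorem sb_main (hr : 2 ≤ r) (hrn : 2 * r + 2 = n) (hF : aa F (r + 1) r ≠ 0) (hf : PH (Q u r) f)
    (hinv : ∀ k, r ≤ k → k ≤ n - 2 → ∀ x ∈ Φ k, f x ∈ Φ k) (hfu : f u = u⁻¹)
    (hu : ∀ k, r ≤ k → k + 3 ≤ n → u ∉ Mj k) {c : G} (hc : c ∈ Φ (n - 2)) (hc1 : c ∉ Φ (n - 1)) (hfc : f c = c⁻¹) :
    ⁅F.x (r + 1), F.x r⁆ ∈ Φ (n - 1) ∧ ⁅F.x (r + 1), F.x r⁆ ≠ 1 ∧ f ⁅F.x (r + 1), F.x r⁆ = ⁅F.x (r + 1), F.x r⁆⁻¹ := by
  have hW0 := F.hW r hr (by omega)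
  have hW1 := F.hW (r + 1) (by omega) (by omega)
  have hQ : ∀ {k}, r ≤ k → Φ k ≤ Q u r := fun hk => (Phi_anti hk).trans (phi_le_Q u r)
  have hz : ⁅F.x (r + 1), F.x r⁆ ∈ Φ (n - 1) := cm' hW1.1 hW0.1 (by omega)
  have haa : cf F (n - 1) ⁅F.x (r + 1), F.x r⁆ ≠ 0 := by
    rw [← aa_eq F (N := n - 1) (by omega)]
    exact hF
  have hz1 : ⁅F.x (r + 1), F.x r⁆ ≠ 1 := by
    intro h1
    apply haa
    rw [h1]
    exact cf_eq_zero F (by omega) (by omega) (one_mem _)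
  have hfz : f ⁅F.x (r + 1), F.x r⁆ = ⁅f (F.x (r + 1)), f (F.x r)⁆ := hf.comm (hQ (by omega) hW1.1) (hQ le_rfl hW0.1)
  have hr0 := hinv r le_rfl (by omega) _ hW0.1
  have hr1 := hinv (r + 1) (by omega) (by omega) _ hW1.1
  have hfz1 : f ⁅F.x (r + 1), F.x r⁆ ∈ Φ (n - 1) := by
    rw [hfz]
    exact cm' hr1 hr0 (by omega)
  have hbot : lcsF G n = ⊥ := F.mc.bot
  -- invariance of the last term
  have htop : ∀ x ∈ Φ (n - 1), f x ∈ Φ (n - 1) := by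
    intro x hx
    have hW : W (n - 1) ⁅F.x (r + 1), F.x r⁆ := ⟨hz, by
      rw [show n - 1 + 1 = n by omega, hbot, mem_bot]
      exact hz1⟩
    obtain ⟨m, hm⟩ := F.mc.exists_pow (by omega) (by omega) hW hx
    rw [show n - 1 + 1 = n by omega, hbot, mem_bot] at hm
    have e1 : x = ⁅F.x (r + 1), F.x r⁆ ^ m := eq_of_mul_inv_eq_one hm
    rw [e1, hf.pow (hQ (by omega) hz)]
    exact (Φ (n - 1)).pow_mem hfz1 m
  have hall : ∀ k, r ≤ k → k ≤ n - 1 → ∀ x ∈ Φ k, f x ∈ Φ k := by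
    intro k hk hkn
    by_cases hk1 : k ≤ n - 2
    · exact hinv k hk hk1
    · obtain rfl : k = n - 1 := by omega
      exact htop
  -- the scalars
  have hstep : ∀ j, r ≤ j → j + 3 ≤ n → cf F (j + 1) (f (F.x (j + 1))) = - cf F j (f (F.x j)) := by
    intro j hj hjn
    exact scalar_step F (by omega) (by omega) (hQ hj) (u_mem_Q u r) hf hfu (hall j hj (by omega))
      (hall (j + 1) (by omega) (by omega)) (hall (j + 2) (by omega) (by omega)) (hu j hj hjn)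
  have htopμ : cf F (n - 2) (f (F.x (n - 2))) = -1 := by
    refine scalar_of_inv F (by omega) (by omega) (hQ (by omega)) hf (hall _ (by omega) (by omega)) ?_ hc ?_ hfc
    · rw [show n - 2 + 1 = n - 1 by omega]
      exact htop
    · rwa [show n - 2 + 1 = n - 1 by omega]
  have hsq : ∀ d, r + d ≤ n - 2 → (cf F (n - 2 - d) (f (F.x (n - 2 - d)))) ^ 2 = 1 := by
    intro d
    induction d with
    | zero =>
      intro _
      simp only [Nat.sub_zero]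
      rw [htopμ]
      ring
    | succ d ih =>
      intro hd
      have h1 := ih (by omega)
      have h2 := hstep (n - 2 - (d + 1)) (by omega) (by omega)
      rw [show n - 2 - (d + 1) + 1 = n - 2 - d by omega] at h2
      rw [h2, neg_sq] at h1
      exact h1
  have hμ := hsq (n - 2 - r) (by omega)
  rw [show n - 2 - (n - 2 - r) = r by omega] at hμ
  have hμ1 := hstep r le_rfl (by omega)
  refine ⟨hz, hz1, ?_⟩
  have hcf : cf F (n - 1) (f ⁅F.x (r + 1), F.x r⁆) = cf F (n - 1) ⁅F.x (r + 1), F.x r⁆⁻¹ := by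
    rw [hfz, cc_basis_left F (N := n - 1) (by omega) (by omega) (by omega) (by omega) hr1 hr0,
      cc_basis_right F (N := n - 1) (by omega) (by omega) (by omega) hr hW1.1 hr0, hμ1,
      cf_inv F (by omega) (by omega) hz]
    have : - cf F r (f (F.x r)) * (cf F r (f (F.x r)) * cf F (n - 1) ⁅F.x (r + 1), F.x r⁆) =
      - ((cf F r (f (F.x r))) ^ 2 * cf F (n - 1) ⁅F.x (r + 1), F.x r⁆) := by ring
    rw [this, hμ, one_mul]
  have h3 := mem_of_cf_eq F (by omega) (by omega) hfz1 ((Φ (n - 1)).inv_mem hz) hcf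
  rw [show n - 1 + 1 = n by omega, hbot, mem_bot] at h3
  exact eq_of_mul_inv_eq_one h3

end SB

section SA

variable (F : Fr G p n) {f : G → G} {u : G}

omit hp in
theorem one_ne_neg_one_zmod [Fact p.Prime] (hodd : p ≠ 2) : (1 : ZMod p) ≠ -1 := by
  intro h1
  have h2 : (2 : ZMod p) = 0 := by
    have : (2 : ZMod p) = 1 - (-1) := by ring
    rw [this, ← h1, sub_self]
  have h3 : ((2 : ℕ) : ZMod p) = 0 := by exact_mod_cast h2
  rw [ZMod.natCast_eq_zero_iff] at h3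
  exact hodd ((Nat.prime_dvd_prime_iff_eq (Fact.out) Nat.prime_two).1 h3)

theorem Q2_normal (u : G) : (Q u 2).Normal := by
  constructor
  intro x hx g
  have e : g * x * g⁻¹ = ⁅g, x⁆ * x := by
    rw [commutatorElement_def]
    group
  rw [e]
  exact (Q u 2).mul_mem (phi_le_Q u 2 (cm' (mem_one g) (mem_one x) (by omega))) hx

/-- The structure of an automorphism with `u ↦ u⁻¹`, `u ∈ Mj 2`. -/
theorem sa_core (h5 : 5 ≤ n) (hf : PH (⊤ : Subgroup G) f) (hinv : ∀ k, ∀ x ∈ Φ k, f x ∈ Φ k) (hfu : f u = u⁻¹)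
    (hup : u ^ p = 1) (hu2 : u ∉ Φ 2) (hM : u ∈ Mj 2) {z : G} (hz : z ∉ Q u 2) :
    ∃ (q : G) (a : ℕ), q ∈ Q u 2 ∧ f z = q * z ^ a ∧ cf F 2 (f (F.x 2)) = - (a : ZMod p) ∧
      cf F 3 (f (F.x 3)) = - (a : ZMod p) ^ 2 := by
  have h := F.mc
  have hQM : Q u 2 ≤ Mj 2 := sup_le ((zpowers_le).2 hM) (Phi2_le_Mj 2)
  have hzM : z ∉ Mj 2 := by
    intro hzM
    have hlt : zpowers u ⊔ Φ 2 < Mj (G := G) 2 := by
      refine lt_of_le_of_ne hQM ?_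
      intro e
      apply hz
      show z ∈ zpowers u ⊔ Φ 2
      rw [e]
      exact hzM
    exact h.Mj_ne_top (j := 2) le_rfl (by omega) (eq_top_of_lt_sM h hu2 hlt)
  have hidx : (Q u 2).relIndex ⊤ = p := by
    rw [Subgroup.relIndex_top_right]
    have h1 := (Q u 2).index_mul_card
    rw [card_Q_eq h hup hu2 le_rfl (by omega), h.card, show n = n - 2 + 1 + 1 by omega] at h1
    rw [show n - 2 + 1 + 1 - 2 + 1 = n - 2 + 1 by omega, pow_succ p (n - 2 + 1), mul_comm] at h1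
    exact Nat.eq_of_mul_eq_mul_left (pow_pos hp.out.pos _) h1
  obtain ⟨a, ha⟩ := Cfsg.Agent.Lib.Fusion.SmallEssential.exists_pow_of_relIndex (p := p) (Q2_normal u) (mem_top z) hz hidx
    (f z) (mem_top _)
  set q := f z * (z ^ a)⁻¹ with hq
  have hfz : f z = q * z ^ a := by
    rw [hq]
    group
  refine ⟨q, a, ha, hfz, ?_⟩
  have hK3 := K_three h (by omega) hu2
  have hqK : ⁅u, q⁆ ∈ Φ 3 := by
    have h1 : q ∈ K 3 u := hK3 ▸ ha
    have h2 := (Φ 3).inv_mem (mem_K.1 h1)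
    rwa [commutatorElement_inv] at h2
  have hv3 : ⁅u, z⁆ ∉ Φ 3 := by
    intro h1
    have h2 := (Φ 3).inv_mem h1
    rw [commutatorElement_inv] at h2
    have h3 : z ∈ K 3 u := mem_K.2 h2
    rw [hK3] at h3
    exact hz h3
  have hv2 : ⁅u, z⁆ ∈ Φ 2 := cm' (mem_one u) (mem_one z) (by omega)
  have hv0 : cf F 2 ⁅u, z⁆ ≠ 0 := fun h0 => hv3 (mem_of_cf_eq_zero F le_rfl (by omega) hv2 h0)
  have hzm := mem_one z
  have hqm := mem_one q
  have hum := mem_one u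
  have h2μ : cf F 2 (f (F.x 2)) = - (a : ZMod p) := by
    have h1 := cf_map F (j := 2) le_rfl (by omega) le_top hf (hinv 2) (hinv 3) hv2
    rw [hf.comm (mem_top u) (mem_top z), hfu, hfz,
      cc_mul_right F (N := 2) le_rfl (by omega) rfl ((Φ 1).inv_mem hum) hqm ((Φ 1).pow_mem hzm a),
      cc_inv_left F (N := 2) le_rfl (by omega) rfl hum hqm, cf_eq_zero F le_rfl (by omega) hqK,
      cc_pow_right F (N := 2) le_rfl (by omega) rfl ((Φ 1).inv_mem hum) hzm,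
      cc_inv_left F (N := 2) le_rfl (by omega) rfl hum hzm] at h1
    have h2 : cf F 2 ⁅u, z⁆ * (cf F 2 (f (F.x 2)) + (a : ZMod p)) = 0 := by
      rw [mul_add, ← h1]
      ring
    exact eq_neg_of_add_eq_zero_left ((mul_eq_zero.1 h2).resolve_left hv0)
  refine ⟨h2μ, ?_⟩
  have hW2 := F.hW 2 le_rfl (by omega)
  have hs3 : ⁅F.x 2, z⁆ ∈ Φ 3 := cm' hW2.1 hzm (by omega)
  have hs0 : cf F 3 ⁅F.x 2, z⁆ ≠ 0 := by
    intro h0
    apply hzM
    rw [h.mem_Mj_iff le_rfl (by omega) hW2, D_mem_iff]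
    exact mem_of_cf_eq_zero F (by omega) (by omega) hs3 h0
  have hfx := hinv 2 _ hW2.1
  have hqM4 : cf F 3 ⁅f (F.x 2), q⁆ = 0 :=
    cf_eq_zero F (by omega) (by omega) (mem_Mj.1 (hQM ha) _ hfx)
  have h1 := cf_map F (j := 3) (by omega) (by omega) le_top hf (hinv 3) (hinv 4) hs3
  rw [hf.comm (mem_top _) (mem_top z), hfz,
    cc_mul_right F (N := 3) (by omega) (by omega) rfl hfx hqm ((Φ 1).pow_mem hzm a), hqM4, zero_add,
    cc_pow_right F (N := 3) (by omega) (by omega) rfl hfx hzm,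
    cc_basis_left F (N := 3) (by omega) (by omega) rfl le_rfl hfx hzm, h2μ] at h1
  have h2 : cf F 3 ⁅F.x 2, z⁆ * (cf F 3 (f (F.x 3)) + (a : ZMod p) ^ 2) = 0 := by
    rw [mul_add, ← h1]
    ring
  exact eq_neg_of_add_eq_zero_left ((mul_eq_zero.1 h2).resolve_left hs0)

/-- An element outside `⟨u⟩ Φ 2`. -/
theorem exists_not_Q (h : MC p n G) (h5 : 5 ≤ n) (hup : u ^ p = 1) (hu2 : u ∉ Φ 2) : ∃ z, z ∉ Q u 2 := by
  by_contra hc
  push_neg at hc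
  have h1 := card_Q_eq h hup hu2 (j := 2) le_rfl (by omega)
  have ht : Q u 2 = ⊤ := eq_top_iff.2 (fun x _ => hc x)
  rw [ht, Subgroup.card_top, h.card] at h1
  have := Nat.pow_right_injective hp.out.two_le h1
  omega

/-- The last step for `n = 6` (and whenever the scalar on `Φ 2` is `-1`). -/
theorem sa_six (hodd : p ≠ 2) (h5 : 5 ≤ n) (hf : PH (⊤ : Subgroup G) f) (hinv : ∀ k, ∀ x ∈ Φ k, f x ∈ Φ k)
    (hfu : f u = u⁻¹) (hup : u ^ p = 1) (hu2 : u ∉ Φ 2) (hM : u ∈ Mj 2) {w : G} (hw : W 3 w) (hfw : f w = w)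
    (hμ : cf F 2 (f (F.x 2)) = -1) : False := by
  obtain ⟨z, hz⟩ := exists_not_Q F.mc h5 hup hu2
  obtain ⟨q, a, -, -, h2, h3⟩ := sa_core F h5 hf hinv hfu hup hu2 hM hz
  have h4 := scalar_of_fix F (j := 3) (by omega) (by omega) le_top hf (hinv 3) (hinv 4) hw.1 hw.2 (by
    rw [hfw, mul_inv_cancel]
    exact one_mem _)
  rw [hμ] at h2
  have h5' : (a : ZMod p) = 1 := by
    have := neg_inj.1 h2
    exact this.symm
  rw [h3, h5'] at h4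
  apply one_ne_neg_one_zmod hodd
  have e : (-(1 : ZMod p) ^ 2) = -1 := by ring
  rw [e] at h4
  exact h4.symm

include F in
/-- The last step for `n = 5`. -/
theorem sa_five (hodd : p ≠ 2) (hn : n = 5) (hf : PH (⊤ : Subgroup G) f) (hinv : ∀ k, ∀ x ∈ Φ k, f x ∈ Φ k)
    (hfu : f u = u⁻¹) (hup : u ^ p = 1) (hu2 : u ∉ Φ 2) (hM : u ∈ Mj 2) (hM3 : u ∈ Mj 3) {w : G} (hw : W 3 w)
    (hfw : f w = w) {c : G} (hc : c ∈ Φ 4) (hc1 : c ∉ Φ 5) (hfc : f c = c⁻¹) : False := by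
  subst hn
  have h := F.mc
  obtain ⟨z, hz⟩ := exists_not_Q h le_rfl hup hu2
  obtain ⟨q, a, hq, hfz, h2, h3⟩ := sa_core F le_rfl hf hinv hfu hup hu2 hM hz
  have h4 := scalar_of_fix F (j := 3) (by omega) (by omega) le_top hf (hinv 3) (hinv 4) hw.1 hw.2 (by
    rw [hfw, mul_inv_cancel]
    exact one_mem _)
  have h5' := scalar_of_inv F (j := 4) (by omega) (by omega) le_top hf (hinv 4) (hinv 5) hc hc1 hfc
  have hQM : Q u 2 ≤ Mj 3 := sup_le ((zpowers_le).2 hM3) (Phi2_le_Mj 3)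
  have hzM : z ∉ Mj 3 := by
    intro hzM
    have hlt : zpowers u ⊔ Φ 2 < Mj (G := G) 3 := by
      refine lt_of_le_of_ne hQM ?_
      intro e
      apply hz
      show z ∈ zpowers u ⊔ Φ 2
      rw [e]
      exact hzM
    exact h.Mj_ne_top (j := 3) (by omega) (by omega) (eq_top_of_lt_sM h hu2 hlt)
  have hs : ⁅w, z⁆ ∈ Φ 4 := cm' hw.1 (mem_one z) (by omega)
  have hs0 : cf F 4 ⁅w, z⁆ ≠ 0 := by
    intro h0
    apply hzM
    rw [h.mem_Mj_iff (by omega) (by omega) hw, D_mem_iff]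
    exact mem_of_cf_eq_zero F (by omega) (by omega) hs h0
  have hqz : cf F 4 ⁅w, q⁆ = 0 :=
    cf_eq_zero F (by omega) (by omega) (mem_Mj.1 (hQM hq) _ hw.1)
  have h1 := cf_map F (j := 4) (by omega) (by omega) le_top hf (hinv 4) (hinv 5) hs
  rw [hf.comm (mem_top w) (mem_top z), hfw, hfz,
    cc_mul_right F (N := 4) (by omega) (by omega) rfl hw.1 (mem_one q) ((Φ 1).pow_mem (mem_one z) a), hqz, zero_add,
    cc_pow_right F (N := 4) (by omega) (by omega) rfl hw.1 (mem_one z), h5'] at h1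
  have h6 : cf F 4 ⁅w, z⁆ * ((a : ZMod p) + 1) = 0 := by
    rw [mul_add, mul_comm, h1]
    ring
  have h7 := eq_neg_of_add_eq_zero_left ((mul_eq_zero.1 h6).resolve_left hs0)
  rw [h3, h7] at h4
  apply one_ne_neg_one_zmod hodd
  have e : (-(-1 : ZMod p) ^ 2) = -1 := by ring
  rw [e] at h4
  exact h4.symm

end SA

section minusI

variable (F : Fr G p n) {f : G → G} {u : G}

/-- The scalar on `Φ 2`, read from the layer of `[x₂, u]`. -/
theorem mu_minus {j₀ : ℕ} (hj : 2 ≤ j₀) (hjn : j₀ < n) (h2 : ∀ a ∈ Φ 2, ⁅a, u⁆ ∈ Φ j₀)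
    (h3 : ∀ a ∈ Φ 3, ⁅a, u⁆ ∈ Φ (j₀ + 1)) (hx : ⁅F.x 2, u⁆ ∉ Φ (j₀ + 1)) (hf : PH (Q u 2) f) (hfu : f u = u⁻¹)
    (hinv0 : ∀ x ∈ Φ j₀, f x ∈ Φ j₀) (hinv1 : ∀ x ∈ Φ (j₀ + 1), f x ∈ Φ (j₀ + 1))
    (hμ : cf F j₀ (f (F.x j₀)) = 1) {b : ℕ} {z' : G} (hb : f (F.x 2) = u ^ b * z') (hz' : z' ∈ Φ 2) :
    cf F 2 z' = -1 := by
  have hn3 : 2 < n := by have := F.mc.three; omega
  have hW2 := F.hW 2 le_rfl hn3
  have hQ : Φ j₀ ≤ Q u 2 := (Phi_anti hj).trans (phi_le_Q u 2)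
  have hv := h2 _ hW2.1
  have hv0 : cf F j₀ ⁅F.x 2, u⁆ ≠ 0 := fun h0 => hx (mem_of_cf_eq_zero F hj hjn hv h0)
  have h1 := cf_map F hj hjn hQ hf hinv0 hinv1 hv
  rw [hμ, mul_one, hf.comm (phi_le_Q u 2 hW2.1) (u_mem_Q u 2), hfu, hb] at h1
  -- expand
  have e1 : ⁅u ^ b * z', u⁻¹⁆ = u ^ b * (u⁻¹ * ⁅z', u⁆⁻¹ * u⁻¹⁻¹) * (u ^ b)⁻¹ := by
    rw [comm_mul_left]
    have e2 : ⁅u ^ b, u⁻¹⁆ = 1 :=
      commutatorElement_eq_one_iff_mul_comm.2 ((Commute.refl u).inv_right.pow_left b)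
    rw [e2, mul_one, commutatorElement_inv, commutatorElement_def, commutatorElement_def]
    group
  have hzu := h2 _ hz'
  have hinvm := (Φ j₀).inv_mem hzu
  rw [e1, cf_conj F hj hjn _ ((Phi_normal j₀).conj_mem _ hinvm _), cf_conj F hj hjn _ hinvm, cf_inv F hj hjn hzu] at h1
  -- the coordinate
  have hsp := cf_spec F le_rfl hn3 hz'
  set m := (cf F 2 z').val with hm
  set t := z' * ((F.x 2) ^ m)⁻¹ with ht
  have e3 : z' = t * (F.x 2) ^ m := by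
    rw [ht]
    group
  have hxm := h2 _ ((Φ 2).pow_mem hW2.1 m)
  have ht3 := h3 _ hsp
  have e4 : cf F j₀ ⁅z', u⁆ = (m : ZMod p) * cf F j₀ ⁅F.x 2, u⁆ := by
    rw [e3, comm_mul_left, cf_mul F hj hjn ((Phi_normal j₀).conj_mem _ hxm _) (Phi_anti (Nat.le_succ _) ht3),
      cf_conj F hj hjn _ hxm, cf_eq_zero F hj hjn ht3, add_zero, cf_K_pow F hj hjn hv]
  rw [e4, hm, ZMod.natCast_zmod_val] at h1
  have h4 : cf F j₀ ⁅F.x 2, u⁆ * (cf F 2 z' + 1) = 0 := by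
    rw [mul_add, mul_comm, ← neg_eq_iff_eq_neg.2 h1.symm]
    ring
  exact eq_neg_of_add_eq_zero_left ((mul_eq_zero.1 h4).resolve_left hv0)

/-- The element `x₂` is sent to `x₂⁻¹` modulo `Φ 3` by an automorphism of order prime to `p`. -/
theorem minus_I (hodd : p ≠ 2) (hup : u ^ p = 1) (hu2 : u ∉ Φ 2) (hf : PH (Q u 2) f)
    (hfQ : ∀ x ∈ Q u 2, f x ∈ Q u 2) (hf3 : ∀ x ∈ Φ 3, f x ∈ Φ 3) (hfu : f u = u⁻¹) {x₂ z'' : G} {b : ℕ}
    (hx₂ : x₂ ∈ Φ 2) (hz'' : z'' ∈ Φ 3) (hb : f x₂ = u ^ b * x₂⁻¹ * z'') {k : ℕ} (hk : k.Coprime p)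
    (hkf : ∀ x ∈ Q u 2, f^[k] x = x) : p ∣ b := by
  have hn3 : (Φ 3).Normal := Phi_normal 3
  have hu := u_mem_Q u 2
  have hQx := phi_le_Q u 2 hx₂
  have h3Q : Φ 3 ≤ Q u 2 := (Phi_anti (by omega)).trans (phi_le_Q u 2)
  set g : G → G := f ∘ f with hg
  have hgg : PH (Q u 2) g := by
    refine ⟨fun x hx y hy => ?_, fun x hx y hy hxy => hf.inj x hx y hy (hf.inj _ (hfQ x hx) _ (hfQ y hy) hxy)⟩
    show f (f (x * y)) = f (f x) * f (f y)
    rw [hf.mul x hx y hy, hf.mul _ (hfQ x hx) _ (hfQ y hy)]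
  have hg3 : ∀ x ∈ Φ 3, g x ∈ Φ 3 := fun x hx => hf3 _ (hf3 x hx)
  have hgQ : ∀ x ∈ Q u 2, g x ∈ Q u 2 := fun x hx => hfQ _ (hfQ x hx)
  have hfU : f u⁻¹ = u := by rw [hf.inv hu, hfu, inv_inv]
  have hgU : g u⁻¹ = u⁻¹ := by
    show f (f u⁻¹) = u⁻¹
    rw [hfU, hfu]
  -- the formula for `g x₂`
  have hgx : ∃ t ∈ Φ 3, g x₂ = x₂ * (u⁻¹) ^ (2 * b) * t := by
    refine ⟨(x₂ * (u⁻¹) ^ (2 * b))⁻¹ * g x₂, ?_, by group⟩
    rw [← QuotientGroup.eq]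
    have hcomm : ((x₂ : G) : G ⧸ Φ 3) * ((u⁻¹ : G) : G ⧸ Φ 3) = ((u⁻¹ : G) : G ⧸ Φ 3) * ((x₂ : G) : G ⧸ Φ 3) := by
      have h1 : ⁅x₂, u⁻¹⁆ ∈ Φ 3 := cm' hx₂ ((Φ 1).inv_mem (mem_one u)) (by omega)
      rw [← QuotientGroup.mk_mul, ← QuotientGroup.mk_mul, QuotientGroup.eq]
      have e : (x₂ * u⁻¹)⁻¹ * (u⁻¹ * x₂) = u * ⁅x₂⁻¹, u⁻¹⁆ * u⁻¹ := by
        rw [commutatorElement_def]
        group
      rw [e]
      exact hn3.conj_mem _ (cm' ((Φ 2).inv_mem hx₂) ((Φ 1).inv_mem (mem_one u)) (by omega)) _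
    have hc : Commute ((x₂ : G) : G ⧸ Φ 3) ((u⁻¹ : G) : G ⧸ Φ 3) := hcomm
    have e1 : g x₂ = (u⁻¹) ^ b * (z''⁻¹ * x₂ * (u⁻¹) ^ b) * f z'' := by
      show f (f x₂) = _
      rw [hb, hf.mul _ ((Q u 2).mul_mem ((Q u 2).pow_mem hu b) ((Q u 2).inv_mem hQx)) _ (h3Q hz''),
        hf.mul _ ((Q u 2).pow_mem hu b) _ ((Q u 2).inv_mem hQx), hf.pow hu, hfu, hf.inv hQx, hb]
      group
    have hz1 : ((z''⁻¹ : G) : G ⧸ Φ 3) = 1 := (QuotientGroup.eq_one_iff _).2 ((Φ 3).inv_mem hz'')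
    have hz2 : ((f z'' : G) : G ⧸ Φ 3) = 1 := (QuotientGroup.eq_one_iff _).2 (hf3 _ hz'')
    have hc2 : Commute ((x₂ : G) : G ⧸ Φ 3) (((u⁻¹ : G) : G ⧸ Φ 3) ^ b) := hc.pow_right b
    rw [e1]
    simp only [QuotientGroup.mk_mul, QuotientGroup.mk_pow, hz1, hz2, one_mul, mul_one, two_mul, pow_add]
    rw [← mul_assoc, hc2.eq, mul_assoc, hc2.eq]
  obtain ⟨t₀, ht₀, hgt⟩ := hgx
  have hiter : ∀ m : ℕ, ∃ t ∈ Φ 3, g^[m] x₂ = x₂ * (u⁻¹) ^ (2 * b * m) * t := by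
    intro m
    induction m with
    | zero => exact ⟨1, one_mem _, by simp⟩
    | succ m ih =>
      obtain ⟨t, ht, e⟩ := ih
      refine ⟨(((u⁻¹) ^ (2 * b * m))⁻¹ * t₀ * (u⁻¹) ^ (2 * b * m)) * g t, (Φ 3).mul_mem ?_ (hg3 t ht), ?_⟩
      · have := hn3.conj_mem t₀ ht₀ ((u⁻¹) ^ (2 * b * m))⁻¹
        simpa using this
      · rw [Function.iterate_succ_apply', e]
        have hUm : (u⁻¹) ^ (2 * b * m) ∈ Q u 2 := (Q u 2).pow_mem ((Q u 2).inv_mem hu) _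
        rw [hgg.mul _ ((Q u 2).mul_mem hQx hUm) _ (h3Q ht), hgg.mul _ hQx _ hUm, hgg.pow ((Q u 2).inv_mem hu), hgU, hgt,
          mul_add, mul_one, pow_add]
        group
  obtain ⟨t, ht, e⟩ := hiter k
  have hgk : g^[k] x₂ = x₂ := by
    have hcomm : Function.Commute f f := Function.Commute.refl f
    rw [hg, hcomm.comp_iterate]
    show f^[k] (f^[k] x₂) = x₂
    rw [hkf x₂ hQx, hkf x₂ hQx]
  rw [hgk] at e
  have h1 : (u⁻¹) ^ (2 * b * k) * t = 1 := by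
    have := mul_left_cancel (a := x₂) (b := (u⁻¹) ^ (2 * b * k) * t) (c := 1) (by rw [mul_one, ← mul_assoc]; exact e.symm)
    exact this
  have h2 : (u⁻¹) ^ (2 * b * k) = t⁻¹ := eq_inv_of_mul_eq_one_left h1
  have h3 : u ^ (2 * b * k) ∈ Φ 2 := by
    have h4 : (u⁻¹) ^ (2 * b * k) ∈ Φ 2 := by
      rw [h2]
      exact Phi_anti (by omega) ((Φ 3).inv_mem ht)
    rw [inv_pow] at h4
    exact (Subgroup.inv_mem_iff _).1 h4
  have h5 := dvd_of_pow_mem hup hu2 h3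
  rcases (Nat.Prime.dvd_mul hp.out).1 h5 with h6 | h6
  · rcases (Nat.Prime.dvd_mul hp.out).1 h6 with h7 | h7
    · exact absurd ((Nat.prime_dvd_prime_iff_eq hp.out Nat.prime_two).1 h7) hodd
    · exact h7
  · have := Nat.Coprime.eq_one_of_dvd hk.symm h6
    exact absurd this hp.out.ne_one

end minusI

end Cfsg.Agent.Lib.MCEss.Signs
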