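import Cfsg.Agent.Lib.MCEss.Basic

/-!
# Abelian subgroups of order `p³` in a group of maximal class with a normalizer of order `p⁴`
-/

set_option autoImplicit false
set_option linter.unusedSectionVars false

namespace Cfsg.Agent.Lib.MCEss.Struct

open Subgroup Cfsg.Agent.Lib.FG7.HallPetrescu Cfsg.Agent.Lib.PGroups.UniformShift
open Cfsg.Agent.Lib.PGroups.MaxAbelian Cfsg.Agent.Lib.FGStruct.UnifZ Cfsg.Agent.Lib.FGStruct.MCBlack
open Cfsg.Agent.Lib.MCEss.Graded Cfsg.Agent.Lib.MCEss.Numeric Cfsg.Agent.Lib.MCEss.Const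
open Cfsg.Agent.Lib.MCEss.Basic
open scoped commutatorElement

universe u

variable {G : Type u} [Group G] [Finite G] {p : ℕ} [hp : Fact p.Prime] {n : ℕ}

local notation "Φ" => lcsF G

/-- The standing hypotheses on `E`. -/
structure EE (p : ℕ) (E : Subgroup G) : Prop where
  comm : ∀ a ∈ E, ∀ b ∈ E, a * b = b * a
  exp : ∀ a ∈ E, a ^ p = 1
  card : Nat.card E = p ^ 3
  cent : ∀ g : G, (∀ a ∈ E, g * a = a * g) → g ∈ E
  norm : Nat.card (normalizer (E : Set G)) = p ^ 4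

/-- What is true for every `u ∈ E` outside `Φ 2`. -/
structure Good (n : ℕ) (E : Subgroup G) (u : G) : Prop where
  mem : u ∈ E
  not2 : u ∉ Φ 2
  norm : normalizer (E : Set G) = Q u (n - 3)
  K : ∀ j, 3 ≤ j → j ≤ n - 3 → K j u = Q u (j - 1)
  W : ∀ x ∈ E, x ∈ Φ 2 → x ∈ Φ (n - 3)
  T : ∀ g ∈ Φ (n - 4), ∀ x ∈ Φ (n - 3), ⁅g, x⁆ ∈ E

/-- First scenario: `u` in the two-step centralizer. -/
structure ScenA (n : ℕ) (E : Subgroup G) (u : G) : Prop where
  small : n = 5 ∨ n = 6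
  Gam : u ∈ Mj 2
  comm : ∀ y ∈ Φ (n - 3), ⁅y, u⁆ ∈ Φ (n - 1)
  W3 : ∀ x ∈ E, x ∈ Φ 2 → x ∈ Φ 3
  W4 : ∀ x ∈ E, x ∈ Φ 4 → x ∈ Φ (n - 1)
  K5 : n = 6 → K 5 u = Q u 3

/-- Second scenario: `u` outside the two-step centralizer. -/
structure ScenB (p n : ℕ) [Fact p.Prime] (E : Subgroup G) (u : G) : Prop where
  six : 6 ≤ n
  even : Even n
  hb : Φ (n - 2) ≤ E
  notG : u ∉ Mj 2
  K4 : K (n - 2) u = Q u (n - 3)
  frame : ∃ F : Fr G p n, ∀ i, 2 ≤ i → i + 1 ≤ n - 2 → aa F i (n - 1 - i) ≠ 0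
  comm : ∀ y ∈ Φ (n - 3), y ∉ Φ (n - 2) → ⁅y, u⁆ ∉ Φ (n - 1)

section

variable (h : MC p n G) (h5 : 5 ≤ n) {E : Subgroup G} (hE : EE p E)
include h h5 hE

omit hE h5 in
theorem comm_of_bot {g a : G} {i j : ℕ} (hg : g ∈ Φ i) (ha : a ∈ Φ j) (hn : n ≤ i + j) : g * a = a * g := by
  have h1 : ⁅g, a⁆ ∈ Φ n := cm' hg ha hn
  rw [h.bot, mem_bot] at h1
  exact commutatorElement_eq_one_iff_mul_comm.1 h1

omit h5 in
theorem Z1_le : Φ (n - 1) ≤ E := by
  have := h.three
  intro g hg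
  exact hE.cent g (fun a _ => comm_of_bot h hg (mem_one a) (by omega))

/-- `E` is not inside the derived subgroup. -/
theorem exists_u : ∃ u ∈ E, u ∉ Φ 2 := by
  by_contra hcon
  push_neg at hcon
  have hZ : Φ (n - 2) ≤ E := by
    intro g hg
    exact hE.cent g (fun a ha => comm_of_bot h hg (hcon a ha) (by omega))
  obtain ⟨x, hxE, hx⟩ : ∃ x ∈ E, x ∉ Φ (n - 2) := by
    by_contra hc
    push_neg at hc
    have h1 : Nat.card E ≤ Nat.card (Φ (n - 2)) := Subgroup.card_le_of_le hc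
    rw [hE.card, h.card_Phi (by omega) (by omega), show n - (n - 2) = 2 by omega] at h1
    exact absurd h1 (not_le.2 (Nat.pow_lt_pow_right hp.out.one_lt (by omega)))
  have hx1 : x ≠ 1 := by
    rintro rfl
    exact hx (one_mem _)
  obtain ⟨m, hm, hmW⟩ := exists_W_of_bot h.bot (hcon x hxE) hx1
  have hmn : m + 1 ≤ n - 2 := by
    by_contra hc
    exact hx (Phi_anti (by omega) hmW.1)
  have hxp := hE.exp x hxE
  have hEQ : Q x (n - 2) = E := by
    apply Subgroup.eq_of_le_of_card_ge (sup_le ((zpowers_le).2 hxE) hZ)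
    show Nat.card E ≤ Nat.card (Q x (n - 2))
    rw [card_Q' hxp hx, hE.card, h.card_Phi (by omega) (by omega), show n - (n - 2) = 2 by omega, pow_succ, mul_comm]
  have h1 : Nat.card (K (n - 2) x) ≤ p ^ 4 := by
    rw [← hE.norm]
    apply Subgroup.card_le_of_le
    have := K_le_normalizer_Q (j := n - 2) hxp
    rwa [hEQ] at this
  have h2 : K (m + 1) x = ⊤ := by
    rw [eq_top_iff]
    intro g _
    rw [mem_K]
    exact cm' (mem_one g) hmW.1 (by omega)
  have h3 := card_K_iter h x (j := m + 1) (by omega) (n - 2 - (m + 1)) (by omega)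
  rw [h2, show m + 1 + (n - 2 - (m + 1)) = n - 2 by omega, Subgroup.card_top, h.card] at h3
  have h4 : p ^ n ≤ p ^ (n - 2 - (m + 1)) * p ^ 4 := h3.trans (Nat.mul_le_mul_left _ h1)
  rw [← pow_add] at h4
  have h6 := (Nat.pow_le_pow_iff_right hp.out.one_lt).1 h4
  omega

theorem ne_top : E ≠ ⊤ := by
  intro ht
  have h1 := hE.card
  rw [ht, Subgroup.card_top, h.card] at h1
  have := Nat.pow_right_injective hp.out.two_le h1
  omega

/-- `E` lies in `⟨u⟩ Φ 2`. -/
theorem le_Q2 {u : G} (hu : u ∈ E) (hu2 : u ∉ Φ 2) : E ≤ Q u 2 := by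
  by_contra hcon
  have hlt : zpowers u ⊔ Φ 2 < Q u 2 ⊔ E := by
    refine lt_of_le_of_ne le_sup_left ?_
    intro e
    apply hcon
    show E ≤ zpowers u ⊔ Φ 2
    rw [e]
    exact le_sup_right
  have h1 := eq_top_of_lt_sM h hu2 hlt
  have h2 : E ⊔ Φ 2 = ⊤ := by
    rw [eq_top_iff, ← h1]
    refine sup_le (sup_le ?_ le_sup_right) le_sup_left
    exact le_sup_of_le_left ((zpowers_le).2 hu)
  exact ne_top h h5 hE (eq_top_of_sup h.hG h2)

/-- The order of `E ∩ Φ 2`. -/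
theorem card_inf {u : G} (hu : u ∈ E) (hu2 : u ∉ Φ 2) : Nat.card (E ⊓ Φ 2 : Subgroup G) = p ^ 2 := by
  have hn2 : (Φ 2).Normal := Phi_normal 2
  have hsup : E ⊔ Φ 2 = Q u 2 := by
    apply le_antisymm (sup_le (le_Q2 h h5 hE hu hu2) (phi_le_Q u 2))
    exact sup_le_sup_right ((zpowers_le).2 hu) _
  have h1 := relIndex_mul_card (le_sup_right : Φ 2 ≤ E ⊔ Φ 2)
  rw [Subgroup.relIndex_sup_right, hsup, card_Q (hE.exp u hu) hu2 le_rfl] at h1
  have h2 : (Φ 2).relIndex E = p := by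
    have hpos : 0 < Nat.card (Φ 2) := Nat.card_pos
    have := Nat.eq_of_mul_eq_mul_right hpos h1
    exact this
  have h3 : (E ⊓ Φ 2 : Subgroup G).relIndex E = p := by
    rw [inf_comm, Subgroup.inf_relIndex_right]
    exact h2
  have h4 := relIndex_mul_card (inf_le_left : (E ⊓ Φ 2 : Subgroup G) ≤ E)
  rw [h3, hE.card, pow_succ, mul_comm] at h4
  exact Nat.eq_of_mul_eq_mul_right hp.out.pos h4

/-- An element of `E` is a power of `u` times an element of `E ∩ Φ 2`. -/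
theorem exists_decomp {u : G} (hu : u ∈ E) (hu2 : u ∉ Φ 2) {x : G} (hx : x ∈ E) :
    ∃ k : ℕ, ∃ z ∈ E ⊓ Φ 2, x = u ^ k * z := by
  obtain ⟨k, z, hz, rfl⟩ := (mem_Q_iff (hE.exp u hu)).1 (le_Q2 h h5 hE hu hu2 hx)
  refine ⟨k, z, ⟨?_, hz⟩, rfl⟩
  have := E.mul_mem (E.inv_mem (E.pow_mem hu k)) hx
  simpa using this

/-- A lemma on `Mj`: a generator outside `Mj 2` and one inside cannot both be in `Mj (n - 2)`. -/
theorem not_mem_Mj_of {u s : G} (hu2 : u ∉ Φ 2) (hup : u ^ p = 1) (huG : u ∉ Mj 2) (huC : u ∈ Mj (n - 2)) (hs : s ∈ Mj 2)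
    (hs2 : s ∉ Φ 2) : s ∉ Mj (n - 2) := by
  intro hsC
  have hsQ : s ∉ Q u 2 := by
    intro hsQ
    obtain ⟨k, z, hz, rfl⟩ := (mem_Q_iff hup).1 hsQ
    have h1 : u ^ k ∈ Mj 2 := by
      have := (Mj (G := G) 2).mul_mem hs ((Mj (G := G) 2).inv_mem (Phi2_le_Mj 2 hz))
      simpa using this
    have h2 : ¬ p ∣ k := by
      intro hd
      rw [pow_eq_one_of_dvd hup hd, one_mul] at hs2
      exact hs2 hz
    have hc : Nat.Coprime k (orderOf u) := by
      rw [orderOf_u hup hu2]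
      exact ((Nat.Prime.coprime_iff_not_dvd hp.out).2 h2).symm
    obtain ⟨m, hm⟩ := exists_pow_eq_self_of_coprime hc
    apply huG
    rw [← hm]
    exact (Mj (G := G) 2).pow_mem h1 m
  have hlt : zpowers u ⊔ Φ 2 < Mj (G := G) (n - 2) := by
    refine lt_of_le_of_ne (sup_le ((zpowers_le).2 huC) (Phi2_le_Mj _)) ?_
    intro e
    apply hsQ
    show s ∈ zpowers u ⊔ Φ 2
    rw [e]
    exact hsC
  exact h.Mj_ne_top (j := n - 2) (by omega) (by omega) (eq_top_of_lt_sM h hu2 hlt)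

section caseb

variable (hb : lcsF G (n - 2) ≤ E) {u : G} (hu : u ∈ E) (hu2 : u ∉ lcsF G 2)
include hb hu hu2

theorem caseb_eq : Q u (n - 2) = E := by
  have hup := hE.exp u hu
  apply Subgroup.eq_of_le_of_card_ge (sup_le ((zpowers_le).2 hu) hb)
  show Nat.card E ≤ Nat.card (Q u (n - 2))
  rw [card_Q_eq h hup hu2 (by omega) (by omega), hE.card, show n - (n - 2) + 1 = 3 by omega]

theorem caseb_main : normalizer (E : Set G) = Q u (n - 3) ∧ K (n - 2) u = Q u (n - 3) := by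
  have hup := hE.exp u hu
  have hEQ := caseb_eq h h5 hE hb hu hu2
  have h1 : K (n - 2) u ≤ normalizer (E : Set G) := by
    have := K_le_normalizer_Q (j := n - 2) hup
    rwa [hEQ] at this
  have h2 : Q u (n - 3) ≤ K (n - 2) u := Q_le_K u (by omega)
  have hc : Nat.card (Q u (n - 3)) = p ^ 4 := by
    rw [card_Q_eq h hup hu2 (by omega) (by omega), show n - (n - 3) + 1 = 4 by omega]
  have h3 : Q u (n - 3) = normalizer (E : Set G) := by
    apply Subgroup.eq_of_le_of_card_ge (h2.trans h1)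
    rw [hc, hE.norm]
  refine ⟨h3.symm, ?_⟩
  apply le_antisymm _ h2
  rw [h3]
  exact h1

theorem caseb_good (hodd : p ≠ 2) : Good n E u := by
  have hup := hE.exp u hu
  obtain ⟨h1, h2⟩ := caseb_main h h5 hE hb hu hu2
  have hEQ := caseb_eq h h5 hE hb hu hu2
  refine ⟨hu, hu2, h1, ?_, ?_, ?_⟩
  · have h3 : K (n - 3 + 1) u = Q u (n - 3) := by
      rw [show n - 3 + 1 = n - 2 by omega]
      exact h2
    exact K_down h hup hu2 (M := n - 3) (by omega) h3
  · intro x hx hx2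
    rw [← hEQ] at hx
    exact Phi_anti (by omega) (mem_of_mem_Q hup hu2 (by omega) hx hx2)
  · intro g hg x hx
    exact hb (cm' hg hx (by omega))

end caseb

omit h5 hE in
/-- Helper: a subgroup strictly between two consecutive orders. -/
theorem eq_of_between {A B C : Subgroup G} (hAB : A < B) (hBC : B ≤ C) {k : ℕ} (hA : Nat.card A = p ^ k)
    (hC : Nat.card C = p ^ (k + 1)) : B = C := by
  have hd : Nat.card B ∣ p ^ (k + 1) := hC ▸ Subgroup.card_dvd_of_le hBC
  obtain ⟨m, hm, hmc⟩ := (Nat.dvd_prime_pow hp.out).1 hd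
  have hlt : k < m := by
    by_contra hcon
    have hle : Nat.card B ≤ Nat.card A := by
      rw [hmc, hA]
      exact Nat.pow_le_pow_right hp.out.pos (by omega)
    exact hAB.ne (Subgroup.eq_of_le_of_card_ge hAB.le hle)
  apply Subgroup.eq_of_le_of_card_ge hBC
  rw [hC, hmc]
  exact Nat.pow_le_pow_right hp.out.pos (by omega)

section casec

variable (hc : ¬ lcsF G (n - 2) ≤ E) {u : G} (hu : u ∈ E) (hu2 : u ∉ lcsF G 2) (hodd : p ≠ 2)

include hc in
omit hu hu2 hodd in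
theorem c_inf : ∀ x ∈ E, x ∈ Φ (n - 2) → x ∈ Φ (n - 1) := by
  intro x hxE hx
  by_contra hx1
  apply hc
  intro y hy
  have hW : W (n - 2) x := ⟨hx, by rwa [show n - 2 + 1 = n - 1 by omega]⟩
  obtain ⟨c, hc'⟩ := h.exists_pow (by omega) (by omega) hW hy
  have h1 : y * (x ^ c)⁻¹ ∈ E := Z1_le h hE (by rwa [show n - 1 = n - 2 + 1 by omega])
  have := E.mul_mem h1 (E.pow_mem hxE c)
  simpa using this

include hc hu hu2 in
omit hodd in
theorem c_not_C : u ∉ Mj (n - 2) := by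
  intro huM
  obtain ⟨y, hy, hyE⟩ := Set.not_subset.1 hc
  apply hyE
  apply hE.cent
  intro a ha
  obtain ⟨k, z, hz, rfl⟩ := exists_decomp h h5 hE hu hu2 ha
  have h1 : y * u = u * y := by
    have := mem_Mj.1 huM y hy
    rw [show n - 2 + 2 = n by omega, h.bot, mem_bot] at this
    exact commutatorElement_eq_one_iff_mul_comm.1 this
  have h2 : y * z = z * y := comm_of_bot h hy hz.2 (by omega)
  have h3 : Commute y u := h1
  have h4 : Commute y z := h2
  exact (h3.pow_right k).mul_right h4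

include hu hu2 in
omit hc hodd in
theorem c_exists_w : ∃ w ∈ E, w ∈ Φ 2 ∧ w ∉ Φ (n - 1) := by
  by_contra hcon
  push_neg at hcon
  have h1 : Nat.card (E ⊓ Φ 2 : Subgroup G) ≤ Nat.card (Φ (n - 1)) :=
    Subgroup.card_le_of_le (fun x hx => hcon x hx.1 hx.2)
  rw [card_inf h h5 hE hu hu2, h.card_Phi (by omega) (by omega), show n - (n - 1) = 1 by omega] at h1
  exact absurd h1 (not_le.2 (Nat.pow_lt_pow_right hp.out.one_lt (by omega)))

include hc hu hu2 hodd in
theorem c_Mj2 : u ∈ Mj 2 := by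
  obtain ⟨w, hwE, hw2, hw1⟩ := c_exists_w h h5 hE hu hu2
  have hw1' : w ≠ 1 := by
    rintro rfl
    exact hw1 (one_mem _)
  obtain ⟨m, hm, hmW⟩ := exists_W_of_bot h.bot hw2 hw1'
  have hmn : m + 3 ≤ n := by
    by_contra hcm
    exact hw1 (c_inf h h5 hE hc w hwE (Phi_anti (by omega) hmW.1))
  refine mem_Mj2_of h h5 hodd hm hmn ?_
  rw [h.mem_Mj_iff hm (by omega) hmW, D_mem_iff]
  have : ⁅w, u⁆ = 1 := by
    rw [commutatorElement_eq_one_iff_mul_comm]
    exact hE.comm w hwE u hu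
  rw [this]
  exact one_mem _

include hc hu hu2 hodd in
theorem c_even : Even n ∧ 6 ≤ n := by
  obtain ⟨F, he, -⟩ := exceptional h h5 hodd (c_Mj2 h h5 hE hc hu hu2 hodd) (c_not_C h h5 hE hc hu hu2)
  have h1 : Even n := by
    have : n = (n - 2) + 2 := by omega
    rw [this]
    exact he.add (by decide)
  refine ⟨h1, ?_⟩
  by_contra hcon
  obtain rfl : n = 5 := by omega
  exact absurd h1 (by decide)

include hc in
omit hu hu2 hodd in
theorem c_norm : normalizer (E : Set G) = E ⊔ Φ (n - 2) := by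
  symm
  have hle : E ⊔ Φ (n - 2) ≤ normalizer (E : Set G) := by
    refine sup_le Subgroup.le_normalizer ?_
    intro y hy
    apply Basic.mem_normalizer_of_conj_le
    intro x hx
    have h1 : ⁅y, x⁆ ∈ Φ (n - 1) := cm' hy (mem_one x) (by omega)
    have h2 : y * x * y⁻¹ = ⁅y, x⁆ * x := by
      rw [commutatorElement_def]
      group
    rw [h2]
    exact E.mul_mem (Z1_le h hE h1) hx
  have hlt : E < E ⊔ Φ (n - 2) := by
    refine lt_of_le_of_ne le_sup_left ?_
    intro e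
    apply hc
    rw [e]
    exact le_sup_right
  exact eq_of_between h hlt hle hE.card hE.norm

include hc hu hu2 in
omit hodd in
theorem c_cent : K n u ≤ E := by
  by_contra hcon
  have hEK : E ≤ K n u := by
    intro x hx
    rw [mem_K, h.bot, mem_bot, commutatorElement_eq_one_iff_mul_comm]
    exact hE.comm x hx u hu
  have hne : E.subgroupOf (K n u) ≠ ⊤ := by
    intro he
    rw [Subgroup.subgroupOf_eq_top] at he
    exact hcon he
  have hA : IsPGroup p (K n u) := h.hG.to_subgroup _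
  obtain ⟨g, hgN, hgE⟩ := Cfsg.Agent.Lib.Fusion.Saturation2.exists_mem_normalizer_not_mem hA _ hne
  have hg1 : (g : G) ∈ normalizer (E : Set G) := by
    apply Basic.mem_normalizer_of_conj_le
    intro x hx
    have h1 := (Subgroup.mem_normalizer_iff.1 hgN ⟨x, hEK hx⟩).1 hx
    exact h1
  rw [c_norm h h5 hE hc] at hg1
  have hn2 : (Φ (n - 2)).Normal := Phi_normal _
  obtain ⟨e, he, z, hz, hgez⟩ := Subgroup.mem_sup_of_normal_right.1 hg1
  have hzE : z ∉ E := by
    intro hzE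
    apply hgE
    show (g : G) ∈ E
    rw [← hgez]
    exact E.mul_mem he hzE
  have hz1 : z ∉ Φ (n - 1) := fun h1 => hzE (Z1_le h hE h1)
  have hg2 : (g : G) * u = u * g := by
    have := mem_K.1 g.2
    rwa [h.bot, mem_bot, commutatorElement_eq_one_iff_mul_comm] at this
  have hzu : z * u = u * z := by
    rw [← hgez] at hg2
    have h3 : e * u = u * e := hE.comm e he u hu
    have h4 : e * (z * u) = e * (u * z) := by
      calc e * (z * u) = e * z * u := by group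
        _ = u * (e * z) := hg2
        _ = (u * e) * z := by group
        _ = (e * u) * z := by rw [h3]
        _ = e * (u * z) := by group
    exact mul_left_cancel h4
  have hW : W (n - 2) z := ⟨hz, by rwa [show n - 2 + 1 = n - 1 by omega]⟩
  apply c_not_C h h5 hE hc hu hu2
  rw [h.mem_Mj_iff (by omega) (by omega) hW, D_mem_iff]
  have : ⁅z, u⁆ = 1 := commutatorElement_eq_one_iff_mul_comm.2 hzu
  rw [this]
  exact one_mem _

include hc hu hu2 in
omit hodd in
theorem c_K1 : K (n - 1) u = normalizer (E : Set G) := by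
  have h1 : Nat.card (K (n - 1) u) ≤ p ^ 4 := by
    have h2 := card_K_step h u (j := n - 1) (by omega) (by omega)
    rw [show n - 1 + 1 = n by omega] at h2
    have h3 : Nat.card (K n u) ≤ p ^ 3 := hE.card ▸ Subgroup.card_le_of_le (c_cent h h5 hE hc hu hu2)
    calc _ ≤ _ := h2
      _ ≤ p * p ^ 3 := Nat.mul_le_mul_left _ h3
      _ = p ^ 4 := by ring
  symm
  apply Subgroup.eq_of_le_of_card_ge _ (by rwa [hE.norm])
  rw [c_norm h h5 hE hc]
  refine sup_le ?_ ?_
  · intro x hx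
    rw [mem_K]
    have : ⁅x, u⁆ = 1 := commutatorElement_eq_one_iff_mul_comm.2 (hE.comm x hx u hu)
    rw [this]
    exact one_mem _
  · intro y hy
    rw [mem_K]
    exact cm' hy (mem_one u) (by omega)

include hc hu hu2 hodd in
theorem c_K2 : K (n - 1) u = Q u (n - 3) := by
  have hup := hE.exp u hu
  have hM := c_Mj2 h h5 hE hc hu hu2 hodd
  rw [c_K1 h h5 hE hc hu hu2]
  symm
  apply Subgroup.eq_of_le_of_card_ge
  · rw [← c_K1 h h5 hE hc hu hu2]
    refine sup_le ?_ ?_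
    · rw [zpowers_le, mem_K, commutatorElement_self]
      exact one_mem _
    · intro y hy
      rw [mem_K]
      have := mem_Mj.1 (Mj_const h h5 hodd hM (j := n - 3) (by omega) (by omega)) y hy
      rwa [show n - 3 + 2 = n - 1 by omega] at this
  · rw [hE.norm, card_Q_eq h hup hu2 (by omega) (by omega), show n - (n - 3) + 1 = 4 by omega]

omit hE in
/-- A step down the `K` filtration in the `Mj`-constant range. -/
theorem K_of_Mj {u : G} (hup : u ^ p = 1) (hu2 : u ∉ Φ 2) (hM : u ∈ Mj 2) (hodd : p ≠ 2) {j : ℕ} (hj : 2 ≤ j)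
    (hjn : j + 3 ≤ n) (hK : K (j + 3) u = Q u (j + 1)) : K (j + 2) u = Q u j := by
  symm
  apply Subgroup.eq_of_le_of_card_ge
  · refine sup_le ?_ ?_
    · rw [zpowers_le, mem_K, commutatorElement_self]
      exact one_mem _
    · intro y hy
      rw [mem_K]
      exact mem_Mj.1 (Mj_const h h5 hodd hM hj hjn) y hy
  · have h1 := card_K_step h u (j := j + 2) (by omega) (by omega)
    rw [show j + 2 + 1 = j + 3 by omega, hK, card_Q_eq h hup hu2 (by omega) (by omega)] at h1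
    rw [card_Q_eq h hup hu2 (by omega) (by omega)]
    calc _ ≤ _ := h1
      _ = p ^ (n - j + 1) := by
        rw [← pow_succ']
        congr 1
        omega

include hu hu2 hc hodd in
theorem c_W (x : G) (hx : x ∈ E) (hx2 : x ∈ Φ 2) : x ∈ Φ (n - 3) := by
  have hup := hE.exp u hu
  have h1 : x ∈ Q u (n - 3) := by
    rw [← c_K2 h h5 hE hc hu hu2 hodd, c_K1 h h5 hE hc hu hu2]
    exact Subgroup.le_normalizer hx
  exact mem_of_mem_Q hup hu2 (by omega) h1 hx2

omit h h5 hE in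
/-- The coefficient of a power of a commutator. -/
theorem cf_K_pow (F : Fr G p n) {u v : G} {j : ℕ} (hj : 2 ≤ j) (hjn : j < n) (hv : ⁅v, u⁆ ∈ Φ j) (f : ℕ) :
    cf F j ⁅v ^ f, u⁆ = f * cf F j ⁅v, u⁆ := by
  have h1 := map_pow (kHom F u hj hjn) (⟨v, mem_K.2 hv⟩ : K j u) f
  have h2 : cf F j ⁅v ^ f, u⁆ = f • cf F j ⁅v, u⁆ := by
    apply Multiplicative.ofAdd.injective
    rw [ofAdd_nsmul]
    exact h1
  rw [h2, nsmul_eq_mul]

include hu hu2 hc hodd in
theorem c_not_large (h8 : 8 ≤ n) : False := by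
  have hup := hE.exp u hu
  have hM := c_Mj2 h h5 hE hc hu hu2 hodd
  have hK1 := c_K2 h h5 hE hc hu hu2 hodd
  have hK2 : K (n - 2) u = Q u (n - 4) := by
    have := K_of_Mj h h5 hup hu2 hM hodd (j := n - 4) (by omega) (by omega)
      (by rw [show n - 4 + 3 = n - 1 by omega, show n - 4 + 1 = n - 3 by omega]; exact hK1)
    rwa [show n - 4 + 2 = n - 2 by omega] at this
  have hK3 : K (n - 3) u = Q u (n - 5) := by
    have := K_of_Mj h h5 hup hu2 hM hodd (j := n - 5) (by omega) (by omega)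
      (by rw [show n - 5 + 3 = n - 2 by omega, show n - 5 + 1 = n - 4 by omega]; exact hK2)
    rwa [show n - 5 + 2 = n - 3 by omega] at this
  obtain ⟨F, -⟩ := exists_fr h
  obtain ⟨x, hx⟩ := h.exists_W (j := n - 5) (by omega) (by omega)
  obtain ⟨x', hx'⟩ := h.exists_W (j := n - 4) (by omega) (by omega)
  have hx41 : x ∉ Φ (n - 4) := by rw [show n - 4 = n - 5 + 1 by omega]; exact hx.2
  have hx'3 : x' ∉ Φ (n - 3) := by rw [show n - 3 = n - 4 + 1 by omega]; exact hx'.2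
  obtain ⟨w, hwE, hw2, hw1⟩ := c_exists_w h h5 hE hu hu2
  have hw3 : w ∈ Φ (n - 3) := c_W h h5 hE hc hu hu2 hodd w hwE hw2
  have hwW : W (n - 3) w := by
    refine ⟨hw3, ?_⟩
    rw [show n - 3 + 1 = n - 2 by omega]
    exact fun h1 => hw1 (c_inf h h5 hE hc w hwE h1)
  have ha3 : ⁅x, u⁆ ∈ Φ (n - 3) := mem_K.1 (hK3 ▸ phi_le_Q u _ hx.1)
  have hb2 : ⁅x', u⁆ ∈ Φ (n - 2) := mem_K.1 (hK2 ▸ phi_le_Q u _ hx'.1)
  have hb1 : ⁅x', u⁆ ∉ Φ (n - 1) := by
    intro h1
    have h3 : x' ∈ Q u (n - 3) := hK1 ▸ mem_K.2 h1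
    exact hx'3 (mem_of_mem_Q hup hu2 (by omega) h3 (Phi_anti (by omega) hx'.1))
  obtain ⟨e, he⟩ := h.exists_pow (j := n - 3) (by omega) (by omega) hwW ha3
  rw [show n - 3 + 1 = n - 2 by omega] at he
  set r := ⁅x, u⁆ * (w ^ e)⁻¹ with hr
  have hbc : cf F (n - 2) ⁅x', u⁆ ≠ 0 := by
    intro h0
    apply hb1
    have := mem_of_cf_eq_zero F (j := n - 2) (by omega) (by omega) hb2 h0
    rwa [show n - 2 + 1 = n - 1 by omega] at this
  have hpf : ∃ f : ℕ, (f : ZMod p) * cf F (n - 2) ⁅x', u⁆ + cf F (n - 2) r = 0 := by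
    refine ⟨((- cf F (n - 2) r) * (cf F (n - 2) ⁅x', u⁆)⁻¹).val, ?_⟩
    rw [ZMod.natCast_zmod_val, mul_assoc, inv_mul_cancel₀ hbc]
    ring
  obtain ⟨f, hf⟩ := hpf
  set g' := x * x' ^ f with hg'
  have hx'f : x' ^ f ∈ Φ (n - 4) := (Φ (n - 4)).pow_mem hx'.1 f
  have hd2 : ⁅x' ^ f, u⁆ ∈ Φ (n - 2) := mem_K.1 (hK2 ▸ phi_le_Q u _ hx'f)
  have hcomm : ⁅g', u⁆ = (x * ⁅x' ^ f, u⁆ * x⁻¹) * ⁅x, u⁆ := comm_mul_left _ _ _
  have hz : (x * ⁅x' ^ f, u⁆ * x⁻¹) * r ∈ Φ (n - 1) := by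
    have hconj : x * ⁅x' ^ f, u⁆ * x⁻¹ ∈ Φ (n - 2) := (Phi_normal _).conj_mem _ hd2 _
    have := mem_of_cf_eq_zero F (j := n - 2) (by omega) (by omega) ((Φ (n - 2)).mul_mem hconj he) (by
      rw [cf_mul F (by omega) (by omega) hconj he, cf_conj F (by omega) (by omega) _ hd2,
        cf_K_pow F (by omega) (by omega) hb2, hf])
    rwa [show n - 2 + 1 = n - 1 by omega] at this
  have hgE : ⁅g', u⁆ ∈ E := by
    have e1 : ⁅g', u⁆ = ((x * ⁅x' ^ f, u⁆ * x⁻¹) * r) * w ^ e := by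
      rw [hcomm, hr]
      group
    rw [e1]
    exact E.mul_mem (Z1_le h hE hz) (E.pow_mem hwE e)
  have hg'5 : g' ∈ Φ (n - 5) := (Φ (n - 5)).mul_mem hx.1 (Phi_anti (by omega) hx'f)
  have hg'N : g' ∈ normalizer (E : Set G) := by
    apply Basic.mem_normalizer_of_conj_le
    intro y hy
    obtain ⟨k, z, hz, rfl⟩ := exists_decomp h h5 hE hu hu2 hy
    have hz3 : z ∈ Φ (n - 3) := c_W h h5 hE hc hu hu2 hodd z hz.1 hz.2
    have hgz : g' * z = z * g' := comm_of_bot h hg'5 hz3 (by omega)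
    have e1 : g' * (u ^ k * z) * g'⁻¹ = (⁅g', u⁆ * u) ^ k * z := by
      have e2 : ⁅g', u⁆ * u = g' * u * g'⁻¹ := by
        rw [commutatorElement_def]
        group
      rw [e2, conj_pow]
      have e3 : g' * z * g'⁻¹ = z := by rw [hgz, mul_inv_cancel_right]
      calc g' * (u ^ k * z) * g'⁻¹ = (g' * u ^ k * g'⁻¹) * (g' * z * g'⁻¹) := by group
        _ = _ := by rw [e3]
    rw [e1]
    exact E.mul_mem (E.pow_mem (E.mul_mem hgE hu) k) hz.1
  have hg'Q : g' ∈ Q u (n - 3) := by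
    rw [← hK1, c_K1 h h5 hE hc hu hu2]
    exact hg'N
  have hg'3 : g' ∈ Φ (n - 3) := mem_of_mem_Q hup hu2 (by omega) hg'Q (Phi_anti (by omega) hg'5)
  apply hx41
  have e1 : x = g' * (x' ^ f)⁻¹ := by
    rw [hg']
    group
  rw [e1]
  exact (Φ (n - 4)).mul_mem (Phi_anti (by omega) hg'3) ((Φ (n - 4)).inv_mem hx'f)

include hu hu2 hc hodd in
/-- The main result in the second case. -/
theorem casec_main : n = 6 ∧ Good n E u ∧ ScenA n E u := by
  have hup := hE.exp u hu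
  have hM := c_Mj2 h h5 hE hc hu hu2 hodd
  obtain ⟨hev, h6⟩ := c_even h h5 hE hc hu hu2 hodd
  have hn : n = 6 := by
    by_contra hcon
    have h8 : 8 ≤ n := by
      by_contra hc8
      obtain rfl : n = 7 := by omega
      exact absurd hev (by decide)
    exact c_not_large h h5 hE hc hu hu2 hodd h8
  have hK1 := c_K2 h h5 hE hc hu hu2 hodd
  have hN : normalizer (E : Set G) = Q u (n - 3) := by
    rw [← hK1, c_K1 h h5 hE hc hu hu2]
  have hW := c_W h h5 hE hc hu hu2 hodd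
  have hinf := c_inf h h5 hE hc
  subst hn
  refine ⟨rfl, ⟨hu, hu2, hN, ?_, hW, ?_⟩, ⟨Or.inr rfl, hM, ?_, hW, ?_, fun _ => hK1⟩⟩
  · intro j hj hj3
    obtain rfl : j = 3 := by omega
    exact K_three h (by omega) hu2
  · intro g hg x hx
    exact Z1_le h hE (cm' hg hx (by omega))
  · intro y hy
    exact mem_Mj.1 (Mj_const h h5 hodd hM (j := 3) (by omega) (by omega)) y hy
  · intro x hx hx4
    exact hinf x hx hx4

end casec

section scen

variable (hodd : p ≠ 2)

include hodd in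
theorem caseb_scen (hb : Φ (n - 2) ≤ E) {u : G} (hu : u ∈ E) (hu2 : u ∉ Φ 2) : ScenA n E u ∨ ScenB p n E u := by
  have hup := hE.exp u hu
  have hgood := caseb_good h h5 hE hb hu hu2 hodd
  obtain ⟨hN, hK⟩ := caseb_main h h5 hE hb hu hu2
  have hMC : u ∈ Mj (n - 2) := by
    rw [mem_Mj]
    intro y hy
    have : ⁅y, u⁆ = 1 := commutatorElement_eq_one_iff_mul_comm.2 (hE.comm y (hb hy) u hu)
    rw [this]
    exact one_mem _
  obtain ⟨s, hs, hs2⟩ := exists_Mj2 h h5
  by_cases hn5 : n = 5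
  · subst hn5
    left
    have hG : u ∈ Mj 2 := by
      by_contra huG
      have hsC := not_mem_Mj_of h h5 hE hu2 hup huG hMC hs hs2
      obtain ⟨F, he, -⟩ := exceptional h h5 hodd hs hsC
      exact absurd he (by decide)
    refine ⟨Or.inl rfl, hG, ?_, ?_, ?_, fun hc => absurd hc (by decide)⟩
    · intro y hy
      exact mem_Mj.1 hG y hy
    · intro x hx hx2
      have h1 := caseb_eq h h5 hE hb hu hu2
      rw [← h1] at hx
      exact mem_of_mem_Q hup hu2 (by omega) hx hx2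
    · intro x _ hx
      exact hx
  · right
    have h6 : 6 ≤ n := by omega
    have hK4 : K 4 u = Q u 3 := by
      by_cases hn6 : n = 6
      · subst hn6
        exact hK
      · exact hgood.K 4 (by omega) (by omega)
    have hnotG : u ∉ Mj 2 := by
      intro hG
      obtain ⟨x, hx⟩ := h.exists_W (j := 2) (by omega) (by omega)
      have h1 : x ∈ K 4 u := mem_K.2 (mem_Mj.1 hG x hx.1)
      rw [hK4] at h1
      exact hx.2 (mem_of_mem_Q hup hu2 (by omega) h1 hx.1)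
    have hsC := not_mem_Mj_of h h5 hE hu2 hup hnotG hMC hs hs2
    obtain ⟨F, he, hF⟩ := exceptional h h5 hodd hs hsC
    have hev : Even n := by
      have : n = (n - 2) + 2 := by omega
      rw [this]
      exact he.add (by decide)
    refine ⟨h6, hev, hb, hnotG, hK, ⟨F, hF⟩, ?_⟩
    intro y hy hy2 hy1
    have hW : W (n - 3) y := ⟨hy, by rwa [show n - 3 + 1 = n - 2 by omega]⟩
    apply hnotG
    refine mem_Mj2_of h h5 hodd (m := n - 3) (by omega) (by omega) ?_
    rw [h.mem_Mj_iff (by omega) (by omega) hW, D_mem_iff, show n - 3 + 2 = n - 1 by omega]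
    exact hy1

include hodd in
/-- **The structure theorem.** -/
theorem main_struct {u : G} (hu : u ∈ E) (hu2 : u ∉ Φ 2) : Good n E u ∧ (ScenA n E u ∨ ScenB p n E u) := by
  by_cases hb : Φ (n - 2) ≤ E
  · exact ⟨caseb_good h h5 hE hb hu hu2 hodd, caseb_scen h h5 hE hodd hb hu hu2⟩
  · obtain ⟨-, h1, h2⟩ := casec_main h h5 hE hb hu hu2 hodd
    exact ⟨h1, Or.inl h2⟩

end scen

end

end Cfsg.Agent.Lib.MCEss.Struct
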