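import Cfsg.Agent.Lib.MCEss.Struct

/-!
# `⟨u⟩ Φ (n - 3)`: covering by conjugates of `E`; partial homomorphisms
-/

set_option autoImplicit false
set_option linter.unusedSectionVars false

namespace Cfsg.Agent.Lib.MCEss.Struct2

open Subgroup Cfsg.Agent.Lib.FG7.HallPetrescu Cfsg.Agent.Lib.PGroups.UniformShift
open Cfsg.Agent.Lib.PGroups.MaxAbelian Cfsg.Agent.Lib.FGStruct.UnifZ Cfsg.Agent.Lib.FGStruct.MCBlack
open Cfsg.Agent.Lib.MCEss.Graded Cfsg.Agent.Lib.MCEss.Numeric Cfsg.Agent.Lib.MCEss.Const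
open Cfsg.Agent.Lib.MCEss.Basic Cfsg.Agent.Lib.MCEss.Struct
open scoped commutatorElement

universe u

variable {G : Type u} [Group G] [Finite G] {p : ℕ} [hp : Fact p.Prime] {n : ℕ}

local notation "Φ" => lcsF G

/-- A partial homomorphism. -/
structure PH (A : Subgroup G) (f : G → G) : Prop where
  mul : ∀ x ∈ A, ∀ y ∈ A, f (x * y) = f x * f y
  inj : ∀ x ∈ A, ∀ y ∈ A, f x = f y → x = y

namespace PH

variable {A : Subgroup G} {f : G → G}

theorem one (h : PH A f) : f 1 = 1 := by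
  have := h.mul 1 (one_mem _) 1 (one_mem _)
  simpa using this

theorem inv (h : PH A f) {x : G} (hx : x ∈ A) : f x⁻¹ = (f x)⁻¹ := by
  have := h.mul x hx x⁻¹ (A.inv_mem hx)
  rw [mul_inv_cancel, h.one] at this
  exact eq_inv_of_mul_eq_one_right this.symm

theorem pow (h : PH A f) {x : G} (hx : x ∈ A) (k : ℕ) : f (x ^ k) = (f x) ^ k := by
  induction k with
  | zero => simpa using h.one
  | succ k ih => rw [pow_succ, h.mul _ (A.pow_mem hx k) _ hx, ih, pow_succ]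

theorem comm (h : PH A f) {x y : G} (hx : x ∈ A) (hy : y ∈ A) : f ⁅x, y⁆ = ⁅f x, f y⁆ := by
  rw [commutatorElement_def, commutatorElement_def, h.mul _ (A.mul_mem (A.mul_mem hx hy) (A.inv_mem hx)) _ (A.inv_mem hy),
    h.mul _ (A.mul_mem hx hy) _ (A.inv_mem hx), h.mul _ hx _ hy, h.inv hx, h.inv hy]

theorem conj (h : PH A f) {x y : G} (hx : x ∈ A) (hy : y ∈ A) : f (x * y * x⁻¹) = f x * f y * (f x)⁻¹ := by
  rw [h.mul _ (A.mul_mem hx hy) _ (A.inv_mem hx), h.mul _ hx _ hy, h.inv hx]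

theorem mono {B : Subgroup G} (h : PH A f) (hB : B ≤ A) : PH B f :=
  ⟨fun x hx y hy => h.mul x (hB hx) y (hB hy), fun x hx y hy => h.inj x (hB hx) y (hB hy)⟩

/-- An injective endomorphism of a finite subgroup is onto. -/
theorem surj (h : PH A f) (hA : ∀ x ∈ A, f x ∈ A) {y : G} (hy : y ∈ A) : ∃ x ∈ A, f x = y := by
  let g : A → A := fun x => ⟨f x, hA x x.2⟩
  have hg : Function.Injective g := by
    intro a b hab
    exact Subtype.ext (h.inj a a.2 b b.2 (congrArg Subtype.val hab))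
  obtain ⟨x, hx⟩ := (Finite.injective_iff_surjective.1 hg) ⟨y, hy⟩
  exact ⟨x, x.2, congrArg Subtype.val hx⟩

/-- Invariance of a subgroup gives surjectivity onto it. -/
theorem surj_of_le {B : Subgroup G} (h : PH A f) (hB : B ≤ A) (hf : ∀ x ∈ B, f x ∈ B) {y : G} (hy : y ∈ B) :
    ∃ x ∈ B, f x = y :=
  (h.mono hB).surj hf hy

end PH

section

variable (h : MC p n G) (h5 : 5 ≤ n) {E : Subgroup G} (hE : EE p E) {u : G} (hG : Good n E u)
include h h5 hE hG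

omit hE hG in
theorem A_abelian : ∀ x ∈ Φ (n - 3), ∀ y ∈ Φ (n - 3), x * y = y * x := by
  by_cases h6 : 6 ≤ n
  · intro x hx y hy
    exact comm_of_bot h hx hy (by omega)
  · obtain rfl : n = 5 := by omega
    intro x hx y hy
    obtain ⟨x₂, hx₂⟩ := h.exists_W (j := 2) (by omega) (by omega)
    obtain ⟨c, hc⟩ := h.exists_pow (by omega) (by omega) hx₂ hx
    obtain ⟨d, hd⟩ := h.exists_pow (by omega) (by omega) hx₂ hy
    have e1 : x = (x * (x₂ ^ c)⁻¹) * x₂ ^ c := by group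
    have e2 : y = (y * (x₂ ^ d)⁻¹) * x₂ ^ d := by group
    set a := x * (x₂ ^ c)⁻¹
    set b := y * (x₂ ^ d)⁻¹
    have h1 : Commute a (x₂ ^ d) := comm_of_bot h hc ((Φ 2).pow_mem hx₂.1 d) (by omega)
    have h2 : Commute b (x₂ ^ c) := comm_of_bot h hd ((Φ 2).pow_mem hx₂.1 c) (by omega)
    have h3 : Commute a b := comm_of_bot h hc hd (by omega)
    have h4 : Commute (x₂ ^ c) (x₂ ^ d) := Commute.pow_pow_self _ _ _
    have h5 : Commute (a * x₂ ^ c) (b * x₂ ^ d) :=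
      ((h3.mul_left h2.symm).mul_right (h1.mul_left h4))
    rw [e1, e2]
    exact h5

omit h h5 hE in
theorem W_le : E ⊓ Φ 2 ≤ Φ (n - 3) := fun _ hx => hG.W _ hx.1 hx.2

theorem W_central {a g : G} (ha : a ∈ E ⊓ Φ 2) (hg : g ∈ Q u (n - 3)) : g * a = a * g := by
  obtain ⟨k, z, hz, rfl⟩ := (mem_Q_iff (hE.exp u hG.mem)).1 hg
  have h0 : Commute u a := hE.comm u hG.mem a ha.1
  have h1 : Commute (u ^ k) a := h0.pow_left k
  have h2 : Commute z a := A_abelian h h5 z hz a (W_le hG ha)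
  exact h1.mul_left h2

/-- `[y, u]` lies in `E ∩ Φ 2` for `y ∈ Φ (n - 3)`. -/
theorem comm_mem_W {y : G} (hy : y ∈ Φ (n - 3)) : ⁅y, u⁆ ∈ E ⊓ Φ 2 := by
  refine ⟨?_, cm' (Phi_anti (by omega : 1 ≤ n - 3) hy) (mem_one u) (by omega)⟩
  have h1 : y ∈ normalizer (E : Set G) := by
    rw [hG.norm]
    exact phi_le_Q u _ hy
  have h2 : y * u * y⁻¹ ∈ E := (mem_normalizer_iff.1 h1 u).1 hG.mem
  have e : ⁅y, u⁆ = (y * u * y⁻¹) * u⁻¹ := rfl
  rw [e]
  exact E.mul_mem h2 (E.inv_mem hG.mem)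

theorem card_A : Nat.card (Φ (n - 3)) = p * Nat.card (E ⊓ Φ 2 : Subgroup G) := by
  rw [h.card_Phi (by omega) (by omega), card_inf h h5 hE hG.mem hG.not2, show n - (n - 3) = 3 by omega]
  ring

/-- Conjugation formula on `E`. -/
theorem conj_mem_of {g x : G} (hg1 : ⁅g, u⁆ ∈ E) (hg2 : ∀ z ∈ E ⊓ Φ 2, ⁅g, z⁆ ∈ E) (hx : x ∈ E) : g * x * g⁻¹ ∈ E := by
  obtain ⟨k, z, hz, rfl⟩ := exists_decomp h h5 hE hG.mem hG.not2 hx
  have e1 : g * (u ^ k * z) * g⁻¹ = (⁅g, u⁆ * u) ^ k * (⁅g, z⁆ * z) := by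
    have e2 : ⁅g, u⁆ * u = g * u * g⁻¹ := by
      rw [commutatorElement_def]
      group
    have e3 : ⁅g, z⁆ * z = g * z * g⁻¹ := by
      rw [commutatorElement_def]
      group
    rw [e2, e3, conj_pow]
    group
  rw [e1]
  exact E.mul_mem (E.pow_mem (E.mul_mem hg1 hG.mem) k) (E.mul_mem (hg2 z hz) hz.1)

/-- The conjugating element. -/
theorem exists_g0 : ∃ g₀ ∈ Φ (n - 4), ⁅g₀, u⁆ ∈ Φ (n - 3) ∧ ⁅g₀, u⁆ ∉ E := by
  have hup := hE.exp u hG.mem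
  have key : ∀ g₀ ∈ Φ (n - 4), g₀ ∉ Q u (n - 3) → ⁅g₀, u⁆ ∉ E := by
    intro g₀ hg hgQ ha
    apply hgQ
    rw [← hG.norm]
    apply Basic.mem_normalizer_of_conj_le
    intro x hx
    exact conj_mem_of h h5 hE hG ha (fun z hz => hG.T g₀ hg z (W_le hG hz)) hx
  by_cases h6 : 6 ≤ n
  · obtain ⟨x', hx'⟩ := h.exists_W (j := n - 4) (by omega) (by omega)
    have hxQ : x' ∉ Q u (n - 3) := by
      intro hxQ
      have := mem_of_mem_Q hup hG.not2 (by omega) hxQ (Phi_anti (by omega) hx'.1)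
      exact hx'.2 (by rwa [show n - 4 + 1 = n - 3 by omega])
    refine ⟨x', hx'.1, ?_, key x' hx'.1 hxQ⟩
    have h1 : x' ∈ K (n - 3) u := by
      rw [hG.K (n - 3) (by omega) le_rfl, show n - 3 - 1 = n - 4 by omega]
      exact phi_le_Q u _ hx'.1
    exact mem_K.1 h1
  · obtain rfl : n = 5 := by omega
    have hne : Q u (5 - 3) ≠ ⊤ := by
      intro ht
      have := card_Q_eq h hup hG.not2 (j := 5 - 3) (by omega) (by omega)
      rw [ht, Subgroup.card_top, h.card] at this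
      have := Nat.pow_right_injective hp.out.two_le this
      omega
    obtain ⟨g, hg⟩ : ∃ g, g ∉ Q u (5 - 3) := by
      by_contra hc
      push_neg at hc
      exact hne (eq_top_iff.2 fun x _ => hc x)
    have hg1 : g ∈ Φ (5 - 4) := mem_one g
    exact ⟨g, hg1, cm' hg1 (mem_one u) (by omega), key g hg1 hg⟩

omit h5 hE hG in
/-- Powers modulo a subgroup of index `p` inside an abelian subgroup. -/
theorem exists_pow_of_abelian {A B : Subgroup G} (hBA : B ≤ A) (hcomm : ∀ x ∈ A, ∀ y ∈ A, x * y = y * x) {a : G}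
    (ha : a ∈ A) (ha' : a ∉ B) (hcard : Nat.card A = p * Nat.card B) {z : G} (hz : z ∈ A) :
    ∃ k : ℕ, z * (a ^ k)⁻¹ ∈ B := by
  let N : Subgroup A := B.subgroupOf A
  have hN : N.Normal := by
    constructor
    intro x hx g
    have e : g * x * g⁻¹ = x := by
      apply Subtype.ext
      show (g : G) * x * (g : G)⁻¹ = x
      rw [hcomm g g.2 x x.2, mul_inv_cancel_right]
    rw [e]
    exact hx
  have hidx : N.index = p := by
    have h1 := relIndex_mul_card hBA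
    rw [hcard] at h1
    exact Nat.eq_of_mul_eq_mul_right Nat.card_pos h1
  have h2 := Cfsg.Agent.Lib.Fusion.SmallEssential.exists_pow_of_relIndex (p := p) hN (C := ⊤) (u := (⟨a, ha⟩ : A)) (mem_top _)
    (fun h3 => ha' h3) (by rw [Subgroup.relIndex_top_right]; exact hidx) (⟨z, hz⟩ : A) (mem_top _)
  obtain ⟨m, hm⟩ := h2
  exact ⟨m, hm⟩

omit h5 hE hG in
/-- `a ^ p` lies in a subgroup of index `p`, in the abelian situation. -/
theorem pow_p_mem_of_abelian {A B : Subgroup G} (hBA : B ≤ A) (hcomm : ∀ x ∈ A, ∀ y ∈ A, x * y = y * x) {a : G}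
    (ha : a ∈ A) (hcard : Nat.card A = p * Nat.card B) : a ^ p ∈ B := by
  let N : Subgroup A := B.subgroupOf A
  have hN : N.Normal := by
    constructor
    intro x hx g
    have e : g * x * g⁻¹ = x := by
      apply Subtype.ext
      show (g : G) * x * (g : G)⁻¹ = x
      rw [hcomm g g.2 x x.2, mul_inv_cancel_right]
    rw [e]
    exact hx
  have hidx : N.index = p := by
    have h1 := relIndex_mul_card hBA
    rw [hcard] at h1
    exact Nat.eq_of_mul_eq_mul_right Nat.card_pos h1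
  have h2 : (⟨a, ha⟩ : A) ^ N.index ∈ N := Subgroup.pow_index_mem N _
  rw [hidx] at h2
  exact h2

theorem exists_pow_A {a : G} (ha : a ∈ Φ (n - 3)) (ha' : a ∉ E) {z : G} (hz : z ∈ Φ (n - 3)) :
    ∃ k : ℕ, z * (a ^ k)⁻¹ ∈ E ⊓ Φ 2 :=
  exists_pow_of_abelian h (W_le hG) (A_abelian h h5) ha (fun h1 => ha' h1.1) (card_A h h5 hE hG) hz

/-- Powers of `g₀`: commutators. -/
theorem comm_pow_g0 {g₀ : G} (hg : g₀ ∈ Φ (n - 4)) (ha : ⁅g₀, u⁆ ∈ Φ (n - 3)) :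
    ∀ k : ℕ, ∃ e ∈ E ⊓ Φ 2, ⁅g₀ ^ k, u⁆ = ⁅g₀, u⁆ ^ k * e := by
  have hW := W_le hG
  have hAb := A_abelian h h5
  intro k
  induction k with
  | zero =>
    exact ⟨1, one_mem _, by simp⟩
  | succ k ih =>
    obtain ⟨e, he, hek⟩ := ih
    set a := ⁅g₀, u⁆ with haa
    have hX : a ^ k * e ∈ Φ (n - 3) := (Φ (n - 3)).mul_mem ((Φ (n - 3)).pow_mem ha k) (hW he)
    set d := ⁅g₀, a ^ k * e⁆ with hd
    have hdW : d ∈ E ⊓ Φ 2 := ⟨hG.T g₀ hg _ hX, cm' (mem_one g₀) (Phi_anti (by omega : 1 ≤ n - 3) hX) (by omega)⟩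
    refine ⟨d * e, (E ⊓ Φ 2).mul_mem hdW he, ?_⟩
    rw [pow_succ', comm_mul_left, hek]
    have e1 : g₀ * (a ^ k * e) * g₀⁻¹ = d * (a ^ k * e) := by
      rw [hd, commutatorElement_def]
      group
    rw [e1]
    have c1 : d * a ^ k = a ^ k * d := hAb _ (hW hdW) _ ((Φ (n - 3)).pow_mem ha k)
    have c2 : e * a = a * e := hAb _ (hW he) _ ha
    have c3 : d * a = a * d := hAb _ (hW hdW) _ ha
    calc d * (a ^ k * e) * a = (d * a ^ k) * (e * a) := by group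
      _ = a ^ k * (d * a) * e := by rw [c1, c2]; group
      _ = a ^ (k + 1) * (d * e) := by rw [c3, pow_succ]; group

/-- Powers of `g₀` normalize `E ∩ Φ 2`. -/
theorem conj_pow_g0 {g₀ : G} (hg : g₀ ∈ Φ (n - 4)) :
    ∀ k : ℕ, ∀ x ∈ E ⊓ Φ 2, g₀ ^ k * x * (g₀ ^ k)⁻¹ ∈ E ⊓ Φ 2 := by
  have hW := W_le hG
  intro k
  induction k with
  | zero =>
    intro x hx
    simpa using hx
  | succ k ih =>
    intro x hx
    have h1 := ih x hx
    rw [pow_succ']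
    have e1 : g₀ * g₀ ^ k * x * (g₀ * g₀ ^ k)⁻¹ = ⁅g₀, g₀ ^ k * x * (g₀ ^ k)⁻¹⁆ * (g₀ ^ k * x * (g₀ ^ k)⁻¹) := by
      rw [commutatorElement_def]
      group
    rw [e1]
    refine (E ⊓ Φ 2).mul_mem ⟨hG.T g₀ hg _ (hW h1), cm' (mem_one g₀) (Phi_anti (by omega : 1 ≤ n - 3) (hW h1)) (by omega)⟩ h1

/-- Elements with nontrivial `u`-part are conjugate into `E`, by an element normalizing `E ∩ Φ 2`. -/
theorem conj_cover {b : G} (hb : b ∈ Q u (n - 3)) (hbA : b ∉ Φ (n - 3)) :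
    ∃ g : G, g⁻¹ * b * g ∈ E ∧ ∀ x ∈ E ⊓ Φ 2, g⁻¹ * x * g ∈ E ⊓ Φ 2 := by
  have hup := hE.exp u hG.mem
  have hW := W_le hG
  have hAb := A_abelian h h5
  obtain ⟨g₀, hg, ha3, haE⟩ := exists_g0 h h5 hE hG
  obtain ⟨i, z, hz, rfl⟩ := (mem_Q_iff hup).1 hb
  have hpi : ¬ p ∣ i := by
    intro hd
    apply hbA
    rw [pow_eq_one_of_dvd hup hd, one_mul]
    exact hz
  -- the inverse of `i` modulo `p`
  have hcop : IsCoprime (i : ℤ) (p : ℤ) := by
    rw [Nat.isCoprime_iff_coprime]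
    exact ((Nat.Prime.coprime_iff_not_dvd hp.out).2 hpi).symm
  have hi0 : (i : ZMod p) ≠ 0 := by
    rwa [Ne, ZMod.natCast_eq_zero_iff]
  set i' := ((i : ZMod p)⁻¹).val with hi'
  have hii : ((i * i' : ℕ) : ZMod p) = 1 := by
    push_cast
    rw [hi', ZMod.natCast_zmod_val, mul_inv_cancel₀ hi0]
  have hi'p : ¬ p ∣ i' := by
    intro hd
    have : ((i * i' : ℕ) : ZMod p) = 0 := by
      rw [ZMod.natCast_eq_zero_iff]
      exact dvd_mul_of_dvd_right hd _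
    rw [hii] at this
    exact one_ne_zero this
  -- the power of `b`
  have hpow : ∀ m : ℕ, ∃ z' ∈ Φ (n - 3), (u ^ i * z) ^ m = u ^ (i * m) * z' := by
    intro m
    induction m with
    | zero => exact ⟨1, one_mem _, by simp⟩
    | succ m ih =>
      obtain ⟨z', hz', e⟩ := ih
      refine ⟨(u ^ i)⁻¹ * z' * u ^ i * z, (Φ (n - 3)).mul_mem ?_ hz, ?_⟩
      · have := (Phi_normal (n - 3)).conj_mem z' hz' (u ^ i)⁻¹
        simpa using this
      · rw [pow_succ, e, mul_add, pow_add, mul_one]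
        group
  obtain ⟨z₁, hz₁, e₁⟩ := hpow i'
  have hu1 : u ^ (i * i') = u := by
    have hk : (i * i') % p = 1 := by
      have := (ZMod.natCast_eq_natCast_iff' (i * i') 1 p).1 (by rw [hii]; simp)
      rw [this, Nat.mod_eq_of_lt hp.out.one_lt]
    calc u ^ (i * i') = u ^ (p * ((i * i') / p) + (i * i') % p) := by rw [Nat.div_add_mod]
      _ = u := by rw [pow_add, pow_mul, hup, one_pow, one_mul, hk, pow_one]
  rw [hu1] at e₁
  obtain ⟨k, hk⟩ := exists_pow_A h h5 hE hG ha3 haE hz₁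
  set g := g₀ ^ k with hgdef
  obtain ⟨e, he, hek⟩ := comm_pow_g0 h h5 hE hG hg ha3 k
  set a := ⁅g₀, u⁆ with haa
  have hWn : g ∈ normalizer ((E ⊓ Φ 2 : Subgroup G) : Set G) :=
    Basic.mem_normalizer_of_conj_le (fun x hx => conj_pow_g0 h h5 hE hG hg k x hx)
  have hconj : ∀ x ∈ E ⊓ Φ 2, g⁻¹ * x * g ∈ E ⊓ Φ 2 := by
    intro x hx
    have := (mem_normalizer_iff.1 ((normalizer _).inv_mem hWn) x).1 hx
    simpa using this
  refine ⟨g, ?_, hconj⟩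
  -- first the power
  have hr : (u ^ i * z) ^ i' * (g * u * g⁻¹)⁻¹ ∈ E ⊓ Φ 2 := by
    have hek' : ⁅g, u⁆ = a ^ k * e := hek
    have e2 : g * u * g⁻¹ = a ^ k * e * u := by
      rw [← hek', commutatorElement_def]
      group
    rw [e₁, e2]
    have c1 : ⁅z₁, u⁆ ∈ E ⊓ Φ 2 := comm_mem_W h h5 hE hG hz₁
    have e3 : u * z₁ * (a ^ k * e * u)⁻¹ = ⁅z₁, u⁆⁻¹ * (e⁻¹ * (z₁ * (a ^ k)⁻¹)) := by
      have c2 : e⁻¹ * z₁ = z₁ * e⁻¹ := hAb _ ((Φ (n - 3)).inv_mem (hW he)) _ hz₁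
      rw [commutatorElement_inv, commutatorElement_def]
      calc u * z₁ * (a ^ k * e * u)⁻¹ = u * z₁ * u⁻¹ * z₁⁻¹ * ((z₁ * e⁻¹) * (a ^ k)⁻¹) := by group
        _ = u * z₁ * u⁻¹ * z₁⁻¹ * ((e⁻¹ * z₁) * (a ^ k)⁻¹) := by rw [c2]
        _ = _ := by group
    rw [e3]
    exact (E ⊓ Φ 2).mul_mem ((E ⊓ Φ 2).inv_mem c1) ((E ⊓ Φ 2).mul_mem ((E ⊓ Φ 2).inv_mem he) hk)
  have hbb : g⁻¹ * (u ^ i * z) ^ i' * g ∈ E := by
    have e2 : g⁻¹ * (u ^ i * z) ^ i' * g = g⁻¹ * ((u ^ i * z) ^ i' * (g * u * g⁻¹)⁻¹) * g * u := by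
      group
    rw [e2]
    exact E.mul_mem (hconj _ hr).1 hG.mem
  -- then `b` itself is a power of its power
  have hord : Nat.Coprime i' (orderOf (u ^ i * z)) := by
    obtain ⟨m, hm⟩ := (IsPGroup.iff_orderOf.1 h.hG) (u ^ i * z)
    rw [hm]
    exact Nat.Coprime.pow_right _ ((Nat.Prime.coprime_iff_not_dvd hp.out).2 hi'p).symm
  obtain ⟨m, hm⟩ := exists_pow_eq_self_of_coprime hord
  have e3 : g⁻¹ * (u ^ i * z) * g = (g⁻¹ * (u ^ i * z) ^ i' * g) ^ m := by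
    have := conj_pow (a := g⁻¹) (b := (u ^ i * z) ^ i') (i := m)
    rw [inv_inv, hm] at this
    exact this.symm ▸ rfl
  rw [e3]
  exact E.pow_mem hbb m

/-- **Invariance of `Φ (n - 3)`.** -/
theorem A_invariant {f : G → G} (hf : PH (Q u (n - 3)) f) (hfN : ∀ x ∈ Q u (n - 3), f x ∈ Q u (n - 3))
    (hfW : ∀ x ∈ E ⊓ Φ 2, f x ∈ E ⊓ Φ 2) (hFN : ∀ g : G, ¬ ∀ x ∈ Φ (n - 3), g⁻¹ * f x * g ∈ E) :
    ∀ x ∈ Φ (n - 3), f x ∈ Φ (n - 3) := by
  have hW := W_le hG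
  by_contra hcon
  push_neg at hcon
  obtain ⟨x₀, hx₀, hfx⟩ := hcon
  have hx₀E : x₀ ∉ E := by
    intro h1
    exact hfx (hW (hfW x₀ ⟨h1, Phi_anti (by omega) hx₀⟩))
  obtain ⟨g, hg1, hg2⟩ := conj_cover h h5 hE hG (hfN x₀ (phi_le_Q u _ hx₀)) hfx
  apply hFN g
  intro x hx
  obtain ⟨k, hk⟩ := exists_pow_A h h5 hE hG hx₀ hx₀E hx
  set e := x * (x₀ ^ k)⁻¹ with he
  have e1 : x = e * x₀ ^ k := by
    rw [he]
    group
  have h3 : f x = f e * (f x₀) ^ k := by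
    rw [e1, hf.mul _ (phi_le_Q u _ (hW hk)) _ ((Q u (n - 3)).pow_mem (phi_le_Q u _ hx₀) k),
      hf.pow (phi_le_Q u _ hx₀)]
  rw [h3]
  have e2 : g⁻¹ * (f e * f x₀ ^ k) * g = (g⁻¹ * f e * g) * (g⁻¹ * f x₀ * g) ^ k := by
    have := conj_pow (a := g⁻¹) (b := f x₀) (i := k)
    rw [inv_inv] at this
    rw [this]
    group
  rw [e2]
  exact E.mul_mem (hg2 _ (hfW _ hk)).1 (E.pow_mem hg1 k)

end

end Cfsg.Agent.Lib.MCEss.Struct2
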