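import Cfsg.Agent.Lib.MCEss.Signs

/-!
# The tower of extensions: the abstract argument

An abstract interface `Sys` for a saturated fusion system on the group `G`.
-/

set_option autoImplicit false
set_option linter.unusedSectionVars false

namespace Cfsg.Agent.Lib.MCEss.Tower

open Subgroup Cfsg.Agent.Lib.FG7.HallPetrescu Cfsg.Agent.Lib.PGroups.UniformShift
open Cfsg.Agent.Lib.PGroups.MaxAbelian Cfsg.Agent.Lib.FGStruct.UnifZ Cfsg.Agent.Lib.FGStruct.MCBlack
open Cfsg.Agent.Lib.MCEss.Graded Cfsg.Agent.Lib.MCEss.Numeric Cfsg.Agent.Lib.MCEss.Const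
open Cfsg.Agent.Lib.MCEss.Basic Cfsg.Agent.Lib.MCEss.Struct Cfsg.Agent.Lib.MCEss.Struct2
open Cfsg.Agent.Lib.MCEss.Signs
open scoped commutatorElement

universe u

variable {G : Type u} [Group G] [Finite G] {p : ℕ} [hp : Fact p.Prime] {n : ℕ}

local notation "Φ" => lcsF G

/-- `B` is the image of `A` under `f`. -/
def IsImg (A : Subgroup G) (f : G → G) (B : Subgroup G) : Prop :=
  (∀ x ∈ A, f x ∈ B) ∧ ∀ y ∈ B, ∃ x ∈ A, f x = y

/-- The interface to the saturated fusion system. -/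
structure Sys (G : Type u) [Group G] where
  Mp : Subgroup G → (G → G) → Prop
  ph : ∀ {A f}, Mp A f → PH A f
  conj : ∀ (A : Subgroup G) (g : G), Mp A (fun x => g * x * g⁻¹)
  comp : ∀ {A B : Subgroup G} {f f' : G → G}, Mp A f → (∀ x ∈ A, f x ∈ B) → Mp B f' → Mp A (f' ∘ f)
  res : ∀ {A B : Subgroup G} {f : G → G}, B ≤ A → Mp A f → Mp B f
  symm : ∀ {A B : Subgroup G} {f : G → G}, Mp A f → IsImg A f B → ∃ f', Mp B f' ∧ IsImg B f' A
  congr : ∀ {A : Subgroup G} {f f' : G → G}, Mp A f → (∀ x ∈ A, f' x = f x) → Mp A f'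
  ext : ∀ {A : Subgroup G} {f : G → G},
    (∀ f' B, Mp A f' → IsImg A f' B → Nat.card (normalizer (B : Set G)) ≤ Nat.card (normalizer (A : Set G))) →
    Mp A f → (∀ x ∈ A, f x ∈ A) → ∀ (L : ℕ → Subgroup G) (m : ℕ), L 0 = A → L m = ⊥ → Antitone L →
    (∀ j, ∀ x ∈ L j, f x ∈ L j) → (∀ g ∈ normalizer (A : Set G), ∀ j, ∀ x ∈ L j, ⁅g, x⁆ ∈ L (j + 1)) →
    ∃ f', Mp (normalizer (A : Set G)) f' ∧ ∀ x ∈ A, f' x = f x

variable (S : Sys G)

/-- Fully normalized. -/
def FN (A : Subgroup G) : Prop :=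
  ∀ f' B, S.Mp A f' → IsImg A f' B → Nat.card (normalizer (B : Set G)) ≤ Nat.card (normalizer (A : Set G))

/-- The image of a subgroup under a partial homomorphism. -/
def imgSub {A : Subgroup G} {f : G → G} (hf : PH A f) (C : Subgroup G) (hC : C ≤ A) : Subgroup G where
  carrier := f '' (C : Set G)
  mul_mem' := by
    rintro _ _ ⟨x, hx, rfl⟩ ⟨y, hy, rfl⟩
    exact ⟨x * y, C.mul_mem hx hy, hf.mul x (hC hx) y (hC hy)⟩
  one_mem' := ⟨1, C.one_mem, hf.one⟩
  inv_mem' := by
    rintro _ ⟨x, hx, rfl⟩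
    exact ⟨x⁻¹, C.inv_mem hx, hf.inv (hC hx)⟩

theorem mem_imgSub {A : Subgroup G} {f : G → G} (hf : PH A f) {C : Subgroup G} {hC : C ≤ A} {y : G} :
    y ∈ imgSub hf C hC ↔ ∃ x ∈ C, f x = y := Iff.rfl

theorem isImg_imgSub {A : Subgroup G} {f : G → G} (hf : PH A f) (C : Subgroup G) (hC : C ≤ A) :
    IsImg C f (imgSub hf C hC) :=
  ⟨fun x hx => ⟨x, hx, rfl⟩, fun _ hy => hy⟩

theorem card_of_isImg {A B C : Subgroup G} {f : G → G} (hf : PH A f) (hC : C ≤ A) (hB : IsImg C f B) :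
    Nat.card B = Nat.card C := by
  symm
  apply Nat.card_congr
  refine Equiv.ofBijective (fun x : C => (⟨f x, hB.1 x x.2⟩ : B)) ⟨?_, ?_⟩
  · intro a b hab
    exact Subtype.ext (hf.inj a (hC a.2) b (hC b.2) (congrArg Subtype.val hab))
  · rintro ⟨y, hy⟩
    obtain ⟨x, hx, e⟩ := hB.2 y hy
    exact ⟨⟨x, hx⟩, Subtype.ext e⟩

/-- A partial homomorphism on a larger subgroup carries the normalizer into the normalizer of the image. -/
theorem map_normalizer {A C B : Subgroup G} {f : G → G} (hf : PH A f) (hCA : C ≤ A) (hB : IsImg C f B) {x : G} (hxA : x ∈ A)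
    (hx : x ∈ normalizer (C : Set G)) : f x ∈ normalizer (B : Set G) := by
  apply Basic.mem_normalizer_of_conj_le
  intro a ha
  obtain ⟨a₀, ha₀, rfl⟩ := hB.2 a ha
  rw [← hf.conj hxA (hCA ha₀)]
  exact hB.1 _ ((mem_normalizer_iff.1 hx a₀).1 ha₀)

/-- An injective map into a subgroup of the same order gives the image. -/
theorem isImg_of_card {A B C : Subgroup G} {f : G → G} (hf : PH A f) (hC : C ≤ A) (h1 : ∀ x ∈ C, f x ∈ B)
    (hc : Nat.card B ≤ Nat.card C) : IsImg C f B := by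
  refine ⟨h1, ?_⟩
  let g : C → B := fun x => ⟨f x, h1 x x.2⟩
  have hg : Function.Injective g := by
    intro a b hab
    exact Subtype.ext (hf.inj a (hC a.2) b (hC b.2) (congrArg Subtype.val hab))
  have hs : Function.Surjective g := ((Nat.bijective_iff_injective_and_card g).2 ⟨hg, le_antisymm (Nat.card_le_card_of_injective g hg) hc⟩).2
  intro y hy
  obtain ⟨x, hx⟩ := hs ⟨y, hy⟩
  exact ⟨x, x.2, congrArg Subtype.val hx⟩

/-- The image is unique. -/
theorem isImg_unique {C B B' : Subgroup G} {f : G → G} (h1 : IsImg C f B) (h2 : IsImg C f B') : B = B' := by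
  ext y
  constructor
  · intro hy
    obtain ⟨x, hx, rfl⟩ := h1.2 y hy
    exact h2.1 x hx
  · intro hy
    obtain ⟨x, hx, rfl⟩ := h2.2 y hy
    exact h1.1 x hx

/-- A subgroup mapped into itself is its own image. -/
theorem isImg_self {A C : Subgroup G} {f : G → G} (hf : PH A f) (hC : C ≤ A) (h1 : ∀ x ∈ C, f x ∈ C) : IsImg C f C :=
  isImg_of_card hf hC h1 le_rfl

omit [Finite G] hp in
theorem comm_eq_one {a b : G} (h : a * b = b * a) : ⁅a, b⁆ = 1 := commutatorElement_eq_one_iff_mul_comm.2 h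

/-- The chain with four steps. -/
theorem ext4 {a b c d : Subgroup G} {f : G → G} (hfn : FN S a) (hf : S.Mp a f) (hfa : ∀ x ∈ a, f x ∈ a) (hba : b ≤ a)
    (hcb : c ≤ b) (hdc : d ≤ c) (hib : ∀ x ∈ b, f x ∈ b) (hic : ∀ x ∈ c, f x ∈ c) (hid : ∀ x ∈ d, f x ∈ d)
    (hg1 : ∀ g ∈ normalizer (a : Set G), ∀ x ∈ a, ⁅g, x⁆ ∈ b) (hg2 : ∀ g ∈ normalizer (a : Set G), ∀ x ∈ b, ⁅g, x⁆ ∈ c)
    (hg3 : ∀ g ∈ normalizer (a : Set G), ∀ x ∈ c, ⁅g, x⁆ ∈ d) (hg4 : ∀ g ∈ normalizer (a : Set G), ∀ x ∈ d, ⁅g, x⁆ = 1) :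
    ∃ f', S.Mp (normalizer (a : Set G)) f' ∧ ∀ x ∈ a, f' x = f x := by
  let L : ℕ → Subgroup G := fun j => match j with
    | 0 => a
    | 1 => b
    | 2 => c
    | 3 => d
    | _ => ⊥
  refine S.ext hfn hf hfa L 4 rfl rfl ?_ ?_ ?_
  · apply antitone_nat_of_succ_le
    intro j
    match j with
    | 0 => exact hba
    | 1 => exact hcb
    | 2 => exact hdc
    | 3 => exact bot_le
    | _ + 4 => exact le_rfl
  · intro j x hx
    match j with
    | 0 => exact hfa x hx
    | 1 => exact hib x hx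
    | 2 => exact hic x hx
    | 3 => exact hid x hx
    | _ + 4 =>
      have hx1 : x = 1 := hx
      show f x ∈ (⊥ : Subgroup G)
      rw [hx1, (S.ph hf).one]
      exact one_mem _
  · intro g hg j x hx
    match j with
    | 0 => exact hg1 g hg x hx
    | 1 => exact hg2 g hg x hx
    | 2 => exact hg3 g hg x hx
    | 3 =>
      show ⁅g, x⁆ ∈ (⊥ : Subgroup G)
      rw [hg4 g hg x hx]
      exact one_mem _
    | _ + 4 =>
      have hx1 : x = 1 := hx
      show ⁅g, x⁆ ∈ (⊥ : Subgroup G)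
      rw [hx1, commutatorElement_one_right]
      exact one_mem _

/-- The commutator of the normalizer of `⟨u⟩ Φ j`. -/
theorem comm_mem_of_norm {u g x : G} {j : ℕ} (hup : u ^ p = 1) (hu2 : u ∉ Φ 2) (hj : 2 ≤ j)
    (hg : g ∈ normalizer (Q u j : Set G)) (hx : x ∈ Q u j) : ⁅g, x⁆ ∈ Φ j := by
  have h1 : g * x * g⁻¹ ∈ Q u j := (mem_normalizer_iff.1 hg x).1 hx
  have e : ⁅g, x⁆ = (g * x * g⁻¹) * x⁻¹ := rfl
  have h2 : ⁅g, x⁆ ∈ Q u j := by
    rw [e]
    exact (Q u j).mul_mem h1 ((Q u j).inv_mem hx)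
  exact mem_of_mem_Q hup hu2 hj h2 (cm (mem_one g) (mem_one x))

/-- The chain through the lower central series. -/
theorem ext_Q {u : G} {j M : ℕ} {f : G → G} (hfn : FN S (Q u j)) (hup : u ^ p = 1) (hu2 : u ∉ Φ 2) (hj : 2 ≤ j) (hf : S.Mp (Q u j) f)
    (hfQ : ∀ x ∈ Q u j, f x ∈ Q u j) (hjM : j ≤ M) (hinv : ∀ k, j ≤ k → k ≤ M → ∀ x ∈ Φ k, f x ∈ Φ k)
    (htop : ∀ g ∈ normalizer (Q u j : Set G), ∀ x ∈ Φ M, ⁅g, x⁆ = 1) :
    ∃ f', S.Mp (normalizer (Q u j : Set G)) f' ∧ ∀ x ∈ Q u j, f' x = f x := by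
  classical
  let L : ℕ → Subgroup G := fun i => if i = 0 then Q u j else if j + i - 1 ≤ M then Φ (j + i - 1) else ⊥
  have hL0 : L 0 = Q u j := rfl
  have hL1 : ∀ i, i ≠ 0 → j + i - 1 ≤ M → L i = Φ (j + i - 1) := by
    intro i hi hiM
    show (if i = 0 then Q u j else if j + i - 1 ≤ M then Φ (j + i - 1) else ⊥) = _
    rw [if_neg hi, if_pos hiM]
  have hL2 : ∀ i, i ≠ 0 → ¬ (j + i - 1 ≤ M) → L i = ⊥ := by
    intro i hi hiM
    show (if i = 0 then Q u j else if j + i - 1 ≤ M then Φ (j + i - 1) else ⊥) = _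
    rw [if_neg hi, if_neg hiM]
  refine S.ext hfn hf hfQ L (M - j + 2) hL0 (hL2 _ (by omega) (by omega)) ?_ ?_ ?_
  · apply antitone_nat_of_succ_le
    intro i
    by_cases hi : i = 0
    · subst hi
      rw [hL0, hL1 1 (by omega) (by omega)]
      exact phi_le_Q u j
    · by_cases h1 : j + (i + 1) - 1 ≤ M
      · rw [hL1 _ (by omega) h1, hL1 i hi (by omega)]
        exact Phi_anti (by omega)
      · rw [hL2 _ (by omega) h1]
        exact bot_le
  · intro i x hx
    by_cases hi : i = 0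
    · subst hi
      exact hfQ x hx
    · by_cases h1 : j + i - 1 ≤ M
      · rw [hL1 i hi h1] at hx ⊢
        exact hinv _ (by omega) h1 x hx
      · rw [hL2 i hi h1] at hx ⊢
        have hx1 : x = 1 := hx
        rw [hx1, (S.ph hf).one]
        exact one_mem _
  · intro g hg i x hx
    by_cases hi : i = 0
    · subst hi
      rw [hL1 1 (by omega) (by omega)]
      exact comm_mem_of_norm hup hu2 hj hg hx
    · by_cases h1 : j + i - 1 ≤ M
      · rw [hL1 i hi h1] at hx
        by_cases h2 : j + (i + 1) - 1 ≤ M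
        · rw [hL1 _ (by omega) h2]
          have := comm_succ g hx
          rwa [show j + i - 1 + 1 = j + (i + 1) - 1 by omega] at this
        · obtain rfl : M = j + i - 1 := by omega
          rw [hL2 _ (by omega) h2, htop g hg x hx]
          exact one_mem _
      · rw [hL2 i hi h1] at hx
        have hx1 : x = 1 := hx
        rw [hx1, commutatorElement_one_right]
        exact one_mem _

/-- A normal subgroup is fully normalized. -/
theorem fn_of_normal {A : Subgroup G} (hA : A.Normal) : FN S A := by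
  intro f' B _ _
  rw [(Subgroup.normalizer_eq_top_iff (H := A)).2 hA, Subgroup.card_top]
  exact Nat.card_le_card_of_injective _ Subtype.val_injective

section iter

variable {A : Subgroup G} {f : G → G}

omit hp [Finite G] in
theorem iter_mem {B : Subgroup G} (h1 : ∀ x ∈ B, f x ∈ B) (m : ℕ) : ∀ x ∈ B, f^[m] x ∈ B := by
  induction m with
  | zero => exact fun x hx => hx
  | succ m ih =>
    intro x hx
    rw [Function.iterate_succ_apply']
    exact h1 _ (ih x hx)

omit hp [Finite G] in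
theorem iter_mp (hf : S.Mp A f) (hfA : ∀ x ∈ A, f x ∈ A) (m : ℕ) : S.Mp A f^[m] := by
  induction m with
  | zero =>
    refine S.congr (S.conj A 1) (fun x _ => ?_)
    simp
  | succ m ih =>
    rw [Function.iterate_succ]
    exact S.comp hf hfA ih

omit hp [Finite G] in
theorem iter_odd {a : G} (h1 : f a = a⁻¹) (h2 : f a⁻¹ = a) {m : ℕ} (hm : Odd m) : f^[m] a = a⁻¹ := by
  have key : ∀ k : ℕ, f^[2 * k] a = a ∧ f^[2 * k + 1] a = a⁻¹ := by
    intro k
    induction k with
    | zero => exact ⟨rfl, h1⟩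
    | succ k ih =>
      have e : f^[2 * (k + 1)] a = a := by
        rw [show 2 * (k + 1) = 2 * k + 1 + 1 by ring, Function.iterate_succ_apply', ih.2, h2]
      refine ⟨e, ?_⟩
      rw [Function.iterate_succ_apply', e, h1]
  obtain ⟨k, rfl⟩ := hm
  exact (key k).2

/-- The `p`-power part. -/
theorem exists_iter (hf : PH A f) (hfA : ∀ x ∈ A, f x ∈ A) :
    ∃ (a k : ℕ), k.Coprime p ∧ ∀ x ∈ A, (f^[p ^ a])^[k] x = x := by
  let g : A → A := fun x => ⟨f x, hfA x x.2⟩
  have hg : Function.Injective g := by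
    intro a b hab
    exact Subtype.ext (hf.inj a a.2 b b.2 (congrArg Subtype.val hab))
  let σ : Equiv.Perm A := Equiv.ofBijective g (Finite.injective_iff_bijective.1 hg)
  have hfin : Finite (Equiv.Perm A) := inferInstance
  have hne : orderOf σ ≠ 0 := (orderOf_pos σ).ne'
  obtain ⟨a, k, hk, e⟩ := Nat.exists_eq_pow_mul_and_not_dvd hne p hp.out.ne_one
  refine ⟨a, k, ((Nat.Prime.coprime_iff_not_dvd hp.out).2 hk).symm, ?_⟩
  have hiter : ∀ (N : ℕ) (x : A), f^[N] (x : G) = ((σ ^ N) x : A) := by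
    intro N
    induction N with
    | zero => exact fun x => rfl
    | succ N ih =>
      intro x
      rw [Function.iterate_succ_apply', ih, pow_succ']
      rfl
  intro x hx
  rw [← Function.iterate_mul, hiter _ ⟨x, hx⟩, ← e, pow_orderOf_eq_one]
  rfl

end iter

section tower

variable (h : MC p n G) (h5 : 5 ≤ n) (hodd : p ≠ 2) {E : Subgroup G} (hE : EE p E) (hFN : FN S E)
  (hcent : ∀ f B, S.Mp E f → IsImg E f B → ∀ g : G, (∀ a ∈ B, g * a = a * g) → g ∈ B)

include h h5 hE hFN hcent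

/-- The images of `E` satisfy the same hypotheses. -/
theorem EE_img {f : G → G} {B : Subgroup G} (hf : S.Mp E f) (hB : IsImg E f B) : EE p B := by
  have hph := S.ph hf
  have hc := card_of_isImg hph le_rfl hB
  have hcB : Nat.card B = p ^ 3 := by rw [hc, hE.card]
  refine ⟨?_, ?_, hcB, hcent f B hf hB, ?_⟩
  · intro a ha b hb
    obtain ⟨a₀, ha₀, rfl⟩ := hB.2 a ha
    obtain ⟨b₀, hb₀, rfl⟩ := hB.2 b hb
    rw [← hph.mul _ ha₀ _ hb₀, ← hph.mul _ hb₀ _ ha₀, hE.comm a₀ ha₀ b₀ hb₀]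
  · intro a ha
    obtain ⟨a₀, ha₀, rfl⟩ := hB.2 a ha
    rw [← hph.pow ha₀, hE.exp a₀ ha₀, hph.one]
  · have h1 : Nat.card (normalizer (B : Set G)) ≤ p ^ 4 := by
      rw [← hE.norm]
      exact hFN f B hf hB
    have hne : B ≠ ⊤ := by
      intro ht
      rw [ht, Subgroup.card_top, h.card] at hcB
      have := Nat.pow_right_injective hp.out.two_le hcB
      omega
    obtain ⟨g, hg, hgB⟩ := Cfsg.Agent.Lib.Fusion.Saturation2.exists_mem_normalizer_not_mem h.hG B hne
    have hlt : B < normalizer (B : Set G) := lt_of_le_of_ne Subgroup.le_normalizer (fun e => hgB (by rw [e]; exact hg))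
    have hd : Nat.card (normalizer (B : Set G)) ∣ p ^ n := by
      rw [← h.card]
      exact Subgroup.card_subgroup_dvd_card _
    obtain ⟨m, -, hm⟩ := (Nat.dvd_prime_pow hp.out).1 hd
    have h3 : 3 < m := by
      by_contra hcon
      have hle : Nat.card (normalizer (B : Set G)) ≤ Nat.card B := by
        rw [hm, hcB]
        exact Nat.pow_le_pow_right hp.out.pos (by omega)
      exact hlt.ne (Subgroup.eq_of_le_of_card_ge hlt.le hle)
    apply le_antisymm h1
    rw [hm]
    exact Nat.pow_le_pow_right hp.out.pos (by omega)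

/-- **Full normalization of the groups `⟨u⟩ Φ j`.** -/
theorem fn_Q {u : G} (hG : Good n E u) {j : ℕ} (hj : 3 ≤ j) (hjn : j ≤ n - 3) (hodd : p ≠ 2) : FN S (Q u j) := by
  intro f B hMp hB
  have hup := hE.exp u hG.mem
  have hph := S.ph hMp
  have hEN : E ≤ Q u (n - 3) := by
    rw [← hG.norm]
    exact Subgroup.le_normalizer
  have hNj : Q u (n - 3) ≤ Q u j := Q_anti u hjn
  have hEj : E ≤ Q u j := hEN.trans hNj
  have hMpE := S.res hEj hMp
  have hImg := isImg_imgSub hph E hEj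
  have hE' := EE_img S h h5 hE hFN hcent hMpE hImg
  obtain ⟨u', hu', hu'2⟩ := exists_u h h5 hE'
  have hG' := (main_struct h h5 hE' hodd hu' hu'2).1
  have hup' := hE'.exp u' hu'
  have key : ∀ d, j + d ≤ n - 3 → ∀ x ∈ Q u (n - 3 - d), f x ∈ Q u' (n - 3 - d) := by
    intro d
    induction d with
    | zero =>
      intro _ x hx
      simp only [Nat.sub_zero] at hx ⊢
      rw [← hG'.norm]
      exact map_normalizer hph hEj hImg (hNj hx) (by rw [hG.norm]; exact hx)
    | succ d ih =>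
      intro hd x hx
      have ih' := ih (by omega)
      set k := n - 3 - (d + 1) with hk
      have hk1 : n - 3 - d = k + 1 := by omega
      rw [hk1] at ih'
      have hle : Q u (k + 1) ≤ Q u j := Q_anti u (by omega)
      have hI : IsImg (Q u (k + 1)) f (Q u' (k + 1)) :=
        isImg_of_card hph hle ih' (by
          rw [card_Q_eq h hup' hG'.not2 (by omega) (by omega), card_Q_eq h hup hG.not2 (by omega) (by omega)])
      have hK := hG.K (k + 1) (by omega) (by omega)
      have hK' := hG'.K (k + 1) (by omega) (by omega)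
      rw [show k + 1 - 1 = k by omega] at hK hK'
      rw [← hK', ← normalizer_Q hup' hG'.not2 (by omega)]
      refine map_normalizer hph hle hI (Q_anti u (by omega) hx) ?_
      rw [normalizer_Q hup hG.not2 (by omega), hK]
      exact hx
  have h1 := key (n - 3 - j) (by omega)
  rw [show n - 3 - (n - 3 - j) = j by omega] at h1
  have hI : IsImg (Q u j) f (Q u' j) :=
    isImg_of_card hph le_rfl h1 (by
      rw [card_Q_eq h hup' hG'.not2 (by omega) (by omega), card_Q_eq h hup hG.not2 (by omega) (by omega)])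
  rw [isImg_unique hB hI, normalizer_Q hup' hG'.not2 (by omega), normalizer_Q hup hG.not2 (by omega), hG.K j hj hjn,
    hG'.K j hj hjn, card_Q_eq h hup' hG'.not2 (by omega) (by omega), card_Q_eq h hup hG.not2 (by omega) (by omega)]

end tower

end Cfsg.Agent.Lib.MCEss.Tower
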