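import Cfsg.Agent.Lib.MCEss.Tower

/-!
# The tower of extensions: common facts and the two scenarios
-/

set_option autoImplicit false
set_option linter.unusedSectionVars false

namespace Cfsg.Agent.Lib.MCEss.Tower2

open Subgroup Cfsg.Agent.Lib.FG7.HallPetrescu Cfsg.Agent.Lib.PGroups.UniformShift
open Cfsg.Agent.Lib.PGroups.MaxAbelian Cfsg.Agent.Lib.FGStruct.UnifZ Cfsg.Agent.Lib.FGStruct.MCBlack
open Cfsg.Agent.Lib.MCEss.Graded Cfsg.Agent.Lib.MCEss.Numeric Cfsg.Agent.Lib.MCEss.Const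
open Cfsg.Agent.Lib.MCEss.Basic Cfsg.Agent.Lib.MCEss.Struct Cfsg.Agent.Lib.MCEss.Struct2
open Cfsg.Agent.Lib.MCEss.Signs Cfsg.Agent.Lib.MCEss.Tower
open scoped commutatorElement

universe u

variable {G : Type u} [Group G] [Finite G] {p : ℕ} [hp : Fact p.Prime] {n : ℕ}

local notation "Φ" => lcsF G

section

variable (h : MC p n G) (h5 : 5 ≤ n) {E : Subgroup G} (hE : EE p E) {u : G} (hG : Good n E u)
include h h5 hE hG

/-- `[g, x]` for `g ∈ ⟨u⟩ Φ (n - 4)`, `x ∈ Φ (n - 3)`. -/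
theorem comm_A {g x : G} (hg : g ∈ Q u (n - 4)) (hx : x ∈ Φ (n - 3)) : ⁅g, x⁆ ∈ E ⊓ Φ 2 := by
  have hup := hE.exp u hG.mem
  have hW := W_le hG
  have hcu : ∀ k : ℕ, ⁅u ^ k, x⁆ ∈ E ⊓ Φ 2 := by
    intro k
    induction k with
    | zero => simpa using one_mem (E ⊓ Φ 2)
    | succ k ih =>
      rw [pow_succ', comm_mul_left]
      have h1 : ⁅u, x⁆ ∈ E ⊓ Φ 2 := by
        have := comm_mem_W h h5 hE hG hx
        have h2 := (E ⊓ Φ 2).inv_mem this
        rwa [commutatorElement_inv] at h2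
      have e : u * ⁅u ^ k, x⁆ * u⁻¹ = ⁅u ^ k, x⁆ := by
        rw [W_central h h5 hE hG ih (u_mem_Q u _), mul_inv_cancel_right]
      rw [e]
      exact (E ⊓ Φ 2).mul_mem ih h1
  obtain ⟨k, z, hz, rfl⟩ := (mem_Q_iff hup).1 hg
  rw [comm_mul_left]
  have h3 : ⁅z, x⁆ ∈ E ⊓ Φ 2 :=
    ⟨hG.T z hz x hx, cm' (mem_one z) (Phi_anti (by omega : 1 ≤ n - 3) hx) (by omega)⟩
  have e : u ^ k * ⁅z, x⁆ * (u ^ k)⁻¹ = ⁅z, x⁆ := by
    rw [W_central h h5 hE hG h3 ((Q u _).pow_mem (u_mem_Q u _) k), mul_inv_cancel_right]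
  rw [e]
  exact (E ⊓ Φ 2).mul_mem h3 (hcu k)

/-- The commutator of `y ∉ E` with `u` is not trivial. -/
theorem c_ne_one {y : G} (hy : y ∈ Φ (n - 3)) (hyE : y ∉ E) : ⁅y, u⁆ ≠ 1 := by
  intro h1
  apply hyE
  apply hE.cent
  intro a ha
  obtain ⟨k, z, hz, rfl⟩ := exists_decomp h h5 hE hG.mem hG.not2 ha
  have h2 : Commute y u := commutatorElement_eq_one_iff_mul_comm.1 h1
  have h3 : Commute y z := A_abelian h h5 y hy z (W_le hG hz)
  exact (h2.pow_right k).mul_right h3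

/-- The scalar of an automorphism on `Φ (n - 3) / (E ∩ Φ 2)`. -/
theorem y_fixed {f : G → G} (hf : PH (Q u (n - 3)) f) (hfA : ∀ x ∈ Φ (n - 3), f x ∈ Φ (n - 3)) (hfu : f u = u⁻¹) {y : G}
    (hy : y ∈ Φ (n - 3)) (hyE : y ∉ E) (hfc : f ⁅y, u⁆ = ⁅y, u⁆⁻¹) : f y * y⁻¹ ∈ E ⊓ Φ 2 := by
  have hW := W_le hG
  have hAb := A_abelian h h5
  have huN := u_mem_Q u (n - 3)
  have hyN := phi_le_Q u _ hy
  set c := ⁅y, u⁆ with hc
  have hcW : c ∈ E ⊓ Φ 2 := comm_mem_W h h5 hE hG hy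
  have hc1 : c ≠ 1 := c_ne_one h h5 hE hG hy hyE
  have hcp := hE.exp c hcW.1
  obtain ⟨k, hk⟩ := exists_pow_A h h5 hE hG hy hyE (hfA y hy)
  set e := f y * (y ^ k)⁻¹ with he
  have e1 : f y = e * y ^ k := by
    rw [he]
    group
  -- the action of `y` on `u⁻¹`
  have hcu : Commute c u := (W_central h h5 hE hG hcW huN).symm
  have hcy : Commute c y := (W_central h h5 hE hG hcW hyN).symm
  have hconj : ∀ m : ℕ, y ^ m * u⁻¹ * (y ^ m)⁻¹ = (c⁻¹) ^ m * u⁻¹ := by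
    intro m
    induction m with
    | zero => simp
    | succ m ih =>
      have e2 : y * u * y⁻¹ = c * u := by
        rw [hc, commutatorElement_def]
        group
      have e3 : y * u⁻¹ * y⁻¹ = c⁻¹ * u⁻¹ := by
        have e4 : (y * u * y⁻¹)⁻¹ = y * u⁻¹ * y⁻¹ := by group
        rw [← e4, e2, mul_inv_rev, hcu.inv_right.inv_left.eq]
      have e5 : y * (c⁻¹) ^ m * y⁻¹ = (c⁻¹) ^ m := by
        have : Commute y ((c⁻¹) ^ m) := (hcy.symm.inv_right).pow_right m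
        rw [this.eq, mul_inv_cancel_right]
      calc y ^ (m + 1) * u⁻¹ * (y ^ (m + 1))⁻¹ = y * (y ^ m * u⁻¹ * (y ^ m)⁻¹) * y⁻¹ := by
            rw [pow_succ']
            group
        _ = (y * (c⁻¹) ^ m * y⁻¹) * (y * u⁻¹ * y⁻¹) := by
            rw [ih]
            group
        _ = (c⁻¹) ^ (m + 1) * u⁻¹ := by
            rw [e3, e5, pow_succ]
            group
  have hfcc : f c = (c⁻¹) ^ k := by
    have e0 : f c = ⁅f y, f u⁆ := hf.comm hyN huN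
    rw [e0, hfu, e1, comm_mul_left]
    have e2 : ⁅e, u⁻¹⁆ = 1 := by
      apply comm_eq_one
      exact (W_central h h5 hE hG hk ((Q u _).inv_mem huN)).symm
    have e3 : ⁅y ^ k, u⁻¹⁆ ∈ Q u (n - 3) := by
      have : ⁅y ^ k, u⁻¹⁆ = (y ^ k * u⁻¹ * (y ^ k)⁻¹) * u := by
        rw [commutatorElement_def]
        group
      rw [this]
      exact (Q u _).mul_mem ((Q u _).mul_mem ((Q u _).mul_mem ((Q u _).pow_mem hyN k) ((Q u _).inv_mem huN))
        ((Q u _).inv_mem ((Q u _).pow_mem hyN k))) huN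
    have e4 : e * ⁅y ^ k, u⁻¹⁆ * e⁻¹ = ⁅y ^ k, u⁻¹⁆ := by
      rw [(W_central h h5 hE hG hk e3).symm, mul_inv_cancel_right]
    rw [e2, mul_one, e4, commutatorElement_def, hconj k]
    group
  rw [hfc] at hfcc
  have hk0 : k ≠ 0 := by
    rintro rfl
    rw [pow_zero, inv_eq_one] at hfcc
    exact hc1 hfcc
  have hdvd : p ∣ k - 1 := by
    have h1 : c ^ (k - 1) = 1 := by
      have h2 : c ^ k = c := by
        have := congrArg (fun z => z⁻¹) hfcc
        simp only [inv_inv, inv_pow] at this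
        exact this.symm
      have h3 : c ^ (k - 1) * c = c := by
        rw [← pow_succ, show k - 1 + 1 = k by omega, h2]
      simpa using h3
    have hord : orderOf c = p := orderOf_eq_prime hcp hc1
    rw [← hord]
    exact orderOf_dvd_of_pow_eq_one h1
  obtain ⟨m, hm⟩ := hdvd
  have hyp : y ^ p ∈ E ⊓ Φ 2 := pow_p_mem_of_abelian h hW hAb hy (card_A h h5 hE hG)
  have e5 : f y * y⁻¹ = e * (y ^ p) ^ m := by
    have e6 : y ^ k = y * (y ^ p) ^ m := by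
      rw [← pow_mul, ← hm, ← pow_succ', show k - 1 + 1 = k by omega]
    rw [e1, e6]
    have : Commute y ((y ^ p) ^ m) := by
      rw [← pow_mul]
      exact Commute.pow_right (Commute.refl y) _
    rw [this.eq, ← mul_assoc, mul_inv_cancel_right]
  rw [e5]
  exact (E ⊓ Φ 2).mul_mem hk ((E ⊓ Φ 2).pow_mem hyp m)

omit h5 hE hG in
/-- The last term of the filtration is generated by any nontrivial element. -/
theorem top_zpowers {c x : G} (hc : c ∈ Φ (n - 1)) (hc1 : c ≠ 1) (hx : x ∈ Φ (n - 1)) : x ∈ zpowers c := by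
  have h3 := h.three
  have hbot := h.bot
  have hW : W (n - 1) c := ⟨hc, by
    rw [show n - 1 + 1 = n by omega, hbot, mem_bot]
    exact hc1⟩
  obtain ⟨m, hm⟩ := h.exists_pow (by omega) (by omega) hW hx
  rw [show n - 1 + 1 = n by omega, hbot, mem_bot] at hm
  have e1 : x = c ^ m := eq_of_mul_inv_eq_one hm
  rw [e1]
  exact (zpowers c).pow_mem (mem_zpowers c) m

omit h5 hE hG in
/-- `Φ (n - 1)` is central. -/
theorem top_central {g x : G} (hx : x ∈ Φ (n - 1)) : ⁅g, x⁆ = 1 := by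
  have h3 := h.three
  have h1 : ⁅g, x⁆ ∈ Φ n := comm_succ g hx |> fun h2 => by rwa [show n - 1 + 1 = n by omega] at h2
  rwa [h.bot, mem_bot] at h1

omit h5 hE hG in
/-- Automorphisms preserve the filtration. -/
theorem invar_top {f : G → G} (hf : PH (⊤ : Subgroup G) f) : ∀ k, ∀ x ∈ Φ k, f x ∈ Φ k := by
  intro k x hx
  let F : G →* G := MonoidHom.mk' f (fun a b => hf.mul a (mem_top a) b (mem_top b))
  have hs : Function.Surjective F := by
    intro y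
    obtain ⟨x, -, e⟩ := hf.surj (fun x _ => mem_top _) (mem_top y)
    exact ⟨x, e⟩
  have := lcsF_map F hs k
  rw [← this]
  exact ⟨x, hx, rfl⟩

end

section tower

variable (S : Sys G) (h : MC p n G) (h5 : 5 ≤ n) (hodd : p ≠ 2) {E : Subgroup G} (hE : EE p E) (hFN : FN S E)
  (hcent : ∀ f B, S.Mp E f → IsImg E f B → ∀ g : G, (∀ a ∈ B, g * a = a * g) → g ∈ B)
  {u c w y : G} {f₀ : G → G} (hG : Good n E u) (hf₀ : S.Mp E f₀) (hcW : c ∈ E ⊓ lcsF G 2) (hwW : w ∈ E ⊓ lcsF G 2)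
  (hfu : f₀ u = u⁻¹) (hfc : f₀ c = c⁻¹) (hfw : f₀ w = w) (hy : y ∈ lcsF G (n - 3)) (hyE : y ∉ E) (hyc : ⁅y, u⁆ = c)
  (hgen : ∀ x ∈ E ⊓ lcsF G 2, ∃ i j : ℕ, x = c ^ i * w ^ j)

include h h5 hE hG hf₀ hcW hwW hfu hfc hfw hgen

/-- `f₀` on `E ∩ Φ 2`. -/
theorem f0_W : ∀ x ∈ E ⊓ Φ 2, f₀ x ∈ E ⊓ Φ 2 := by
  have hph := S.ph hf₀
  intro x hx
  obtain ⟨i, j, rfl⟩ := hgen x hx
  rw [hph.mul _ (E.pow_mem hcW.1 i) _ (E.pow_mem hwW.1 j), hph.pow hcW.1, hph.pow hwW.1, hfc, hfw]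
  exact (E ⊓ Φ 2).mul_mem ((E ⊓ Φ 2).pow_mem ((E ⊓ Φ 2).inv_mem hcW) i) ((E ⊓ Φ 2).pow_mem hwW j)

/-- `f₀` on `E`. -/
theorem f0_E : ∀ x ∈ E, f₀ x ∈ E := by
  have hph := S.ph hf₀
  intro x hx
  obtain ⟨k, z, hz, rfl⟩ := exists_decomp h h5 hE hG.mem hG.not2 hx
  rw [hph.mul _ (E.pow_mem hG.mem k) _ hz.1, hph.pow hG.mem, hfu]
  exact E.mul_mem (E.pow_mem (E.inv_mem hG.mem) k) (f0_W S h h5 hE hG hf₀ hcW hwW hfu hfc hfw hgen z hz).1

include hFN in
/-- **The first extension.** -/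
theorem stage_N : ∃ f₁, S.Mp (Q u (n - 3)) f₁ ∧ (∀ x ∈ E, f₁ x = f₀ x) ∧ (∀ x ∈ Q u (n - 3), f₁ x ∈ Q u (n - 3)) := by
  have hph := S.ph hf₀
  have hW0 := f0_W S h h5 hE hG hf₀ hcW hwW hfu hfc hfw hgen
  have hE0 := f0_E S h h5 hE hG hf₀ hcW hwW hfu hfc hfw hgen
  have hZ : zpowers c ≤ E ⊓ Φ 2 := (zpowers_le).2 hcW
  have hN : ∀ {g : G}, g ∈ normalizer (E : Set G) → g ∈ Q u (n - 3) := fun hg => hG.norm ▸ hg
  obtain ⟨f₁, hf₁, e₁⟩ := ext4 S hFN hf₀ hE0 (a := E) (b := E ⊓ Φ 2) (c := zpowers c) (d := ⊥) inf_le_left hZ bot_le hW0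
    (by
      intro x hx
      obtain ⟨k, rfl⟩ := hx
      show f₀ (c ^ k) ∈ zpowers c
      have hzp : ∀ k : ℤ, f₀ (c ^ k) = (c⁻¹) ^ k := by
        intro k
        cases k with
        | ofNat m =>
          simp only [Int.ofNat_eq_natCast, zpow_natCast]
          rw [hph.pow hcW.1, hfc]
        | negSucc m =>
          rw [zpow_negSucc, zpow_negSucc, hph.inv (E.pow_mem hcW.1 _), hph.pow hcW.1, hfc]
      rw [hzp]
      exact (zpowers c).zpow_mem ((zpowers c).inv_mem (mem_zpowers c)) k)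
    (by
      intro x hx
      have hx1 : x = 1 := hx
      rw [hx1, hph.one]
      exact one_mem _)
    (by
      intro g hg x hx
      refine ⟨?_, cm' (mem_one g) (mem_one x) (by omega)⟩
      have h1 := (mem_normalizer_iff.1 hg x).1 hx
      have e : ⁅g, x⁆ = (g * x * g⁻¹) * x⁻¹ := rfl
      rw [e]
      exact E.mul_mem h1 (E.inv_mem hx))
    (by
      intro g hg x hx
      rw [comm_eq_one (W_central h h5 hE hG hx (hN hg))]
      exact one_mem _)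
    (by
      intro g hg x hx
      rw [comm_eq_one (W_central h h5 hE hG (hZ hx) (hN hg))]
      exact one_mem _)
    (by
      intro g hg x hx
      have hx1 : x = 1 := hx
      rw [hx1, commutatorElement_one_right])
  rw [hG.norm] at hf₁
  have hEN : E ≤ Q u (n - 3) := by
    rw [← hG.norm]
    exact Subgroup.le_normalizer
  have hph₁ := S.ph hf₁
  have hI : IsImg E f₁ E := isImg_self hph₁ hEN (fun x hx => by rw [e₁ x hx]; exact hE0 x hx)
  refine ⟨f₁, hf₁, e₁, ?_⟩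
  intro x hx
  rw [← hG.norm]
  exact map_normalizer hph₁ hEN hI hx (by rw [hG.norm]; exact hx)

include hFN in
/-- **Invariance of `Φ (n - 3)`.** -/
theorem stage_A {f₁ : G → G} (hf₁ : S.Mp (Q u (n - 3)) f₁) (he₁ : ∀ x ∈ E, f₁ x = f₀ x)
    (hN₁ : ∀ x ∈ Q u (n - 3), f₁ x ∈ Q u (n - 3)) : ∀ x ∈ Φ (n - 3), f₁ x ∈ Φ (n - 3) := by
  have hW0 := f0_W S h h5 hE hG hf₀ hcW hwW hfu hfc hfw hgen
  refine A_invariant h h5 hE hG (S.ph hf₁) hN₁ (fun x hx => by rw [he₁ x hx.1]; exact hW0 x hx) ?_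
  intro g hg
  -- `Φ (n - 3)` would be conjugate to `E`
  have hle : Φ (n - 3) ≤ Q u (n - 3) := phi_le_Q u _
  have hM : S.Mp (Φ (n - 3)) (fun x => g⁻¹ * f₁ x * g) := by
    have h1 := S.comp (S.res hle hf₁) (B := ⊤) (fun x _ => mem_top _) (S.conj ⊤ g⁻¹)
    refine S.congr h1 (fun x _ => ?_)
    simp
  have hI : IsImg (Φ (n - 3)) (fun x => g⁻¹ * f₁ x * g) E :=
    isImg_of_card (S.ph hM) le_rfl hg (by
      rw [hE.card, h.card_Phi (by omega) (by omega), show n - (n - 3) = 3 by omega])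
  obtain ⟨f', hf', hI'⟩ := S.symm hM hI
  have h1 := hFN f' _ hf' hI'
  rw [hE.norm, (Subgroup.normalizer_eq_top_iff (H := Φ (n - 3))).2 (Phi_normal _), Subgroup.card_top, h.card] at h1
  have := (Nat.pow_le_pow_iff_right hp.out.one_lt).1 h1
  omega

end tower

end Cfsg.Agent.Lib.MCEss.Tower2
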