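import Cfsg.Agent.Lib.MCEss.Tower2

/-!
# The tower of extensions: scenario A
-/

set_option autoImplicit false
set_option linter.unusedSectionVars false

namespace Cfsg.Agent.Lib.MCEss.Tower3

open Subgroup Cfsg.Agent.Lib.FG7.HallPetrescu Cfsg.Agent.Lib.PGroups.UniformShift
open Cfsg.Agent.Lib.PGroups.MaxAbelian Cfsg.Agent.Lib.FGStruct.UnifZ Cfsg.Agent.Lib.FGStruct.MCBlack
open Cfsg.Agent.Lib.MCEss.Graded Cfsg.Agent.Lib.MCEss.Numeric Cfsg.Agent.Lib.MCEss.Const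
open Cfsg.Agent.Lib.MCEss.Basic Cfsg.Agent.Lib.MCEss.Struct Cfsg.Agent.Lib.MCEss.Struct2
open Cfsg.Agent.Lib.MCEss.Signs Cfsg.Agent.Lib.MCEss.Tower Cfsg.Agent.Lib.MCEss.Tower2
open scoped commutatorElement

universe u

variable {G : Type u} [Group G] [Finite G] {p : ℕ} [hp : Fact p.Prime] {n : ℕ}

local notation "Φ" => lcsF G

section tower

variable (S : Sys G) (h : MC p n G) (h5 : 5 ≤ n) (hodd : p ≠ 2) {E : Subgroup G} (hE : EE p E) (hFN : FN S E)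
  (hcent : ∀ f B, S.Mp E f → IsImg E f B → ∀ g : G, (∀ a ∈ B, g * a = a * g) → g ∈ B)
  {u c w y : G} {f₀ : G → G} (hG : Good n E u) (hf₀ : S.Mp E f₀) (hcW : c ∈ E ⊓ lcsF G 2) (hwW : w ∈ E ⊓ lcsF G 2)
  (hfu : f₀ u = u⁻¹) (hfc : f₀ c = c⁻¹) (hfw : f₀ w = w) (hy : y ∈ lcsF G (n - 3)) (hyE : y ∉ E) (hyc : ⁅y, u⁆ = c)
  (hgen : ∀ x ∈ E ⊓ lcsF G 2, ∃ i j : ℕ, x = c ^ i * w ^ j)

include h h5 hE hG hf₀ hcW hwW hfu hfc hfw hgen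

/-- `w` is not in the last term, in the presence of `c`. -/
theorem w_not_top {u' : G} (hu'E : u' ∈ E) (hu'2 : u' ∉ Φ 2) (hc : c ∈ Φ (n - 1)) : w ∉ Φ (n - 1) := by
  intro hw
  have h1 : E ⊓ Φ 2 ≤ Φ (n - 1) := by
    intro x hx
    obtain ⟨i, j, rfl⟩ := hgen x hx
    exact (Φ (n - 1)).mul_mem ((Φ (n - 1)).pow_mem hc i) ((Φ (n - 1)).pow_mem hw j)
  have h2 := Subgroup.card_le_of_le h1
  rw [card_inf h h5 hE hu'E hu'2, h.card_Phi (by omega) (by omega), show n - (n - 1) = 1 by omega] at h2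
  exact absurd h2 (not_le.2 (Nat.pow_lt_pow_right hp.out.one_lt (by omega)))

include hFN hodd hy hyE hyc in
/-- **Scenario A for `n = 5`.** -/
theorem scenA5 (hn : n = 5) (hA : ScenA n E u) : False := by
  subst hn
  have hup := hE.exp u hG.mem
  have hW0 := f0_W S h h5 hE hG hf₀ hcW hwW hfu hfc hfw hgen
  obtain ⟨f₁, hf₁, e₁, hN₁⟩ := stage_N S h h5 hE hFN hG hf₀ hcW hwW hfu hfc hfw hgen
  have hA₁ := stage_A S h h5 hE hFN hG hf₀ hcW hwW hfu hfc hfw hgen hf₁ e₁ hN₁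
  have hc1 : c ≠ 1 := by
    rw [← hyc]
    exact c_ne_one h h5 hE hG hy hyE
  have hc4 : c ∈ Φ 4 := by
    rw [← hyc]
    exact hA.comm y hy
  have hph₀ := S.ph hf₀
  have hZ : zpowers c ≤ E ⊓ Φ 2 := (zpowers_le).2 hcW
  have hZ4 : ∀ x ∈ zpowers c, x ∈ Φ 4 := fun x hx => (zpowers_le).2 hc4 hx
  have hfc₁ : f₁ c = c⁻¹ := by rw [e₁ c hcW.1, hfc]
  have hfu₁ : f₁ u = u⁻¹ := by rw [e₁ u hG.mem, hfu]
  have hfw₁ : f₁ w = w := by rw [e₁ w hwW.1, hfw]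
  have hph₁ := S.ph hf₁
  have hN2 : ∀ x ∈ Q u (5 - 3), x ∈ Q u 2 := fun x hx => hx
  have hfn : FN S (Q u (5 - 3)) := fn_of_normal S (Q2_normal u)
  obtain ⟨f₂, hf₂, e₂⟩ := ext4 S hfn hf₁ hN₁ (a := Q u (5 - 3)) (b := Φ (5 - 3)) (c := E ⊓ Φ 2) (d := zpowers c) (phi_le_Q u _)
    (W_le hG) hZ hA₁ (fun x hx => by rw [e₁ x hx.1]; exact hW0 x hx)
    (by
      intro x hx
      have hzp : ∀ k : ℕ, f₁ (c ^ k) = (c⁻¹) ^ k := fun k => by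
        rw [hph₁.pow (phi_le_Q u _ (W_le hG hcW)), hfc₁]
      rw [← mem_powers_iff_mem_zpowers] at hx
      obtain ⟨k, rfl⟩ := hx
      rw [hzp]
      exact (zpowers c).pow_mem ((zpowers c).inv_mem (mem_zpowers c)) k)
    (by
      intro g _ x _
      exact cm' (mem_one g) (mem_one x) (by omega))
    (by
      intro g _ x hx
      exact ⟨hG.T g (mem_one g) x hx, cm' (mem_one g) (Phi_anti (by omega : 1 ≤ 5 - 3) hx) (by omega)⟩)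
    (by
      intro g _ x hx
      have h3 := hA.W3 x hx.1 hx.2
      exact top_zpowers h hc4 hc1 (cm' (mem_one g) h3 (by omega)))
    (by
      intro g _ x hx
      exact top_central h (hZ4 x hx))
  have hnt : normalizer ((Q u (5 - 3) : Subgroup G) : Set G) = ⊤ := (Subgroup.normalizer_eq_top_iff).2 (Q2_normal u)
  rw [hnt] at hf₂
  have hph₂ := S.ph hf₂
  have hinv := invar_top h hph₂
  obtain ⟨F, -⟩ := exists_fr h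
  have huQ := u_mem_Q u (5 - 3)
  have hcQ : c ∈ Q u (5 - 3) := phi_le_Q u _ (W_le hG hcW)
  have hwQ : w ∈ Q u (5 - 3) := phi_le_Q u _ (W_le hG hwW)
  -- `u` centralizes `Φ 3`
  have h3E : E ⊓ Φ 2 = Φ 3 := by
    apply Subgroup.eq_of_le_of_card_ge (show E ⊓ Φ 2 ≤ Φ 3 from fun x hx => hA.W3 x hx.1 hx.2)
    rw [h.card_Phi (by omega) (by omega), card_inf h h5 hE hG.mem hG.not2]
  have hM3 : u ∈ Mj 3 := by
    rw [mem_Mj]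
    intro x hx
    rw [← h3E] at hx
    rw [comm_eq_one (hE.comm x hx.1 u hG.mem)]
    exact one_mem _
  have hw3 : w ∈ Φ 3 := hA.W3 w hwW.1 hwW.2
  have hw4 : w ∉ Φ 4 := w_not_top S h h5 hE hG hf₀ hcW hwW hfu hfc hfw hgen hG.mem hG.not2 hc4
  exact sa_five F hodd rfl hph₂ hinv (by rw [e₂ u huQ, hfu₁]) hup hG.not2 hA.Gam hM3 ⟨hw3, hw4⟩
    (by rw [e₂ w hwQ, hfw₁]) hc4 (by
      rw [h.bot, mem_bot]
      exact hc1) (by rw [e₂ c hcQ, hfc₁])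

omit hG hf₀ hcW hwW hfu hfc hfw hgen h5 hE in
omit h in
/-- Invariance of a term of the filtration from one generator. -/
theorem inv_of_gen (h : MC p n G) {f : G → G} {A : Subgroup G} {j : ℕ} (hj : 2 ≤ j) (hjn : j < n) (hA : Φ j ≤ A) (hph : PH A f)
    {a : G} (ha : W j a) (hfa : f a ∈ Φ j) (hf1 : ∀ x ∈ Φ (j + 1), f x ∈ Φ (j + 1)) : ∀ x ∈ Φ j, f x ∈ Φ j := by
  intro x hx
  obtain ⟨m, hm⟩ := h.exists_pow hj hjn ha hx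
  have e1 : x = (x * (a ^ m)⁻¹) * a ^ m := by group
  rw [e1, hph.mul _ (hA (Phi_anti (Nat.le_succ j) hm)) _ (hA ((Φ j).pow_mem ha.1 m)), hph.pow (hA ha.1)]
  exact (Φ j).mul_mem (Phi_anti (Nat.le_succ j) (hf1 _ hm)) ((Φ j).pow_mem hfa m)

omit hG hf₀ hcW hwW hfu hfc hfw hgen h5 hE h in
/-- An expansion of a commutator with `u⁻¹`. -/
theorem comm_inv_expand (u z' : G) (b : ℕ) : ⁅u ^ b * z', u⁻¹⁆ = u ^ b * (u⁻¹ * ⁅z', u⁆⁻¹ * u⁻¹⁻¹) * (u ^ b)⁻¹ := by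
  rw [comm_mul_left]
  have e2 : ⁅u ^ b, u⁻¹⁆ = 1 :=
    commutatorElement_eq_one_iff_mul_comm.2 ((Commute.refl u).inv_right.pow_left b)
  rw [e2, mul_one, commutatorElement_inv, commutatorElement_def, commutatorElement_def]
  group

omit hG hf₀ hcW hwW hfu hfc hfw hgen h5 hE h in
/-- The step for the scalar on `Φ 2`. -/
theorem gamma_step (F : Fr G p n) (hodd : p ≠ 2) {f : G → G} {u : G} (hup : u ^ p = 1) (hu2 : u ∉ Φ 2) (hph : PH (Q u 2) f)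
    (hfQ : ∀ x ∈ Q u 2, f x ∈ Q u 2) (hf3 : ∀ x ∈ Φ 3, f x ∈ Φ 3) (hfu : f u = u⁻¹) {k : ℕ} (hk : k.Coprime p)
    (hkf : ∀ x ∈ Q u 2, f^[k] x = x) {j₀ : ℕ} (hj : 2 ≤ j₀) (hjn : j₀ < n) (h2 : ∀ a ∈ Φ 2, ⁅a, u⁆ ∈ Φ j₀)
    (h3 : ∀ a ∈ Φ 3, ⁅a, u⁆ ∈ Φ (j₀ + 1)) (hx : ⁅F.x 2, u⁆ ∉ Φ (j₀ + 1)) (hinv0 : ∀ x ∈ Φ j₀, f x ∈ Φ j₀)
    (hinv1 : ∀ x ∈ Φ (j₀ + 1), f x ∈ Φ (j₀ + 1)) (hμ : cf F j₀ (f (F.x j₀)) = 1) :
    f (F.x 2) ∈ Φ 2 ∧ cf F 2 (f (F.x 2)) = -1 := by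
  have hn3 : 3 ≤ n := F.mc.three
  have hW2 := F.hW 2 le_rfl (by omega)
  obtain ⟨b, z', hz', e⟩ := (mem_Q_iff hup).1 (hfQ _ (phi_le_Q u 2 hW2.1))
  have h1 := mu_minus F hj hjn h2 h3 hx hph hfu hinv0 hinv1 hμ e hz'
  have hz'' : F.x 2 * z' ∈ Φ 3 := by
    apply mem_of_cf_eq_zero F le_rfl (by omega) ((Φ 2).mul_mem hW2.1 hz')
    rw [cf_mul F le_rfl (by omega) hW2.1 hz', cf_self F le_rfl (by omega), h1]
    ring
  have e2 : f (F.x 2) = u ^ b * (F.x 2)⁻¹ * (F.x 2 * z') := by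
    rw [e]
    group
  have hdvd := minus_I hodd hup hu2 hph hfQ hf3 hfu hW2.1 hz'' e2 hk hkf
  rw [pow_eq_one_of_dvd hup hdvd, one_mul] at e
  rw [e]
  exact ⟨hz', h1⟩

include hFN hodd hy hyE hyc hcent in
/-- **Scenario A for `n = 6`.** -/
theorem scenA6 (hn : n = 6) (hA : ScenA n E u) (hy2 : y ∈ Φ 4) : False := by
  subst hn
  have hup := hE.exp u hG.mem
  have hu2 := hG.not2
  have hW0 := f0_W S h h5 hE hG hf₀ hcW hwW hfu hfc hfw hgen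
  obtain ⟨f₁, hf₁, e₁, hN₁⟩ := stage_N S h h5 hE hFN hG hf₀ hcW hwW hfu hfc hfw hgen
  have hA₁ := stage_A S h h5 hE hFN hG hf₀ hcW hwW hfu hfc hfw hgen hf₁ e₁ hN₁
  replace hf₁ : S.Mp (Q u 3) f₁ := hf₁
  replace hN₁ : ∀ x ∈ Q u 3, f₁ x ∈ Q u 3 := hN₁
  replace hA₁ : ∀ x ∈ Φ 3, f₁ x ∈ Φ 3 := hA₁
  have hW : E ⊓ Φ 2 ≤ Φ 3 := W_le hG
  have hc1 : c ≠ 1 := by
    rw [← hyc]
    exact c_ne_one h h5 hE hG hy hyE
  have hc5 : c ∈ Φ 5 := by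
    rw [← hyc]
    exact hA.comm y hy
  have hZ : zpowers c ≤ E ⊓ Φ 2 := (zpowers_le).2 hcW
  have hZ5 : ∀ x ∈ zpowers c, x ∈ Φ 5 := fun x hx => (zpowers_le).2 hc5 hx
  have hfc₁ : f₁ c = c⁻¹ := by rw [e₁ c hcW.1, hfc]
  have hfu₁ : f₁ u = u⁻¹ := by rw [e₁ u hG.mem, hfu]
  have hfw₁ : f₁ w = w := by rw [e₁ w hwW.1, hfw]
  have hph₁ := S.ph hf₁
  have hQ32 : normalizer ((Q u 3 : Subgroup G) : Set G) = Q u 2 := by
    rw [normalizer_Q hup hu2 (by omega)]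
    exact K_three h (by omega) hu2
  have hfn : FN S (Q u 3) := fn_Q S h h5 hE hFN hcent hG (j := 3) le_rfl (by omega) hodd
  have hcQ : c ∈ Q u 3 := phi_le_Q u _ (hW hcW)
  have hwQ : w ∈ Q u 3 := phi_le_Q u _ (hW hwW)
  have huQ := u_mem_Q u 3
  obtain ⟨f₂, hf₂, e₂⟩ := ext4 S hfn hf₁ hN₁ (a := Q u 3) (b := Φ 3) (c := E ⊓ Φ 2) (d := zpowers c) (phi_le_Q u _)
    hW hZ hA₁ (fun x hx => by rw [e₁ x hx.1]; exact hW0 x hx)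
    (by
      intro x hx
      have hzp : ∀ k : ℕ, f₁ (c ^ k) = (c⁻¹) ^ k := fun k => by
        rw [hph₁.pow hcQ, hfc₁]
      rw [← mem_powers_iff_mem_zpowers] at hx
      obtain ⟨k, rfl⟩ := hx
      rw [hzp]
      exact (zpowers c).pow_mem ((zpowers c).inv_mem (mem_zpowers c)) k)
    (fun g hg x hx => comm_mem_of_norm hup hu2 (by omega) hg hx)
    (by
      intro g hg x hx
      rw [hQ32] at hg
      exact comm_A h h5 hE hG (g := g) hg hx)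
    (by
      intro g hg x hx
      rw [hQ32] at hg
      obtain ⟨k, z, hz, rfl⟩ := (mem_Q_iff hup).1 hg
      rw [comm_mul_left]
      have h00 : Commute u x := hE.comm u hG.mem x hx.1
      have e1 : ⁅u ^ k, x⁆ = 1 := comm_eq_one (h00.pow_left k).eq
      rw [e1, mul_one]
      have h3 : ⁅z, x⁆ ∈ Φ 5 := cm' hz (hA.W3 x hx.1 hx.2) (by omega)
      exact top_zpowers h hc5 hc1 ((Phi_normal 5).conj_mem _ h3 _))
    (fun g _ x hx => top_central h (hZ5 x hx))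
  rw [hQ32] at hf₂
  have hph₂ := S.ph hf₂
  have h32 : Q u 3 ≤ Q u 2 := Q_anti u (by omega)
  have hΓ : ∀ x ∈ Q u 2, f₂ x ∈ Q u 2 := by
    intro x hx
    have hI : IsImg (Q u 3) f₂ (Q u 3) := isImg_self hph₂ h32 (fun x hx => by rw [e₂ x hx]; exact hN₁ x hx)
    have := map_normalizer hph₂ h32 hI hx (by rw [hQ32]; exact hx)
    rwa [hQ32] at this
  have hfu₂ : f₂ u = u⁻¹ := by rw [e₂ u huQ, hfu₁]
  have hfc₂ : f₂ c = c⁻¹ := by rw [e₂ c hcQ, hfc₁]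
  have hfw₂ : f₂ w = w := by rw [e₂ w hwQ, hfw₁]
  have huQ2 := u_mem_Q u 2
  have hfu₂' : f₂ u⁻¹ = u := by rw [hph₂.inv huQ2, hfu₂, inv_inv]
  have hcQ2 := h32 hcQ
  have hfc₂' : f₂ c⁻¹ = c := by rw [hph₂.inv hcQ2, hfc₂, inv_inv]
  have h3₂ : ∀ x ∈ Φ 3, f₂ x ∈ Φ 3 := fun x hx => by
    rw [e₂ x (phi_le_Q u _ hx)]
    exact hA₁ x hx
  have hW₂ : ∀ x ∈ E ⊓ Φ 2, f₂ x ∈ E ⊓ Φ 2 := fun x hx => by
    rw [e₂ x (phi_le_Q u _ (hW hx)), e₁ x hx.1]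
    exact hW0 x hx
  obtain ⟨a, k, hk, hkf⟩ := exists_iter (p := p) hph₂ hΓ
  have hoddm : Odd (p ^ a) := (hp.out.odd_of_ne_two hodd).pow
  set f₃ := f₂^[p ^ a] with hf₃def
  have hf₃ : S.Mp (Q u 2) f₃ := iter_mp S hf₂ hΓ _
  have hph₃ := S.ph hf₃
  have hΓ₃ : ∀ x ∈ Q u 2, f₃ x ∈ Q u 2 := iter_mem hΓ _
  have hu₃ : f₃ u = u⁻¹ := iter_odd hfu₂ hfu₂' hoddm
  have hc₃ : f₃ c = c⁻¹ := iter_odd hfc₂ hfc₂' hoddm
  have hw₃ : f₃ w = w := Function.iterate_fixed hfw₂ _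
  have h3₃ : ∀ x ∈ Φ 3, f₃ x ∈ Φ 3 := iter_mem h3₂ _
  have hup' := hup
  -- the element `y`
  have hy3 : y ∈ Φ 3 := hy
  have hyf : f₃ y * y⁻¹ ∈ E ⊓ Φ 2 :=
    y_fixed h h5 hE hG (f := f₃) (hph₃.mono h32) h3₃ hu₃ hy hyE (by rw [hyc, hc₃])
  obtain ⟨F, -⟩ := exists_fr h
  have hW2 := F.hW 2 le_rfl (by omega)
  -- the invariance of `Φ 5` and `Φ 4`
  have h5₃ : ∀ x ∈ Φ 5, f₃ x ∈ Φ 5 := by
    refine inv_of_gen h (j := 5) (by omega) (by omega) ((Phi_anti (by omega)).trans (phi_le_Q u 2)) hph₃ (a := c)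
      ⟨hc5, ?_⟩ ?_ ?_
    · rw [h.bot, mem_bot]
      exact hc1
    · rw [hc₃]
      exact (Φ 5).inv_mem hc5
    · intro x hx
      rw [h.bot, mem_bot] at hx
      rw [hx, hph₃.one]
      exact one_mem _
  have hv4 : ⁅F.x 2, u⁆ ∈ Φ 4 := mem_Mj.1 hA.Gam _ hW2.1
  have hv5 : ⁅F.x 2, u⁆ ∉ Φ 5 := by
    intro h1
    have h2 : F.x 2 ∈ K 5 u := mem_K.2 h1
    rw [hA.K5 rfl] at h2
    exact hW2.2 (mem_of_mem_Q hup hu2 (by omega) h2 hW2.1)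
  have h2M : ∀ a ∈ Φ 2, ⁅a, u⁆ ∈ Φ 4 := fun a ha => mem_Mj.1 hA.Gam _ ha
  have hfv : f₃ ⁅F.x 2, u⁆ ∈ Φ 4 := by
    rw [hph₃.comm (phi_le_Q u 2 hW2.1) huQ2, hu₃]
    obtain ⟨b, z', hz', e⟩ := (mem_Q_iff hup).1 (hΓ₃ _ (phi_le_Q u 2 hW2.1))
    rw [e, comm_inv_expand]
    have h1 := (Φ 4).inv_mem (h2M z' hz')
    exact (Phi_normal 4).conj_mem _ ((Phi_normal 4).conj_mem _ h1 _) _
  have h4₃ : ∀ x ∈ Φ 4, f₃ x ∈ Φ 4 :=
    inv_of_gen h (j := 4) (by omega) (by omega) ((Phi_anti (by omega)).trans (phi_le_Q u 2)) hph₃ (a := ⁅F.x 2, u⁆)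
      ⟨hv4, hv5⟩ hfv h5₃
  have hy5 : y ∉ Φ 5 := fun h1 => hyE (Z1_le h hE h1)
  have hμ : cf F 4 (f₃ (F.x 4)) = 1 := by
    refine scalar_of_fix F (j := 4) (by omega) (by omega) ((Phi_anti (by omega)).trans (phi_le_Q u 2)) hph₃ h4₃ h5₃ hy2 hy5 ?_
    exact hA.W4 _ hyf.1 ((Φ 4).mul_mem (h4₃ y hy2) ((Φ 4).inv_mem hy2))
  have hkey := gamma_step F hodd hup hu2 hph₃ hΓ₃ h3₃ hu₃ hk hkf (j₀ := 4) (by omega) (by omega) h2M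
    (fun a ha => mem_Mj.1 (Mj_const h h5 hodd hA.Gam (j := 3) (by omega) (by omega)) _ ha) hv5 h4₃ h5₃ hμ
  have h2₃ : ∀ x ∈ Φ 2, f₃ x ∈ Φ 2 :=
    inv_of_gen h (j := 2) le_rfl (by omega) (phi_le_Q u 2) hph₃ hW2 hkey.1 h3₃
  obtain ⟨f₄, hf₄, e₄⟩ := ext_Q S (j := 2) (M := 5) (fn_of_normal S (Q2_normal u)) hup hu2 le_rfl hf₃ hΓ₃ (by omega)
    (by
      intro k hk1 hk2
      interval_cases k
      · exact h2₃
      · exact h3₃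
      · exact h4₃
      · exact h5₃)
    (fun g _ x hx => top_central h hx)
  have hnt : normalizer ((Q u 2 : Subgroup G) : Set G) = ⊤ := (Subgroup.normalizer_eq_top_iff).2 (Q2_normal u)
  rw [hnt] at hf₄
  have hph₄ := S.ph hf₄
  have hw3 : w ∈ Φ 3 := hA.W3 w hwW.1 hwW.2
  have hw4 : w ∉ Φ 4 := by
    intro h1
    exact w_not_top S h h5 hE hG hf₀ hcW hwW hfu hfc hfw hgen hG.mem hu2 hc5 (hA.W4 w hwW.1 h1)
  exact sa_six F hodd h5 hph₄ (invar_top h hph₄) (by rw [e₄ u huQ2, hu₃]) hup hu2 hA.Gam ⟨hw3, hw4⟩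
    (by rw [e₄ w (phi_le_Q u 2 hwW.2), hw₃]) (by rw [e₄ _ (phi_le_Q u 2 hW2.1), hkey.2])

end tower

end Cfsg.Agent.Lib.MCEss.Tower3
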