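import Cfsg.Agent.Lib.MCEss.Tower3

/-!
# The tower of extensions: scenario B, and the theorem
-/

set_option autoImplicit false
set_option linter.unusedSectionVars false

namespace Cfsg.Agent.Lib.MCEss.Tower4

open Subgroup Cfsg.Agent.Lib.FG7.HallPetrescu Cfsg.Agent.Lib.PGroups.UniformShift
open Cfsg.Agent.Lib.PGroups.MaxAbelian Cfsg.Agent.Lib.FGStruct.UnifZ Cfsg.Agent.Lib.FGStruct.MCBlack
open Cfsg.Agent.Lib.MCEss.Graded Cfsg.Agent.Lib.MCEss.Numeric Cfsg.Agent.Lib.MCEss.Const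
open Cfsg.Agent.Lib.MCEss.Basic Cfsg.Agent.Lib.MCEss.Struct Cfsg.Agent.Lib.MCEss.Struct2
open Cfsg.Agent.Lib.MCEss.Signs Cfsg.Agent.Lib.MCEss.Tower Cfsg.Agent.Lib.MCEss.Tower2 Cfsg.Agent.Lib.MCEss.Tower3
open scoped commutatorElement

universe u

variable {G : Type u} [Group G] [Finite G] {p : ℕ} [hp : Fact p.Prime] {n : ℕ}

local notation "Φ" => lcsF G

section tower

variable (S : Sys G) (h : MC p n G) (h5 : 5 ≤ n) (hodd : p ≠ 2) {E : Subgroup G} (hE : EE p E) (hFN : FN S E)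
  (hcent : ∀ f B, S.Mp E f → IsImg E f B → ∀ g : G, (∀ a ∈ B, g * a = a * g) → g ∈ B)
  {u c w y : G} {f₀ : G → G} (hG : Good n E u) (hf₀ : S.Mp E f₀) (hcW : c ∈ E ⊓ lcsF G 2) (hwW : w ∈ E ⊓ lcsF G 2)
  (hfu : f₀ u = u⁻¹) (hfc : f₀ c = c⁻¹) (hfw : f₀ w = w) (hy : y ∈ lcsF G (n - 3)) (hyE : y ∉ E) (hyc : ⁅y, u⁆ = c)
  (hgen : ∀ x ∈ E ⊓ lcsF G 2, ∃ i j : ℕ, x = c ^ i * w ^ j)

/-- The stage `j` of the tower in scenario B. -/
def PB (S : Sys G) (n : ℕ) (E : Subgroup G) (u : G) (f₀ : G → G) (j : ℕ) : Prop :=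
  ∃ f, S.Mp (Q u j) f ∧ (∀ x ∈ E, f x = f₀ x) ∧ (∀ x ∈ Q u j, f x ∈ Q u j) ∧ ∀ k, j ≤ k → k ≤ n - 2 → ∀ x ∈ lcsF G k, f x ∈ lcsF G k

/-- The last contradiction: an inverted element of `Φ (n - 1)`. -/
theorem final_B (h : MC p n G) (h5 : 5 ≤ n) (hodd : p ≠ 2) {E : Subgroup G} (hE : EE p E) {u c w : G} {f₀ : G → G}
    (hph : PH E f₀) (hcW : c ∈ E ⊓ Φ 2) (hwW : w ∈ E ⊓ Φ 2) (hfc : f₀ c = c⁻¹) (hfw : f₀ w = w)
    (hgen : ∀ x ∈ E ⊓ Φ 2, ∃ i j : ℕ, x = c ^ i * w ^ j) (hu2 : u ∈ E) (hu3 : u ∉ Φ 2)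
    (hc1 : c ∉ Φ (n - 1)) {z : G} (hz : z ∈ Φ (n - 1)) (hz1 : z ≠ 1) (hfz : f₀ z = z⁻¹) : False := by
  have hzE : z ∈ E := Z1_le h hE hz
  obtain ⟨i, j, rfl⟩ := hgen z ⟨hzE, Phi_anti (by omega) hz⟩
  have hcE := hcW.1
  have hwE := hwW.1
  rw [hph.mul _ (E.pow_mem hcE i) _ (E.pow_mem hwE j), hph.pow hcE, hph.pow hwE, hfc, hfw, mul_inv_rev] at hfz
  have hcomm : Commute ((c⁻¹) ^ i) (w ^ j) := by
    have h0 : Commute c w := hE.comm c hcE w hwE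
    exact (h0.inv_left.pow_left i).pow_right j
  have e1 : (w ^ j) * (w ^ j) = 1 := by
    have e2 : (w ^ j) * ((c⁻¹) ^ i) = ((c⁻¹) ^ i) * (w ^ j) := hcomm.symm.eq
    rw [inv_pow] at hfz e2
    have e3 : (c ^ i)⁻¹ * w ^ j = (w ^ j)⁻¹ * (c ^ i)⁻¹ := hfz
    have e4 : (c ^ i)⁻¹ * w ^ j = (c ^ i)⁻¹ * (w ^ j)⁻¹ := by
      rw [e3]
      have hc2 : Commute (w ^ j)⁻¹ (c ^ i)⁻¹ := by
        have h0 : Commute c w := hE.comm c hcE w hwE
        exact ((h0.pow_pow i j).symm.inv_inv)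
      exact hc2.eq
    have e5 := mul_left_cancel e4
    calc w ^ j * w ^ j = w ^ j * (w ^ j)⁻¹ := congrArg (fun t => w ^ j * t) e5
      _ = 1 := mul_inv_cancel _
  have hwj : w ^ j = 1 := by
    have hp2 : (w ^ j) ^ p = 1 := by
      rw [← pow_mul, mul_comm, pow_mul, hE.exp w hwE, one_pow]
    obtain ⟨q, hq⟩ := hp.out.odd_of_ne_two hodd
    have h3 : (w ^ j) ^ 2 = 1 := by
      rw [pow_two]
      exact e1
    rw [hq, pow_succ, pow_mul, h3, one_pow, one_mul] at hp2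
    exact hp2
  rw [hwj, mul_one] at hz hz1
  have hcord : orderOf c = p := by
    apply orderOf_eq_prime (hE.exp c hcE)
    rintro rfl
    exact hc1 (one_mem _)
  have hpi : ¬ p ∣ i := by
    intro hd
    exact hz1 (pow_eq_one_of_dvd (hE.exp c hcE) hd)
  have hcop : Nat.Coprime i (orderOf c) := by
    rw [hcord]
    exact ((Nat.Prime.coprime_iff_not_dvd hp.out).2 hpi).symm
  obtain ⟨m, hm⟩ := exists_pow_eq_self_of_coprime hcop
  apply hc1
  rw [← hm]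
  exact (Φ (n - 1)).pow_mem hz m

include h h5 hE hFN hcent hodd hG in
/-- The normalizer in the tower. -/
theorem normalizer_Qj {j : ℕ} (hj : 3 ≤ j) (hjn : j ≤ n - 3) : normalizer ((Q u j : Subgroup G) : Set G) = Q u (j - 1) := by
  rw [normalizer_Q (hE.exp u hG.mem) hG.not2 (by omega), hG.K j hj hjn]

include hFN hodd hcent hG in
/-- One step of the tower. -/
theorem stepB (h : MC p n G) (h5 : 5 ≤ n) (hE : EE p E) (hb : Φ (n - 2) ≤ E) (hnotG : u ∉ Mj 2) {j : ℕ} (hj : 4 ≤ j) (hjn : j ≤ n - 3)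
    (hP : PB S n E u f₀ j) : PB S n E u f₀ (j - 1) := by
  obtain ⟨f, hf, e, hfQ, hinv⟩ := hP
  have hup := hE.exp u hG.mem
  have hu2 := hG.not2
  have hnorm := normalizer_Qj S h h5 hodd hE hFN hcent hG (j := j) (by omega) hjn
  have hfn : FN S (Q u j) := fn_Q S h h5 hE hFN hcent hG (by omega) hjn hodd
  obtain ⟨f', hf', e'⟩ := ext_Q S (M := n - 2) hfn hup hu2 (by omega) hf hfQ (by omega) hinv (by
    intro g hg x hx
    rw [hnorm] at hg
    obtain ⟨k, z, hz, rfl⟩ := (mem_Q_iff hup).1 hg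
    have h1 : Commute u x := hE.comm u hG.mem x (hb hx)
    have h2 : Commute z x := comm_of_bot h hz hx (by omega)
    exact comm_eq_one ((h1.pow_left k).mul_left h2).eq)
  rw [hnorm] at hf'
  have hph' := S.ph hf'
  have hle : Q u j ≤ Q u (j - 1) := Q_anti u (by omega)
  have hΓ : ∀ x ∈ Q u (j - 1), f' x ∈ Q u (j - 1) := by
    intro x hx
    have hI : IsImg (Q u j) f' (Q u j) := isImg_self hph' hle (fun x hx => by rw [e' x hx]; exact hfQ x hx)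
    have := map_normalizer hph' hle hI hx (by rw [hnorm]; exact hx)
    rwa [hnorm] at this
  have hEj : E ≤ Q u j := by
    have h1 : E ≤ Q u (n - 3) := by
      rw [← hG.norm]
      exact Subgroup.le_normalizer
    exact h1.trans (Q_anti u hjn)
  refine ⟨f', hf', fun x hx => by rw [e' x (hEj hx), e x hx], hΓ, ?_⟩
  have hge : ∀ k, j ≤ k → k ≤ n - 2 → ∀ x ∈ Φ k, f' x ∈ Φ k := by
    intro k hk hkn x hx
    rw [e' x ((Phi_anti hk).trans (phi_le_Q u j) hx)]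
    exact hinv k hk hkn x hx
  intro k hk hkn x hx
  by_cases hkj : j ≤ k
  · exact hge k hkj hkn x hx
  obtain rfl : k = j - 1 := by omega
  -- the new term
  set k₀ := max j (n + 1 - j) with hk₀
  have hk₀1 : j ≤ k₀ := le_max_left _ _
  have hk₀2 : n + 1 - j ≤ k₀ := le_max_right _ _
  have hk₀3 : k₀ + 3 ≤ n := by
    rw [hk₀]
    omega
  have hQk : Φ k₀ ≤ Q u (j - 1) := ((Phi_anti (by omega)).trans (phi_le_Q u j)).trans hle
  obtain ⟨a, z, hz, e2⟩ := (mem_Q_iff hup).1 (hΓ x (phi_le_Q u _ hx))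
  have hpa : p ∣ a := by
    by_contra hpa
    have hcop : Nat.Coprime a (orderOf u) := by
      rw [orderOf_u hup hu2]
      exact ((Nat.Prime.coprime_iff_not_dvd hp.out).2 hpa).symm
    obtain ⟨m, hm⟩ := exists_pow_eq_self_of_coprime hcop
    apply hnotG
    refine mem_Mj2_of h h5 hodd (m := k₀) (by omega) hk₀3 ?_
    rw [mem_Mj]
    intro t ht
    obtain ⟨t₀, ht₀, rfl⟩ := hph'.surj_of_le hQk (hge k₀ hk₀1 (by omega)) ht
    have h1 : ⁅x, t₀⁆ = 1 := comm_eq_one (comm_of_bot h hx ht₀ (by omega))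
    have h2 : ⁅f' x, f' t₀⁆ = 1 := by
      rw [← hph'.comm (phi_le_Q u _ hx) (hQk ht₀), h1, hph'.one]
    have h3 : Commute (u ^ a * z) (f' t₀) := by
      rw [← e2]
      exact commutatorElement_eq_one_iff_mul_comm.1 h2
    have h4 : Commute z (f' t₀) := comm_of_bot h hz (hge k₀ hk₀1 (by omega) t₀ ht₀) (by omega)
    have h5' : Commute (u ^ a) (f' t₀) := by
      have e3 : (u ^ a * z) * (f' t₀) = (f' t₀) * (u ^ a * z) := h3
      have e4 : z * (f' t₀) = (f' t₀) * z := h4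
      show u ^ a * f' t₀ = f' t₀ * u ^ a
      have e5 : u ^ a * f' t₀ * z = f' t₀ * u ^ a * z := by
        calc u ^ a * f' t₀ * z = u ^ a * (f' t₀ * z) := by group
          _ = u ^ a * (z * f' t₀) := by rw [e4]
          _ = (u ^ a * z) * f' t₀ := by group
          _ = f' t₀ * (u ^ a * z) := e3
          _ = _ := by group
      exact mul_right_cancel e5
    have h6 : Commute u (f' t₀) := by
      have := h5'.pow_left m
      rwa [hm] at this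
    rw [comm_eq_one h6.symm.eq]
    exact one_mem _
  rw [e2, pow_eq_one_of_dvd hup hpa, one_mul]
  exact hz

include h h5 hE hG hf₀ hcW hwW hfu hfc hfw hgen hFN hodd hy hyE hyc hcent in
/-- **Scenario B.** -/
theorem scenB (hB : ScenB p n E u) : False := by
  have hup := hE.exp u hG.mem
  have hu2 := hG.not2
  have hb := hB.hb
  have hph₀ := S.ph hf₀
  have hW0 := f0_W S h h5 hE hG hf₀ hcW hwW hfu hfc hfw hgen
  have hEQ := caseb_eq h h5 hE hb hG.mem hu2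
  have hWn : ∀ x ∈ E ⊓ Φ 2, x ∈ Φ (n - 2) := by
    intro x hx
    have h1 : x ∈ Q u (n - 2) := by
      rw [hEQ]
      exact hx.1
    exact mem_of_mem_Q hup hu2 (by omega) h1 hx.2
  have hcn := hWn c hcW
  have hc1 : c ∉ Φ (n - 1) := by
    rw [← hyc]
    exact hB.comm y hy (fun h1 => hyE (hb h1))
  have hnG := hB.notG
  have h6 := hB.six
  obtain ⟨f₁, hf₁, e₁, hN₁⟩ := stage_N S h h5 hE hFN hG hf₀ hcW hwW hfu hfc hfw hgen
  have hA₁ := stage_A S h h5 hE hFN hG hf₀ hcW hwW hfu hfc hfw hgen hf₁ e₁ hN₁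
  have hW₁ : ∀ x ∈ Φ (n - 2), f₁ x ∈ Φ (n - 2) := by
    intro x hx
    have hxW : x ∈ E ⊓ Φ 2 := ⟨hb hx, Phi_anti (by omega) hx⟩
    rw [e₁ x hxW.1]
    exact hWn _ (hW0 x hxW)
  have hP0 : PB S n E u f₀ (n - 3) := by
    refine ⟨f₁, hf₁, e₁, hN₁, ?_⟩
    intro k hk hkn
    by_cases h1 : k = n - 3
    · subst h1
      exact hA₁
    · obtain rfl : k = n - 2 := by omega
      exact hW₁
  have hdesc : ∀ d, 3 ≤ n - 3 - d → PB S n E u f₀ (n - 3 - d) := by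
    intro d
    induction d with
    | zero =>
      intro _
      exact hP0
    | succ d ih =>
      intro hd
      have h1 := ih (by omega)
      have h2 := stepB S hodd hFN hcent hG h h5 hE hb hnG (j := n - 3 - d) (by omega) (by omega) h1
      rwa [show n - 3 - d - 1 = n - 3 - (d + 1) by omega] at h2
  obtain ⟨r₀, hr₀⟩ := hB.even
  obtain ⟨F, hF⟩ := hB.frame
  have hFr : ∀ r, 2 ≤ r → 2 * r + 2 = n → aa F (r + 1) r ≠ 0 := by
    intro r hr hrn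
    have := hF (r + 1) (by omega) (by omega)
    rwa [show n - 1 - (r + 1) = r by omega] at this
  have hum : ∀ k, 2 ≤ k → k + 3 ≤ n → u ∉ Mj k := by
    intro k hk hkn hu
    exact hnG (mem_Mj2_of h h5 hodd hk hkn hu)
  by_cases hr3 : 3 ≤ r₀ - 1
  · -- `n ≥ 8`
    have hP := hdesc (n - 3 - (r₀ - 1)) (by omega)
    rw [show n - 3 - (n - 3 - (r₀ - 1)) = r₀ - 1 by omega] at hP
    obtain ⟨f, hf, e, hfQ, hinv⟩ := hP
    obtain ⟨hz, hz1, hfz⟩ := sb_main F (r := r₀ - 1) (by omega) (by omega) (hFr _ (by omega) (by omega)) (S.ph hf) hinv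
      (by rw [e u hG.mem, hfu]) (fun k hk hkn => hum k (by omega) hkn) hcn hc1 (by rw [e c hcW.1, hfc])
    exact final_B h h5 hodd hE hph₀ hcW hwW hfc hfw hgen hG.mem hu2 hc1 hz hz1
      (by rw [← e _ (Z1_le h hE hz)]; exact hfz)
  · -- `n = 6`
    have hn : n = 6 := by omega
    subst hn
    have hP := hP0
    obtain ⟨f₁', hf₁', e₁', hN₁', hinv⟩ := hP
    replace hf₁' : S.Mp (Q u 3) f₁' := hf₁'
    replace hN₁' : ∀ x ∈ Q u 3, f₁' x ∈ Q u 3 := hN₁'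
    have hnorm : normalizer ((Q u 3 : Subgroup G) : Set G) = Q u 2 := by
      rw [normalizer_Q hup hu2 (by omega)]
      exact K_three h (by omega) hu2
    have hfn : FN S (Q u 3) := fn_Q S h h5 hE hFN hcent hG (j := 3) le_rfl (by omega) hodd
    have h34 : ∀ k, 3 ≤ k → k ≤ 4 → ∀ x ∈ Φ k, f₁' x ∈ Φ k := fun k hk hk' => hinv k hk hk'
    obtain ⟨f₂, hf₂, e₂⟩ := ext_Q S (j := 3) (M := 4) hfn hup hu2 (by omega) hf₁' hN₁' (by omega) h34 (by
      intro g hg x hx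
      rw [hnorm] at hg
      obtain ⟨k, z, hz, rfl⟩ := (mem_Q_iff hup).1 hg
      have h1 : Commute u x := hE.comm u hG.mem x (hb hx)
      have h2 : Commute z x := comm_of_bot h hz hx (by omega)
      exact comm_eq_one ((h1.pow_left k).mul_left h2).eq)
    rw [hnorm] at hf₂
    have hph₂ := S.ph hf₂
    have h32 : Q u 3 ≤ Q u 2 := Q_anti u (by omega)
    have hΓ : ∀ x ∈ Q u 2, f₂ x ∈ Q u 2 := by
      intro x hx
      have hI : IsImg (Q u 3) f₂ (Q u 3) := isImg_self hph₂ h32 (fun x hx => by rw [e₂ x hx]; exact hN₁' x hx)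
      have := map_normalizer hph₂ h32 hI hx (by rw [hnorm]; exact hx)
      rwa [hnorm] at this
    have hEQ3 : E ≤ Q u 3 := by
      have h1 : E ≤ Q u (6 - 3) := by
        rw [← hG.norm]
        exact Subgroup.le_normalizer
      exact h1
    have huQ2 := u_mem_Q u 2
    have hfE : ∀ x ∈ E, f₂ x = f₀ x := fun x hx => by rw [e₂ x (hEQ3 hx), e₁' x hx]
    have hfu₂ : f₂ u = u⁻¹ := by rw [hfE u hG.mem, hfu]
    have hfc₂ : f₂ c = c⁻¹ := by rw [hfE c hcW.1, hfc]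
    have hfu₂' : f₂ u⁻¹ = u := by rw [hph₂.inv huQ2, hfu₂, inv_inv]
    have hcQ2 : c ∈ Q u 2 := h32 (hEQ3 hcW.1)
    have hfc₂' : f₂ c⁻¹ = c := by rw [hph₂.inv hcQ2, hfc₂, inv_inv]
    have h3₂ : ∀ x ∈ Φ 3, f₂ x ∈ Φ 3 := fun x hx => by
      rw [e₂ x (phi_le_Q u _ hx)]
      exact h34 3 le_rfl (by omega) x hx
    have h4₂ : ∀ x ∈ Φ 4, f₂ x ∈ Φ 4 := fun x hx => by
      rw [e₂ x ((Phi_anti (by omega)).trans (phi_le_Q u 3) hx)]
      exact h34 4 (by omega) le_rfl x hx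
    obtain ⟨a, k, hk, hkf⟩ := exists_iter (p := p) hph₂ hΓ
    have hoddm : Odd (p ^ a) := (hp.out.odd_of_ne_two hodd).pow
    set f₃ := f₂^[p ^ a] with hf₃def
    have hf₃ : S.Mp (Q u 2) f₃ := iter_mp S hf₂ hΓ _
    have hph₃ := S.ph hf₃
    have hΓ₃ : ∀ x ∈ Q u 2, f₃ x ∈ Q u 2 := iter_mem hΓ _
    have hu₃ : f₃ u = u⁻¹ := iter_odd hfu₂ hfu₂' hoddm
    have hc₃ : f₃ c = c⁻¹ := iter_odd hfc₂ hfc₂' hoddm
    have h3₃ : ∀ x ∈ Φ 3, f₃ x ∈ Φ 3 := iter_mem h3₂ _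
    have h4₃ : ∀ x ∈ Φ 4, f₃ x ∈ Φ 4 := iter_mem h4₂ _
    have hyf : f₃ y * y⁻¹ ∈ E ⊓ Φ 2 :=
      y_fixed h h5 hE hG (f := f₃) (hph₃.mono h32) h3₃ hu₃ hy hyE (by rw [hyc, hc₃])
    have hy4 : y ∉ Φ 4 := fun h1 => hyE (hb h1)
    have hQ3 : Φ 3 ≤ Q u 2 := (Phi_anti (by omega)).trans (phi_le_Q u 2)
    have hμ : cf F 3 (f₃ (F.x 3)) = 1 :=
      scalar_of_fix F (j := 3) (by omega) (by omega) hQ3 hph₃ h3₃ h4₃ hy hy4 (hWn _ hyf)
    have hW2 := F.hW 2 le_rfl (by omega)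
    have hkey := gamma_step F hodd hup hu2 hph₃ hΓ₃ h3₃ hu₃ hk hkf (j₀ := 3) (by omega) (by omega)
      (fun a ha => cm' ha (mem_one u) (by omega)) (fun a ha => cm' ha (mem_one u) (by omega))
      (by
        intro h1
        apply hnG
        rw [h.mem_Mj_iff le_rfl (by omega) hW2, D_mem_iff]
        exact h1) h3₃ h4₃ hμ
    have h2₃ : ∀ x ∈ Φ 2, f₃ x ∈ Φ 2 :=
      inv_of_gen h (j := 2) le_rfl (by omega) (phi_le_Q u 2) hph₃ hW2 hkey.1 h3₃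
    obtain ⟨hz, hz1, hfz⟩ := sb_main F (r := 2) le_rfl (by omega) (hFr 2 le_rfl (by omega)) hph₃
      (by
        intro k hk1 hk2
        have hk3 : k ≤ 4 := hk2
        interval_cases k
        · exact h2₃
        · exact h3₃
        · exact h4₃)
      hu₃ (fun k hk hkn => hum k (by omega) hkn) hcn hc1 hc₃
    have hw₃ : f₃ w = w := Function.iterate_fixed (show f₂ w = w by rw [hfE w hwW.1, hfw]) _
    exact final_B h h5 hodd hE (hph₃.mono (hEQ3.trans h32)) hcW hwW hc₃ hw₃ hgen hG.mem hu2 hc1 hz hz1 hfz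

end tower

/-- **The theorem of the tower.** -/
theorem tower_false (S : Sys G) (h : MC p n G) (h5 : 5 ≤ n) (hodd : p ≠ 2) {E : Subgroup G} (hE : EE p E) (hFN : FN S E)
    (hcent : ∀ f B, S.Mp E f → IsImg E f B → ∀ g : G, (∀ a ∈ B, g * a = a * g) → g ∈ B)
    {u c w y : G} {f₀ : G → G} (hf₀ : S.Mp E f₀) (hu : u ∈ E) (hu2 : u ∉ Φ 2) (hcW : c ∈ E ⊓ Φ 2) (hwW : w ∈ E ⊓ Φ 2)
    (hfu : f₀ u = u⁻¹) (hfc : f₀ c = c⁻¹) (hfw : f₀ w = w) (hy : y ∈ Φ (n - 3)) (hyE : y ∉ E) (hyc : ⁅y, u⁆ = c)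
    (hgen : ∀ x ∈ E ⊓ Φ 2, ∃ i j : ℕ, x = c ^ i * w ^ j) (hy2 : ¬ Φ (n - 2) ≤ E → y ∈ Φ (n - 2)) : False := by
  obtain ⟨hG, hS⟩ := main_struct h h5 hE hodd hu hu2
  rcases hS with hA | hB
  · rcases hA.small with hn | hn
    · exact scenA5 S h h5 hodd hE hFN hG hf₀ hcW hwW hfu hfc hfw hy hyE hyc hgen hn hA
    · refine scenA6 S h h5 hodd hE hFN hcent hG hf₀ hcW hwW hfu hfc hfw hy hyE hyc hgen hn hA ?_
      subst hn
      apply hy2
      intro h1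
      obtain ⟨x, hx⟩ := h.exists_W (j := 4) (by omega) (by omega)
      exact hx.2 (hA.W4 x (h1 hx.1) hx.1)
  · exact scenB S h h5 hodd hE hFN hcent hG hf₀ hcW hwW hfu hfc hfw hy hyE hyc hgen hB

end Cfsg.Agent.Lib.MCEss.Tower4
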